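import Cfsg.Agent.Lib.Comp.Subst

/-!
# Passing to letters defined by words
-/

namespace Cfsg.Lib.Comp

universe u

/-- Expansion of the letters. -/
noncomputable def xpd (V : List (List ℕ)) (w : List ℕ) : List ℕ :=
  List.rec (motive := fun _ => List ℕ) [] (fun a _ ih => apd (nth [] V a) ih) w

/-- Free reduction. -/
noncomputable def frd (iv : ℕ → ℕ) (w : List ℕ) : List ℕ :=
  List.rec (motive := fun _ => List ℕ) [] (fun a _ ih => List.rec (motive := fun _ => List ℕ) [a]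
    (fun b s _ => cnd (Nat.ble 64 a) (a :: b :: s) (cnd (Nat.beq b (iv a)) s (a :: b :: s))) ih) w

section
variable {Γ : Type*} [Group Γ] {γ : ℕ → Γ} {iv iv' : ℕ → ℕ} {V : List (List ℕ)} {R R' : List (List ℕ × ℕ)}

theorem ev_xpd (γ : ℕ → Γ) (V : List (List ℕ)) (w : List ℕ) : ev γ (xpd V w) = ev (sv γ V) w := by
  induction w with
  | nil => rfl
  | cons a t ih => rw [ev_cons, ← ih]; exact (congrArg _ (apd_eq _ _)).trans (ev_append _ _ _)

theorem ev_frd (h : IvOK γ iv) (w : List ℕ) : ev γ (frd iv w) = ev γ w := by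
  induction w with
  | nil => rfl
  | cons a t ih =>
    have e : frd iv (a :: t) = List.rec (motive := fun _ => List ℕ) [a]
      (fun b s _ => cnd (Nat.ble 64 a) (a :: b :: s) (cnd (Nat.beq b (iv a)) s (a :: b :: s))) (frd iv t) := rfl
    rw [e, ev_cons, ← ih]
    cases frd iv t with
    | nil => rfl
    | cons b s =>
      simp only [cnd_eq, ble_tt, beq_tt]
      split_ifs with h1 h2
      · rfl
      · rw [ev_cons, h2, (h.2 a (by omega)).2, mul_inv_cancel_left]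
      · rfl

/-- The expanded relator is freely trivial or in the list. -/
def InR (iv : ℕ → ℕ) (V : List (List ℕ)) (R : List (List ℕ × ℕ)) (r : List ℕ × ℕ) : Prop :=
  frd iv (xpd V r.1) = [] ∨ (frd iv (xpd V r.1), r.2) ∈ R

noncomputable instance (iv : ℕ → ℕ) (V : List (List ℕ)) (R : List (List ℕ × ℕ)) (r : List ℕ × ℕ) :
    Decidable (InR iv V R r) := by unfold InR; infer_instance

/-- The words `V` satisfy the presentation `(iv', R')`. -/
def SvOK (iv iv' : ℕ → ℕ) (V : List (List ℕ)) (R R' : List (List ℕ × ℕ)) : Prop :=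
  nth [] V 0 = [] ∧ (∀ x < 64, iv' x < 64 ∧ InR iv V R ([iv' x, x], 0)) ∧ ∀ r ∈ R', InR iv V R r

noncomputable instance (iv iv' : ℕ → ℕ) (V : List (List ℕ)) (R R' : List (List ℕ × ℕ)) :
    Decidable (SvOK iv iv' V R R') := by unfold SvOK; infer_instance

theorem InR.rel (h1 : IvOK γ iv) (h2 : Rels γ R) {r : List ℕ × ℕ} (h : InR iv V R r) :
    ev (sv γ V) r.1 ^ (r.2 + 1) = 1 := by
  rw [← ev_xpd, ← ev_frd h1]
  rcases h with h | h
  · rw [h, ev_nil, one_pow]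
  · exact h2 _ h

theorem SvOK.ok (h : SvOK iv iv' V R R') (h1 : IvOK γ iv) (h2 : Rels γ R) :
    IvOK (sv γ V) iv' ∧ Rels (sv γ V) R' := by
  refine ⟨⟨by rw [sv, h.1, ev_nil], fun x hx => ⟨(h.2.1 x hx).1, ?_⟩⟩, fun r hr => (h.2.2 r hr).rel h1 h2⟩
  have := (h.2.1 x hx).2.rel h1 h2
  rw [zero_add, pow_one, ev_cons, ev_single] at this
  exact eq_inv_of_mul_eq_one_left this

end

variable {iv iv' : ℕ → ℕ} {V : List (List ℕ)} {R R' R'' : List (List ℕ × ℕ)}

theorem Cons.sub (hc : Cons.{u} iv' R' R'') (h : SvOK iv iv' V R R') :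
    Cons.{u} iv R (R''.map fun r => (frd iv (xpd V r.1), r.2)) := fun Γ _ γ h1 h2 r hr => by
  obtain ⟨s, hs, rfl⟩ := List.mem_map.1 hr
  rw [ev_frd h1, ev_xpd]
  exact hc Γ _ (h.ok h1 h2).1 (h.ok h1 h2).2 s hs

theorem Idx.ord_sub {W : List (List ℕ)} {L L' : List ℕ} {n m : ℕ} (hI : Idx.{u} iv R W L n)
    (ho : Ord.{u} iv' R' L' m) (h : SvOK iv iv' V R R') (hW : ∀ w ∈ W, w ∈ L'.map (nth [] V)) :
    Ord.{u} iv R L (n * m) := fun Γ _ γ h1 h2 => by
  obtain ⟨h3, h4⟩ := ho Γ _ (h.ok h1 h2).1 (h.ok h1 h2).2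
  obtain ⟨h5, h6⟩ := hI.card_le (cl (sv γ V) L') h1 h2 fun w hw => by
    obtain ⟨x, hx, rfl⟩ := List.mem_map.1 (hW w hw)
    exact mem_cl (γ := sv γ V) hx
  exact ⟨h5, h6.trans (Nat.mul_le_mul_left _ h4)⟩

theorem Ord.sub {L : List ℕ} {n : ℕ} (ho : Ord.{u} iv' R' L n) (h : SvOK iv iv' V R R')
    (hL : ∀ x ∈ L, nth [] V x = [x]) : Ord.{u} iv R L n := fun Γ _ γ h1 h2 => by
  have : cl γ L = cl (sv γ V) L := by
    unfold cl; congr 1
    exact Set.image_congr fun x hx => by rw [sv, hL x hx, ev_single]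
  rw [this]
  exact ho Γ _ (h.ok h1 h2).1 (h.ok h1 h2).2

end Cfsg.Lib.Comp
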