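import Cfsg.Agent.Lib.Comp.Out
import Cfsg.Agent.Lib.Comp.Big3

/-!
# Substitution of words for letters: embeddings and automorphisms from presentations
-/

namespace Cfsg.Lib.Comp

universe u

/-- The letters replaced by words. -/
noncomputable def sv {Γ : Type*} [Monoid Γ] (g : ℕ → Γ) (V : List (List ℕ)) (x : ℕ) : Γ := ev g (nth [] V x)

theorem sv_mem {Γ : Type*} [Group Γ] {g : ℕ → Γ} {G : Subgroup Γ} {M : List ℕ} (hM : ∀ x ∈ M, g x ∈ G)
    {V : List (List ℕ)} (h : allL V (fun w => subB w M) = true) (x : ℕ) : sv g V x ∈ G := by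
  unfold sv
  rcases nth_mem [] V x with h1 | h1
  · rw [h1]; exact G.one_mem
  · exact ev_mem fun y hy => hM y (sub_of_allL h _ h1 y hy)

theorem sv_map {Γ Δ : Type*} [Monoid Γ] [Monoid Δ] {g : ℕ → Γ} {d : ℕ → Δ} {f : Γ →* Δ} {M : List ℕ}
    (hf : ∀ x ∈ M, f (g x) = d x) {V : List (List ℕ)} (h : allL V (fun w => subB w M) = true) (x : ℕ) :
    f (sv g V x) = sv d V x := by
  unfold sv
  rw [ev_map]
  rcases nth_mem [] V x with h1 | h1
  · rw [h1]; rfl
  · exact ev_congr _ fun y hy => hf y (sub_of_allL h _ h1 y hy)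

/-- A substituted relator fixes the base points. -/
noncomputable def srelP (tb : ℕ → ℕ → ℕ) (B : List ℕ) (V : List (List ℕ)) (R : List (List ℕ × ℕ)) : Bool :=
  allL R fun r => allL B fun b => Nat.beq (wap2 tb (nth [] V) r.1 (Nat.succ r.2) b) b

/-- Inverse letters after substitution. -/
noncomputable def sivP (tb : ℕ → ℕ → ℕ) (B : List ℕ) (V : List (List ℕ)) (iv : ℕ → ℕ) : Bool :=
  cnd (allL (nth [] V 0) fun _ => false)
    (allN 64 fun x => cnd (Nat.ble (iv x) 63) (srelP tb B V [([x, iv x], 0)]) false) false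

/-- A substituted word equals a plain word. -/
noncomputable def seqP (tb : ℕ → ℕ → ℕ) (B M : List ℕ) (V : List (List ℕ)) (u w : List ℕ) : Bool :=
  cnd (subB w M) (allL B fun b => Nat.beq (wap2 tb (nth [] V) u 1 b) (wap tb w b)) false

section
variable {nets : List Net} {G : Subgroup (Equiv.Perm ℕ)} {B M : List ℕ} {tb : ℕ → ℕ → ℕ} {V : List (List ℕ)}

theorem srels (hB : IsBase G B) (ht : TbA nets tb) (hM : ∀ x ∈ M, gp nets x ∈ G)
    (hV : allL V (fun w => subB w M) = true) {R : List (List ℕ × ℕ)} (h : srelP tb B V R = true) :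
    Rels (sv (gp nets) V) R := by
  intro r hr
  rw [← inv_eq_one]
  refine hB _ (G.inv_mem (G.pow_mem (ev_mem fun x _ => sv_mem hM hV x) _)) fun b hb => ?_
  have := beq_tt.1 (allL_iff.1 (allL_iff.1 h r hr) b hb)
  rw [wap2_eq ht] at this
  exact this

theorem siv (hB : IsBase G B) (ht : TbA nets tb) (hM : ∀ x ∈ M, gp nets x ∈ G)
    (hV : allL V (fun w => subB w M) = true) {iv : ℕ → ℕ} (h : sivP tb B V iv = true) :
    IvOK (sv (gp nets) V) iv := by
  unfold sivP at h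
  rw [cnd_tt, allN_iff] at h
  refine ⟨?_, fun x hx => ?_⟩
  · unfold sv
    rcases h0 : nth [] V 0 with _ | ⟨a, t⟩
    · rfl
    · have := allL_iff.1 h.1 a (by rw [h0]; exact List.mem_cons_self)
      simp at this
  · have h1 := cnd_tt.1 (h.2 x hx)
    refine ⟨by have := ble_tt.1 h1.1; omega, ?_⟩
    have := srels hB ht hM hV h1.2 _ List.mem_cons_self
    simp only [ev_cons, ev_nil, mul_one, zero_add, pow_one] at this
    exact eq_inv_of_mul_eq_one_right this

theorem seq_eq (hB : IsBase G B) (ht : TbA nets tb) (hM : ∀ x ∈ M, gp nets x ∈ G)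
    (hV : allL V (fun w => subB w M) = true) {u w : List ℕ} (h : seqP tb B M V u w = true) :
    ev (sv (gp nets) V) u = ev (gp nets) w := by
  unfold seqP at h
  rw [cnd_tt] at h
  have h1 : ev (sv (gp nets) V) u ∈ G := ev_mem fun x _ => sv_mem hM hV x
  have h2 : ev (gp nets) w ∈ G := ev_mem fun x hx => hM x (sub_of_subB h.1 x hx)
  rw [← mul_inv_eq_one]
  refine hB _ (G.mul_mem h1 (G.inv_mem h2)) fun b hb => ?_
  have := beq_tt.1 (allL_iff.1 h.2 b hb)
  rw [wap2_eq ht, wap_eq ht, pow_one] at this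
  rw [Equiv.Perm.mul_apply, ← this]
  exact app_inv _ _

theorem sv_ne (ht : TbA nets tb) {x p : ℕ} (h : Nat.beq (wap tb (nth [] V x) p) p = false) :
    sv (gp nets) V x ≠ 1 :=
  ne_of_wap (w := []) ht h

end

/-- Transport along a faithful action. -/
theorem Rels.of_inj {Γ Δ : Type*} [Group Γ] [Group Δ] {γ : ℕ → Γ} {δ : ℕ → Δ} {f : Γ →* Δ}
    (hf : Function.Injective f) (h : ∀ x, f (γ x) = δ x) {R : List (List ℕ × ℕ)} (hR : Rels δ R) : Rels γ R := by
  intro r hr
  apply hf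
  rw [map_pow, ev_map, map_one, show (fun x => f (γ x)) = δ from funext h]
  exact hR r hr

theorem IvOK.of_inj {Γ Δ : Type*} [Group Γ] [Group Δ] {γ : ℕ → Γ} {δ : ℕ → Δ} {f : Γ →* Δ}
    (hf : Function.Injective f) (h : ∀ x, f (γ x) = δ x) {iv : ℕ → ℕ} (hR : IvOK δ iv) : IvOK γ iv :=
  ⟨hf (by rw [h, hR.1, map_one]), fun x hx => ⟨(hR.2 x hx).1, hf (by rw [h, map_inv, h, (hR.2 x hx).2])⟩⟩

/-- A simple group with a presentation embeds wherever the relators hold nontrivially. -/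
theorem embed_of_rels {Γ : Type} {Δ : Type u} [Group Γ] [Group Δ] {γ : ℕ → Γ} {δ : ℕ → Δ} {iv : ℕ → ℕ}
    {R : List (List ℕ × ℕ)} {L : List ℕ} {n : ℕ} (hs : IsSimpleGroup (cl γ L)) (h1 : IvOK γ iv) (h2 : Rels γ R)
    (ho : Ord.{u} iv R L n) (hn : n ≤ Nat.card (cl γ L)) (h3 : IvOK δ iv) (h4 : Rels δ R) {x : ℕ} (hx : x ∈ L)
    (hne : δ x ≠ 1) : ∃ e : cl γ L ≃* cl δ L, ∀ (w : List ℕ) (hw : ∀ x ∈ w, x ∈ L),
      (e ⟨ev γ w, ev_mem fun x hx => mem_cl (hw x hx)⟩ : Δ) = ev δ w := by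
  obtain ⟨f, hf⟩ := hom_of_ord.{0, u} ho h1 h2 h3 h4 hn
  have hl : ∀ y (hy : y ∈ L), f ⟨γ y, mem_cl hy⟩ = δ y := fun y hy => by
    have := hf [y] (by simpa using hy)
    simpa [ev_single] using this
  have hi : Function.Injective f := by
    rw [← MonoidHom.ker_eq_bot_iff]
    refine (hs.eq_bot_or_eq_top_of_normal f.ker inferInstance).resolve_right fun h => hne ?_
    rw [← hl x hx, ← MonoidHom.mem_ker, h]; trivial
  have hr : f.range = cl δ L := by
    rw [MonoidHom.range_eq_map, ← cl_sval_top γ L]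
    refine map_cl_of_gen fun y hy => ?_
    rw [← hl y hy]
    exact congrArg f (Subtype.ext (coe_sval (mem_cl hy)))
  exact ⟨(MonoidHom.ofInjective hi).trans (MulEquiv.subgroupCongr hr), fun w hw => hf w hw⟩

/-- The word `w` moves every point `< n`. -/
noncomputable def nofixB (nets : List Net) (k n : ℕ) (w : List ℕ) : Bool :=
  Nat.beq (Nat.land (Nat.rec (motive := fun _ => ℕ) 0
    (fun j A => force (pat k j) fun P => force (Nat.lor A (Nat.xor (wimg nets w P) P)) fun B => B) k) (ones n)) (ones n)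

theorem nofix_of_nofixB {N k n : ℕ} {nets : List Net} (hN : NetsOK N nets) {w : List ℕ}
    (h : nofixB nets k n w = true) {i : ℕ} (hi : i < n) : ev (gp nets) w i ≠ i := by
  intro he
  have h1 := congrArg (fun x => Nat.testBit x i) (beq_tt.1 h)
  have h2 : ∀ m, Nat.testBit (Nat.rec (motive := fun _ => ℕ) 0
      (fun j A => force (pat k j) fun P => force (Nat.lor A (Nat.xor (wimg nets w P) P)) fun B => B) m) i = false := by
    intro m
    induction m with
    | zero => simp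
    | succ m ih =>
      have : (ev (gp nets) w)⁻¹ i = i := by rw [Equiv.Perm.inv_eq_iff_eq, he]
      simp only [force_eq] at ih ⊢
      rw [lor_eq', xor_eq', Nat.testBit_or, ih, Nat.testBit_xor, testBit_wimg hN, this]
      simp
  simp only [land_eq', Nat.testBit_and, h2, testBit_ones, hi, Bool.false_and, decide_true] at h1
  exact absurd h1 (by simp)

/-- An outer automorphism from the presentation: it sends a word with a fixed point to a word without. -/
theorem outer_of_subst {N k n : ℕ} {nets : List Net} (hN : NetsOK N nets) {iv : ℕ → ℕ} {R : List (List ℕ × ℕ)}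
    {L : List ℕ} {m : ℕ} (hs : IsSimpleGroup (cl (gp nets) L)) (h1 : IvOK (gp nets) iv) (h2 : Rels (gp nets) R)
    (ho : Ord.{0} iv R L m) (hm : m ≤ Nat.card (cl (gp nets) L)) {δ : ℕ → Equiv.Perm ℕ}
    (hδ : ∀ x, δ x ∈ cl (gp nets) L) (h3 : IvOK δ iv) (h4 : Rels δ R) {x : ℕ} (hx : x ∈ L) (hne : δ x ≠ 1)
    (hfx : ∀ s ∈ cl (gp nets) L, Fx n s) {u w c : List ℕ} (hc : ∀ x ∈ c, gp nets x ∈ cl (gp nets) L)
    (he : ev δ u * ev (gp nets) c = ev (gp nets) c * ev (gp nets) w)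
    (hb : cnd (subB u L) (cnd (wfixB nets [u] 0) (cnd (Nat.ble 1 n) (nofixB nets k n w) false) false) false = true) :
    ∃ σ : MulAut (cl (gp nets) L), σ ∉ Inn (cl (gp nets) L) := by
  have := hN.finite L
  rw [cnd_tt, cnd_tt, cnd_tt] at hb
  obtain ⟨e, hE⟩ := embed_of_rels hs h1 h2 ho hm h3 h4 hx hne
  have hle : cl δ L ≤ cl (gp nets) L := cl_le.2 fun y _ => hδ y
  have heq : cl δ L = cl (gp nets) L :=
    Subgroup.eq_of_le_of_card_ge hle (Nat.card_congr e.toEquiv).le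
  refine ⟨e.trans (MulEquiv.subgroupCongr heq), ?_⟩
  rintro ⟨g, hg⟩
  have hu := sub_of_subB hb.1
  have a1 := congrArg (fun σ : MulAut (cl (gp nets) L) =>
    ((σ ⟨ev (gp nets) u, ev_mem fun x hx => mem_cl (hu x hx)⟩ : cl (gp nets) L) : Equiv.Perm ℕ)) hg
  have a2 : (g : Equiv.Perm ℕ) * ev (gp nets) u * (g : Equiv.Perm ℕ)⁻¹ = ev δ u := by
    rw [← hE u hu]; exact a1
  have a3 := fix_of_wfixB hN hb.2.1 u List.mem_cons_self
  have hcm : ev (gp nets) c ∈ cl (gp nets) L := ev_mem hc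
  have a4 : (((ev (gp nets) c)⁻¹ * g : Equiv.Perm ℕ) 0) < n :=
    (hfx _ (Subgroup.mul_mem _ (Subgroup.inv_mem _ hcm) g.2)).lt (ble_tt.1 hb.2.2.1)
  refine nofix_of_nofixB hN hb.2.2.2 a4 ?_
  have a5 : ev (gp nets) w * ((ev (gp nets) c)⁻¹ * g) = (ev (gp nets) c)⁻¹ * g * ev (gp nets) u := by
    rw [← a2] at he
    have : ev (gp nets) w = (ev (gp nets) c)⁻¹ * ((g : Equiv.Perm ℕ) * ev (gp nets) u * (g : Equiv.Perm ℕ)⁻¹ *
      ev (gp nets) c) := by rw [he]; group
    rw [this]; group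
  rw [← Equiv.Perm.mul_apply, a5, Equiv.Perm.mul_apply, a3]

end Cfsg.Lib.Comp
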