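import Cfsg.Agent.Lib.Comp.Cen

/-! Centralisers bounded along a stabiliser chain, using also the images of earlier base points. -/

namespace Cfsg.Lib.Comp

open Subgroup

/-- Product over the levels of the number of admissible images of the base point; `B` lists the earlier base points. -/
noncomputable def cenM (f : ℕ → ℕ) (C : List Lev) : List ℕ → ℕ :=
  List.rec (fun _ => 1) (fun l _ r B => (if f l.2.2.1 ∈ B then 1 else (List.range' l.2.2.2.1 l.2.2.2.2).countP
    fun q => Nat.beq (f q) q == Nat.beq (f l.2.2.1) l.2.2.1) * r (l.2.2.1 :: B)) C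

theorem card_cenM {N : ℕ} {nets : List Net} (hN : NetsOK N nets) {z : Equiv.Perm ℕ} {f : ℕ → ℕ}
    (hf : ∀ p, f p = z⁻¹ p) {C : List Lev} {L B : List ℕ} (hC : Exact nets C L)
    (hB : ∀ g ∈ cl (gp nets) L, ∀ q ∈ B, g q = q) :
    Nat.card ↥(cl (gp nets) L ⊓ centralizer {z}) ≤ cenM f C B := by
  induction C generalizing L B with
  | nil =>
    have : cl (gp nets) L ⊓ centralizer {z} = ⊥ := eq_bot_iff.2 fun g hg => hC.nil hN g hg.1
    rw [this, card_bot]; exact le_rfl
  | cons l t ih =>
    obtain ⟨L', o, b, a, n⟩ := l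
    obtain ⟨h1, h2, h3, h4, -, -⟩ := hC.cons hN
    have := hN.finite L
    have : Finite ↥(cl (gp nets) L ⊓ centralizer {z}) := Finite.of_injective _ (inclusion_injective inf_le_left)
    have e1 := card_mul_index ((stab (MonoidHom.id _) b).subgroupOf (cl (gp nets) L ⊓ centralizer {z}))
    have e2 := relIndex_stab (MonoidHom.id _) (cl (gp nets) L ⊓ centralizer {z}) b
    have e3 : Nat.card ((stab (MonoidHom.id _) b).subgroupOf (cl (gp nets) L ⊓ centralizer {z})) =
        Nat.card ↥(cl (gp nets) L' ⊓ centralizer {z}) := by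
      rw [← inf_subgroupOf_right, Nat.card_congr (subgroupOfEquivOfLe inf_le_right).toEquiv]
      congr 2
      ext g
      exact ⟨fun h => ⟨(h3 g h.2.1).1 h.1, h.2.2⟩, fun h =>
        ⟨(h3 g (cl_mono h2 h.1)).2 h.1, cl_mono h2 h.1, h.2⟩⟩
    rw [← e1, e3, mul_comm]
    refine Nat.mul_le_mul ?_ (ih h1 fun g hg => List.forall_mem_cons.2
      ⟨(h3 g (cl_mono h2 hg)).2 hg, hB g (cl_mono h2 hg)⟩)
    change relIndex _ _ ≤ _
    rw [e2]
    dsimp only
    have key : ∀ g ∈ centralizer {z}, f (g b) = g (f b) := fun g hg => by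
      rw [hf, hf, ← Equiv.Perm.mul_apply, ← Equiv.Perm.mul_apply,
        (Commute.inv_right (mem_centralizer_singleton_iff.1 hg)).eq]
    split_ifs with hb
    · refine (Set.ncard_le_ncard (t := {b}) ?_).trans_eq (Set.ncard_singleton b)
      rintro _ ⟨g, hg, rfl⟩
      have := key g hg.2
      rw [hB g hg.1 _ hb, hf, hf] at this
      exact z⁻¹.injective this
    · rw [List.countP_eq_length_filter]
      refine le_trans ?_ (List.toFinset_card_le _)
      rw [← Set.ncard_coe_finset]
      refine Set.ncard_le_ncard ?_ (Finset.finite_toSet _)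
      rintro _ ⟨g, hg, rfl⟩
      simp only [List.coe_toFinset, List.mem_filter, Set.mem_setOf_eq, List.mem_range'_1, beq_iff_eq,
        MonoidHom.id_apply]
      refine ⟨h4 g hg.1, ?_⟩
      rw [key g hg.2, Bool.eq_iff_iff, beq_tt, beq_tt, g.injective.eq_iff]

theorem card_cen_le2 {N : ℕ} {nets : List Net} (hN : NetsOK N nets) {tb : ℕ → ℕ → ℕ} (ht : TbA nets tb)
    (z : List ℕ) {C : List Lev} {L : List ℕ} (hC : Exact nets C L) :
    Nat.card ↥(cl (gp nets) L ⊓ centralizer {ev (gp nets) z}) ≤ cenM (wap tb z) C [] :=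
  card_cenM hN (wap_eq ht z) hC (by simp)

end Cfsg.Lib.Comp
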