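import Cfsg.Agent.Lib.Comp.Big3

/-! Permutation groups given by networks as subgroups of `Perm (Fin n)`. -/

namespace Cfsg.Lib.Comp

open Subgroup

theorem faith_of_fx {n : ℕ} {G : Subgroup (Equiv.Perm ℕ)} (h : ∀ s ∈ G, Fx n s) (g : G)
    (hg : ∀ i < n, G.subtype g i = i) : g = 1 :=
  Subtype.ext (Equiv.ext fun i => (lt_or_ge i n).elim (hg i) (h g g.2 i))

theorem exists_fin_card {Γ : Type*} [Group Γ] {f : Γ →* Equiv.Perm ℕ} {n : ℕ} [NeZero n] (h : TransOn f n)
    (hf : ∀ g, (∀ i < n, f g i = i) → g = 1) {m : ℕ} (hm : Nat.card Γ = n * m) :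
    ∃ (H : Subgroup (Equiv.Perm (Fin n))) (_ : Γ ≃* H), MulAction.IsPretransitive H (Fin n) ∧
      Nonempty (stab f 0 ≃* MulAction.stabilizer H (0 : Fin n)) ∧ Nat.card (MulAction.stabilizer H (0 : Fin n)) = m := by
  obtain ⟨H, e, a, ⟨b⟩⟩ := exists_fin h hf
  refine ⟨H, e, a, ⟨b⟩, ?_⟩
  have := (stab f 0).index_mul_card
  rw [h.index, hm, Nat.card_congr b.toEquiv] at this
  exact Nat.eq_of_mul_eq_mul_left (NeZero.pos n) this

theorem exists_fin_nets {N k n : ℕ} [NeZero n] {nets : List Net} (hN : NetsOK N nets) (hk : N ≤ 2 ^ k) (hn : n ≤ N)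
    {L ops : List ℕ} {b : Bool} (h : cnd (transB nets L ops n) (cnd (fxB N k n nets L) b false) false = true) {m : ℕ}
    (hm : Nat.card (cl (gp nets) L) = n * m) :
    ∃ (H : Subgroup (Equiv.Perm (Fin n))) (_ : cl (gp nets) L ≃* H), MulAction.IsPretransitive H (Fin n) ∧
      Nonempty (stab (cl (gp nets) L).subtype 0 ≃* MulAction.stabilizer H (0 : Fin n)) ∧
        Nat.card (MulAction.stabilizer H (0 : Fin n)) = m := by
  rw [cnd_tt, cnd_tt] at h
  exact exists_fin_card (transOn_of_transB hN (range_subtype _) h.1)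
    (faith_of_fx fun _ => fx_of_fxB hN hk hn h.2.1) hm

end Cfsg.Lib.Comp
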