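import Cfsg.Agent.Lib.Comp.Subst
import Cfsg.Agent.Lib.Comp.Fin

/-!
# Subgroups given by substituted words, pulled back along faithful actions
-/

namespace Cfsg.Lib.Comp

theorem sv_fix {nets : List Net} {tb : ℕ → ℕ → ℕ} (ht : TbA nets tb) {V : List (List ℕ)} {b : ℕ}
    (h : allL V (fun w => Nat.beq (wap tb w b) b) = true) (L : List ℕ) : ∀ s ∈ cl (sv (gp nets) V) L, s b = b := by
  intro s hs
  refine (cl_le (H := stab (MonoidHom.id _) b)).2 (fun x _ => ?_) hs
  rw [mem_stab, MonoidHom.id_apply]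
  unfold sv
  rcases nth_mem [] V x with h1 | h1
  · rw [h1]; rfl
  · have := beq_tt.1 (allL_iff.1 h _ h1)
    rwa [wap_eq ht, Equiv.Perm.inv_eq_iff_eq, eq_comm] at this

theorem comap_iso {Γ Δ : Type*} [Group Γ] [Group Δ] {f : Γ →* Δ} (hf : Function.Injective f) {K : Subgroup Δ}
    (hK : K ≤ f.range) : Nonempty (K.comap f ≃* K) :=
  ⟨((K.comap f).equivMapOfInjective f hf).trans (MulEquiv.subgroupCongr (Subgroup.map_comap_eq_self hK))⟩

theorem exists_sub_iso {Γ Γ' Δ : Type*} [Group Γ] [Group Γ'] [Group Δ] {f : Γ →* Δ} (hf : Function.Injective f)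
    {K : Subgroup Δ} (hK : K ≤ f.range) (e : Γ ≃* Γ') : ∃ K' : Subgroup Γ', Nonempty (K' ≃* K) := by
  obtain ⟨e1⟩ := comap_iso hf hK
  exact ⟨(K.comap f).map e.toMonoidHom, ⟨(e.subgroupMap _).symm.trans e1⟩⟩

/-- A subgroup of the point stabiliser, with its index. -/
theorem sub_stab {Γ Γ' : Type*} [Group Γ] [Finite Γ] [Group Γ'] {f : Γ →* Equiv.Perm ℕ} (hf : Function.Injective f) {n c : ℕ}
    (ht : TransOn f n) {K : Subgroup (Equiv.Perm ℕ)} (hK : K ≤ f.range) (h0 : ∀ s ∈ K, s 0 = 0)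
    (hc : Nat.card Γ = n * (c * Nat.card K)) (e : stab f 0 ≃* Γ') :
    ∃ N : Subgroup Γ', N.index = c ∧ Nonempty (N ≃* K) := by
  have hi : Function.Injective (f.comp (stab f 0).subtype) := hf.comp Subtype.val_injective
  have hK' : K ≤ (f.comp (stab f 0).subtype).range := fun s hs => by
    obtain ⟨g, rfl⟩ := hK hs
    exact ⟨⟨g, mem_stab.2 (h0 _ hs)⟩, rfl⟩
  obtain ⟨N, ⟨e1⟩⟩ := exists_sub_iso hi hK' e
  refine ⟨N, ?_, ⟨e1⟩⟩
  have h1 := (stab f 0).card_mul_index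
  have h2 := N.card_mul_index
  have hn : 0 < n := by rw [← ht.index]; exact Nat.pos_of_ne_zero Subgroup.FiniteIndex.index_ne_zero
  rw [ht.index, hc, mul_comm] at h1
  have h3 := Nat.eq_of_mul_eq_mul_left hn h1
  rw [← Nat.card_congr e.toEquiv, h3, Nat.card_congr e1.toEquiv, mul_comm c] at h2
  have : Finite K := by
    have : Finite Γ' := Finite.of_equiv _ e.toEquiv
    exact Finite.of_equiv _ e1.toEquiv
  exact Nat.eq_of_mul_eq_mul_left Nat.card_pos h2

theorem inj_of_simple {Γ Δ : Type*} [Group Γ] [Group Δ] (hs : IsSimpleGroup Γ) {f : Γ →* Δ} {g : Γ} (h : f g ≠ 1) :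
    Function.Injective f := by
  rw [← MonoidHom.ker_eq_bot_iff]
  refine (hs.eq_bot_or_eq_top_of_normal f.ker inferInstance).resolve_right fun e => h ?_
  rw [← MonoidHom.mem_ker, e]; trivial

theorem range_of_gen {Γ Δ : Type*} [Group Γ] [Group Δ] {γ : ℕ → Γ} {δ : ℕ → Δ} {f : Γ →* Δ} {L : List ℕ}
    (ht : cl γ L = ⊤) (h : ∀ x ∈ L, f (γ x) = δ x) : f.range = cl δ L := by
  rw [MonoidHom.range_eq_map, ← ht, map_cl_of_gen h]

theorem inj_of_trans {Γ : Type*} [Group Γ] (hs : IsSimpleGroup Γ) {f : Γ →* Equiv.Perm ℕ} {n : ℕ} (h : TransOn f n)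
    (hn : 1 < n) : Function.Injective f := by
  rw [← MonoidHom.ker_eq_bot_iff]
  refine (hs.eq_bot_or_eq_top_of_normal f.ker inferInstance).resolve_right fun e => ?_
  have h1 : stab f 0 = ⊤ := top_le_iff.1 fun g _ => mem_stab.2 (by
    have : f g = 1 := by rw [← MonoidHom.mem_ker, e]; trivial
    rw [this]; rfl)
  have := h.index
  rw [h1, Subgroup.index_top] at this
  omega

end Cfsg.Lib.Comp
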