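import Cfsg.Agent.Lib.Comp.Sym8

/-! Counting fixed points. -/

set_option maxHeartbeats 400000

namespace Cfsg.Lib.Comp

open MulAction Subgroup

variable {G : Type*} [Group G] {X : Type*} [MulAction G X]

theorem fix_orbit_le [Finite G] (x : X) (t : G) :
    {y | y ∈ orbit G x ∧ t • y = y}.ncard ≤ Nat.card (centralizer {t}) := by
  classical
  have hf : {y | y ∈ orbit G x ∧ t • y = y}.Finite := (Set.finite_range _).subset fun _ h => h.1
  have h := @count_le G _ _ X G _ (MulAction.compHom G (MulAut.conj : G →* MulAut G)) x t hf.toFinset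
    (Set.toFinite (stabilizer G x : Set G)).toFinset (fun y hy => (hf.mem_toFinset.1 hy).1) fun g hg => by
      rw [Set.Finite.mem_toFinset]
      change (g⁻¹ * t * g⁻¹⁻¹) • x = x
      rw [inv_inv, mul_smul, mul_smul, (hf.mem_toFinset.1 hg).2, inv_smul_smul]
  have e : @stabilizer G G _ (MulAction.compHom G (MulAut.conj : G →* MulAut G)) t = centralizer {t} :=
    Subgroup.ext fun g => by
      rw [mem_centralizer_singleton_iff]
      exact mul_inv_eq_iff_eq_mul
  rw [e, ← Set.ncard_eq_toFinset_card _ hf, ← Set.ncard_eq_toFinset_card, mul_comm] at h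
  exact Nat.le_of_mul_le_mul_right h (Nat.card_pos (α := stabilizer G x))

theorem fix_mod [Finite X] {p : ℕ} [Fact p.Prime] {S : Set X} {u : G} (hu : u ^ p = 1) (hS : ∀ y ∈ S, u • y ∈ S) :
    S.ncard ≡ {y | y ∈ S ∧ u • y = y}.ncard [MOD p] := by
  classical
  have := Fintype.ofFinite S
  let f : Function.End S := fun y => ⟨u • y.1, hS _ y.2⟩
  have h : ∀ n y, ((f ^ n) y).1 = u ^ n • y.1 := fun n => by
    induction n with
    | zero => intro y; simp [Function.End.one_def]
    | succ n ih => intro y; rw [pow_succ, pow_succ, mul_smul]; exact ih (f y)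
  have h2 := Equiv.Perm.card_fixedPoints_modEq (f := f) (p := p) (n := 1)
    (funext fun y => Subtype.ext (by rw [h, pow_one, hu, one_smul]; rfl))
  rw [← Nat.card_eq_fintype_card, ← Nat.card_eq_fintype_card, Nat.card_coe_set_eq, Nat.card_coe_set_eq,
    ← Set.ncard_image_of_injective _ Subtype.val_injective] at h2
  convert h2 using 2
  ext y
  exact ⟨fun h => ⟨⟨y, h.1⟩, Subtype.ext h.2, rfl⟩, by rintro ⟨y, h, rfl⟩; exact ⟨y.2, congrArg Subtype.val h⟩⟩

theorem sq_dvd_of_comm {p : ℕ} [hp : Fact p.Prime] {K : Subgroup G} [Finite K] {b c : G} (hb : b ∈ K) (hc : c ∈ K)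
    (h1 : orderOf b = p) (h2 : orderOf c = p) (h : Commute b c) (h3 : c ∉ zpowers b) : p ^ 2 ∣ Nat.card K := by
  have a : ∀ {b : G}, orderOf b = p → IsPGroup p (zpowers b) := fun h =>
    IsPGroup.of_card (n := 1) (by rw [Nat.card_zpowers, h, pow_one])
  have hQ : zpowers b ⊔ zpowers c ≤ K := sup_le (zpowers_le.2 hb) (zpowers_le.2 hc)
  have : Finite ↥(zpowers b ⊔ zpowers c) := Finite.of_injective _ (inclusion_injective hQ)
  obtain ⟨n, hn⟩ := IsPGroup.iff_card.1 ((a h1).to_sup_of_normal_left' (a h2) (zpowers_le.2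
    (centralizer_le_normalizer _ fun x hx => by obtain ⟨i, rfl⟩ := hx; exact (h.zpow_left i).eq)))
  refine ((pow_dvd_pow p ?_).trans hn.symm.dvd).trans (card_dvd_of_le hQ)
  by_contra hl
  refine h3 ((eq_of_le_of_card_ge (le_sup_left : zpowers b ≤ zpowers b ⊔ zpowers c) ?_).ge
    (mem_sup_right (mem_zpowers c)))
  rw [hn, Nat.card_zpowers, h1]
  exact (Nat.pow_le_pow_right hp.out.pos (by omega : n ≤ 1)).trans_eq (pow_one p)

end Cfsg.Lib.Comp
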