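import Cfsg.Agent.Lib.Comp.Chain

/-! Transposition networks for tables with 16-bit entries. -/

namespace Cfsg.Lib.Comp

/-- Joining chunks of a big literal. -/
def J (k a b : ℕ) : ℕ := Nat.lor a (Nat.shiftLeft b k)

def prs1 : List (ℕ × ℕ) := [(0, 4), (1, 4), (2, 4), (3, 4)]
theorem tr1 : TrOK 1 4 prs1 := trOK_of (by decide +kernel) (allN_iff.1 (by decide +kernel))

def prs2 : List (ℕ × ℕ) := [(0, 4), (1, 5), (2, 4), (3, 5)]
theorem tr2 : TrOK 2 4 prs2 := trOK_of (by decide +kernel) (allN_iff.1 (by decide +kernel))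

def prs3 : List (ℕ × ℕ) := [(0, 4), (1, 5), (2, 6), (3, 4), (4, 5), (5, 6)]
theorem tr3 : TrOK 3 4 prs3 := trOK_of (by decide +kernel) (allN_iff.1 (by decide +kernel))

def prs4 : List (ℕ × ℕ) := [(0, 4), (1, 5), (2, 6), (3, 7)]
theorem tr4 : TrOK 4 4 prs4 := trOK_of (by decide +kernel) (allN_iff.1 (by decide +kernel))

def prs5 : List (ℕ × ℕ) := [(0, 4), (1, 5), (2, 6), (3, 7), (4, 8), (5, 8), (6, 8), (7, 8)]
theorem tr5 : TrOK 5 4 prs5 := trOK_of (by decide +kernel) (allN_iff.1 (by decide +kernel))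

def prs6 : List (ℕ × ℕ) := [(0, 4), (1, 5), (2, 6), (3, 7), (4, 8), (5, 9), (6, 8), (7, 9)]
theorem tr6 : TrOK 6 4 prs6 := trOK_of (by decide +kernel) (allN_iff.1 (by decide +kernel))

def prs7 : List (ℕ × ℕ) := [(0, 4), (1, 5), (2, 6), (3, 7), (4, 8), (5, 9), (6, 10), (7, 8), (8, 9), (9, 10)]
theorem tr7 : TrOK 7 4 prs7 := trOK_of (by decide +kernel) (allN_iff.1 (by decide +kernel))

def prs8 : List (ℕ × ℕ) := [(0, 4), (1, 5), (2, 6), (3, 7), (4, 8), (5, 9), (6, 10), (7, 11)]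
theorem tr8 : TrOK 8 4 prs8 := trOK_of (by decide +kernel) (allN_iff.1 (by decide +kernel))

def prs9 : List (ℕ × ℕ) := [(0, 4), (1, 5), (2, 6), (3, 7), (4, 8), (5, 9), (6, 10), (7, 11), (8, 12), (9, 12), (10, 12), (11, 12)]
theorem tr9 : TrOK 9 4 prs9 := trOK_of (by decide +kernel) (allN_iff.1 (by decide +kernel))

def prs10 : List (ℕ × ℕ) := [(0, 4), (1, 5), (2, 6), (3, 7), (4, 8), (5, 9), (6, 10), (7, 11), (8, 12), (9, 13), (10, 12), (11, 13)]
theorem tr10 : TrOK 10 4 prs10 := trOK_of (by decide +kernel) (allN_iff.1 (by decide +kernel))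

def prs11 : List (ℕ × ℕ) := [(0, 4), (1, 5), (2, 6), (3, 7), (4, 8), (5, 9), (6, 10), (7, 11), (8, 12), (9, 13), (10, 14), (11, 12), (12, 13), (13, 14)]
theorem tr11 : TrOK 11 4 prs11 := trOK_of (by decide +kernel) (allN_iff.1 (by decide +kernel))

def prs12 : List (ℕ × ℕ) := [(0, 4), (1, 5), (2, 6), (3, 7), (4, 8), (5, 9), (6, 10), (7, 11), (8, 12), (9, 13), (10, 14), (11, 15)]
theorem tr12 : TrOK 12 4 prs12 := trOK_of (by decide +kernel) (allN_iff.1 (by decide +kernel))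

def prs13 : List (ℕ × ℕ) := [(0, 4), (1, 5), (2, 6), (3, 7), (4, 8), (5, 9), (6, 10), (7, 11), (8, 12), (9, 13), (10, 14), (11, 15), (12, 16), (13, 16), (14, 16), (15, 16)]
theorem tr13 : TrOK 13 4 prs13 := trOK_of (by decide +kernel) (allN_iff.1 (by decide +kernel))

def prs14 : List (ℕ × ℕ) := [(0, 4), (1, 5), (2, 6), (3, 7), (4, 8), (5, 9), (6, 10), (7, 11), (8, 12), (9, 13), (10, 14), (11, 15), (12, 16), (13, 17), (14, 16), (15, 17)]
theorem tr14 : TrOK 14 4 prs14 := trOK_of (by decide +kernel) (allN_iff.1 (by decide +kernel))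

def prs15 : List (ℕ × ℕ) := [(0, 4), (1, 5), (2, 6), (3, 7), (4, 8), (5, 9), (6, 10), (7, 11), (8, 12), (9, 13), (10, 14), (11, 15), (12, 16), (13, 17), (14, 18), (15, 16), (16, 17), (17, 18)]
theorem tr15 : TrOK 15 4 prs15 := trOK_of (by decide +kernel) (allN_iff.1 (by decide +kernel))

def prs16 : List (ℕ × ℕ) := [(0, 4), (1, 5), (2, 6), (3, 7), (4, 8), (5, 9), (6, 10), (7, 11), (8, 12), (9, 13), (10, 14), (11, 15), (12, 16), (13, 17), (14, 18), (15, 19)]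
theorem tr16 : TrOK 16 4 prs16 := trOK_of (by decide +kernel) (allN_iff.1 (by decide +kernel))

end Cfsg.Lib.Comp
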