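import Cfsg.Agent.Lib.Comp.Out
import Cfsg.Agent.Lib.Comp.Big3
import Cfsg.Agent.Lib.MatB.Mult

/-! Centralisers bounded by counting fixed points along a stabiliser chain. -/

namespace Cfsg.Lib.Comp

open Subgroup Cfsg.Lib.MatB

/-- Product over the levels of the number of admissible images of the base point. -/
noncomputable def cenN (F : List ℕ) (C : List Lev) : ℕ :=
  List.rec 1 (fun l _ r => (if l.2.2.1 ∈ F then F.countP (fun q => l.2.2.2.1 ≤ q ∧ q < l.2.2.2.1 + l.2.2.2.2)
    else l.2.2.2.2) * r) C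

theorem card_inf_le {N : ℕ} {nets : List Net} (hN : NetsOK N nets) {S : Subgroup (Equiv.Perm ℕ)} {F : List ℕ}
    (hF : ∀ s ∈ S, ∀ q ∈ F, s q < N → s q ∈ F) {C : List Lev} {L : List ℕ} (hC : Exact nets C L) :
    Nat.card ↥(cl (gp nets) L ⊓ S) ≤ cenN F C := by
  induction C generalizing L with
  | nil =>
    have : cl (gp nets) L ⊓ S = ⊥ := eq_bot_iff.2 fun g hg => hC.nil hN g hg.1
    rw [this, card_bot]; exact le_rfl
  | cons l t ih =>
    obtain ⟨L', o, b, a, n⟩ := l
    obtain ⟨h1, h2, h3, h4, -, -⟩ := hC.cons hN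
    have := hN.finite L
    have : Finite ↥(cl (gp nets) L ⊓ S) := Finite.of_injective _ (inclusion_injective inf_le_left)
    have e1 := card_mul_index ((stab (MonoidHom.id _) b).subgroupOf (cl (gp nets) L ⊓ S))
    have e2 := relIndex_stab (MonoidHom.id _) (cl (gp nets) L ⊓ S) b
    have e3 : Nat.card ((stab (MonoidHom.id _) b).subgroupOf (cl (gp nets) L ⊓ S)) =
        Nat.card ↥(cl (gp nets) L' ⊓ S) := by
      rw [← inf_subgroupOf_right, Nat.card_congr (subgroupOfEquivOfLe inf_le_right).toEquiv]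
      congr 2
      ext g
      exact ⟨fun h => ⟨(h3 g h.2.1).1 h.1, h.2.2⟩, fun h =>
        ⟨(h3 g (cl_mono h2 h.1)).2 h.1, cl_mono h2 h.1, h.2⟩⟩
    rw [← e1, e3, mul_comm]
    refine Nat.mul_le_mul ?_ (ih h1)
    change relIndex _ _ ≤ _
    rw [e2]
    dsimp only
    split_ifs with hb
    · rw [List.countP_eq_length_filter]
      refine le_trans ?_ (List.toFinset_card_le _)
      rw [← Set.ncard_coe_finset]
      refine Set.ncard_le_ncard ?_ (Finset.finite_toSet _)
      rintro _ ⟨g, hg, rfl⟩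
      have hx := fx_of_mem_cl hN.fx hg.1
      simp only [List.coe_toFinset, List.mem_filter, Set.mem_setOf_eq, decide_eq_true_eq]
      refine ⟨?_, h4 g hg.1⟩
      by_cases k : b < N
      · exact hF g hg.2 b hb (hx.lt k)
      · exact (hx b (not_lt.1 k)).symm ▸ hb
    · rw [← ncard_Ico a n]
      refine Set.ncard_le_ncard ?_ ((Set.finite_Ico a (a + n)).subset fun _ h => h)
      rintro _ ⟨g, hg, rfl⟩
      exact h4 g hg.1

/-- `F` is the list of the points below `64 * m` fixed by the word `z`. -/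
noncomputable def fixLB (tb : ℕ → ℕ → ℕ) (z F : List ℕ) (m : ℕ) : Bool :=
  cnd (allL F fun q => Nat.beq (wap tb z q) q)
    (force (msk F) fun M => allR 0 64 m fun q => cnd (Nat.beq (wap tb z q) q) (Nat.testBit M q) true) false

theorem card_cen_le {N : ℕ} {nets : List Net} (hN : NetsOK N nets) {tb : ℕ → ℕ → ℕ} (ht : TbA nets tb)
    {z F : List ℕ} {m : ℕ} (h : fixLB tb z F m = true) (hm : N ≤ 64 * m) {C : List Lev} {L : List ℕ}
    (hC : Exact nets C L) : Nat.card ↥(cl (gp nets) L ⊓ centralizer {ev (gp nets) z}) ≤ cenN F C := by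
  simp only [fixLB, cnd_tt, force_eq, allL_iff] at h
  refine card_inf_le hN (fun s hs q hq hl => ?_) hC
  have e1 := beq_tt.1 (h.1 q hq)
  rw [wap_eq ht, Equiv.Perm.inv_eq_iff_eq] at e1
  have e2 : ev (gp nets) z (s q) = s q := by
    rw [← Equiv.Perm.mul_apply, ← mem_centralizer_singleton_iff.1 hs, Equiv.Perm.mul_apply, ← e1]
  have e3 := allR_sound h.2 (Nat.zero_le (s q)) (by omega)
  have e4 : Nat.beq (wap tb z (s q)) (s q) = true := by
    rw [wap_eq ht, beq_tt, Equiv.Perm.inv_eq_iff_eq, e2]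
  rw [e4] at e3
  exact testBit_msk.1 e3

/-- A homomorphism compatible with an injective labelling of the points is injective. -/
theorem inj_of_label {g : ℕ → Equiv.Perm ℕ} {L : List ℕ} {n : ℕ} (hg : ∀ x ∈ L, Fx n (g x)) {Δ V : Type*} [Group Δ]
    (act : Δ → V → V) (h1 : ∀ v, act 1 v = v) (h2 : ∀ a b v, act (a * b) v = act a (act b v))
    {f : cl g L →* Δ} {v : ℕ → V} (hv : ∀ p < n, ∀ q < n, v p = v q → p = q)
    (h : ∀ x (hx : x ∈ L), ∀ p < n, act (f ⟨g x, mem_cl hx⟩) (v ((g x)⁻¹ p)) = v p) : Function.Injective f := by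
  have key : ∀ a (ha : a ∈ cl g L), Fx n a ∧ ∀ p < n, act (f ⟨a, ha⟩) (v p) = v (a p) := fun a ha => by
    induction ha using closure_induction with
    | mem a ha =>
      obtain ⟨x, hx, rfl⟩ := ha
      exact ⟨hg x hx, fun p hp => by simpa using h x hx _ ((hg x hx).lt hp)⟩
    | one => exact ⟨Fx.one n, fun p _ => (congrArg (act · _) f.map_one).trans (h1 _)⟩
    | mul a b ha hb iha ihb =>
      exact ⟨iha.1.mul ihb.1, fun p hp => by
        rw [show f ⟨a * b, _⟩ = f ⟨a, ha⟩ * f ⟨b, hb⟩ from f.map_mul ⟨a, ha⟩ ⟨b, hb⟩, h2, ihb.2 p hp,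
          iha.2 _ (ihb.1.lt hp)]; rfl⟩
    | inv a ha iha =>
      exact ⟨iha.1.inv, fun p hp => by
        have := iha.2 _ (iha.1.inv.lt hp)
        rw [show a (a⁻¹ p) = p by simp] at this
        rw [← this, ← h2, show f ⟨a⁻¹, _⟩ = (f ⟨a, ha⟩)⁻¹ from f.map_inv ⟨a, ha⟩, inv_mul_cancel, h1]⟩
  refine (injective_iff_map_eq_one f).2 fun a ha => Subtype.ext ((key a a.2).1.eq_one fun p hp => ?_)
  have := (key a a.2).2 p hp
  rw [show f ⟨a, a.2⟩ = 1 from ha, h1] at this
  exact (hv _ hp _ ((key a a.2).1.lt hp) this).symm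

theorem range_of_gen2 {G Δ : Type*} [Group G] [Group Δ] {g : ℕ → G} {δ : ℕ → Δ} {L : List ℕ} {f : cl g L →* Δ}
    (h : ∀ x (hx : x ∈ L), f ⟨g x, mem_cl hx⟩ = δ x) : f.range = cl δ L := by
  rw [MonoidHom.range_eq_map, ← cl_sval_top g L]
  exact map_cl_of_gen fun x hx => (congrArg f (Subtype.ext (coe_sval (mem_cl hx)))).trans (h x hx)

/-- An injective homomorphism into a subgroup of at most the same order. -/
theorem iso_of_range {G Δ : Type*} [Group G] [Group Δ] {f : G →* Δ} (hf : Function.Injective f) {K : Subgroup Δ}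
    [Finite K] (h : f.range ≤ K) (hc : Nat.card K ≤ Nat.card G) : Nonempty (G ≃* K) :=
  ⟨(MonoidHom.ofInjective hf).trans (MulEquiv.subgroupCongr (eq_of_le_of_card_ge h
    (hc.trans_eq (Nat.card_congr (MonoidHom.ofInjective hf).toEquiv))))⟩

theorem inj_of_card {G Δ : Type*} [Group G] [Group Δ] [Finite G] {f : G →* Δ} (h : Nat.card G ≤ Nat.card f.range) :
    Function.Injective f := by
  have := (f.rangeRestrict_surjective.bijective_of_nat_card_le h).1
  exact fun a b e => this (Subtype.ext e)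

/-- The centraliser in an abstract group with a faithful action. -/
theorem cen_iso {Γ : Type*} [Group Γ] {φ : Γ →* Equiv.Perm ℕ} (hφ : Function.Injective φ) {z : Γ} :
    Nonempty (centralizer {z} ≃* ↥(φ.range ⊓ centralizer {φ z})) :=
  ⟨(equivMapOfInjective _ φ hφ).trans (MulEquiv.subgroupCongr (by
    ext g
    constructor
    · rintro ⟨a, ha, rfl⟩
      exact ⟨⟨a, rfl⟩, mem_centralizer_singleton_iff.2 (by
        rw [← map_mul, mem_centralizer_singleton_iff.1 ha, map_mul])⟩
    · rintro ⟨⟨a, rfl⟩, ha⟩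
      exact ⟨a, mem_centralizer_singleton_iff.2 (hφ (by
        rw [map_mul, map_mul, mem_centralizer_singleton_iff.1 ha])), rfl⟩))⟩

/-- Injectivity through a labelling of the points by sets of points of another action. -/
theorem inj_of_sets {N n : ℕ} {nets n2 : List Net} (hN : NetsOK n nets) (h2 : NetsOK N n2) {L V : List ℕ}
    {f : cl (gp nets) L →* Equiv.Perm ℕ} (hf : ∀ x (hx : x ∈ L), f ⟨_, mem_cl hx⟩ = gp n2 x)
    (hv : ∀ p < n, ∀ q < n, nth 0 V p = nth 0 V q → p = q)
    (h : ∀ x ∈ L, ∀ p < n, img n2 x (nth 0 V (ptInv (nth Net.nil nets x) p)) = nth 0 V p) : Function.Injective f :=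
  inj_of_label (fun x _ => hN.fx x) (fun a (S : ℕ → Bool) i => S (a⁻¹ i)) (fun _ => rfl)
    (fun a b S => by ext i; simp) (v := fun p => (nth 0 V p).testBit)
    (fun p hp q hq e => hv p hp q hq (Nat.eq_of_testBit_eq (congrFun e))) fun x hx p hp => by
      ext i; rw [← h x hx p hp, testBit_img h2, hf x hx, ptInv_gp hN]

open Matrix in
/-- A permutation group on labelled vectors as a matrix group. -/
theorem mat_of_label {n m : ℕ} {nets : List Net} (hN : NetsOK n nets) {iv : ℕ → ℕ} {R Rz : List (List ℕ × ℕ)}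
    {L : List ℕ} (hi : IvOK (gp nets) iv) (hr : Rels (gp nets) R) (ho : Ord.{0} iv R L m)
    (hn : m ≤ Nat.card (cl (gp nets) L)) (hc : SideOK iv R Rz L) (hz : Rels (gp nets) Rz)
    {ι F Δ : Type} [Fintype ι] [DecidableEq ι] [CommRing F] [Group Δ] (ρ : Δ →* Matrix ι ι F)
    (hρ : Function.Injective ρ) {δ : ℕ → Δ} {v : ℕ → ι → F}
    (hv : ∀ p < n, ∀ q < n, v p = v q → p = q) (hs : ∀ i, ∃ p < n, v p = Pi.single i 1)
    (h : ∀ x ∈ L, ∀ p < n, v p ᵥ* ρ (δ x) = v (ptInv (nth Net.nil nets x) p)) :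
    ∃ f : cl (gp nets) L →* Δ, Function.Injective f ∧ f.range = cl δ L := by
  simp only [ptInv_gp hN] at h
  have key : ∀ w : List ℕ, (∀ x ∈ w, x ∈ L) → ∀ p < n, v p ᵥ* ρ (ev δ w) = v ((ev (gp nets) w)⁻¹ p) := fun w => by
    induction w with
    | nil => intro _ p _; simp [ev_nil]
    | cons x t ih =>
      intro hw p hp
      rw [ev_cons, ev_cons, map_mul, ← vecMul_vecMul, h x (hw x List.mem_cons_self) p hp,
        ih (fun y hy => hw y (List.mem_cons_of_mem _ hy)) _ ((hN.fx x).inv.lt hp), _root_.mul_inv_rev]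
      rfl
  obtain ⟨f, hf⟩ := hom_quot hi hr ho hn hc (ε := δ) fun r a b => by
    rw [← ev_pw]
    refine hρ ?_
    ext i j
    obtain ⟨p, hp, e⟩ := hs i
    have hw : ∀ x ∈ pw r.1 r.2, x ∈ L := by
      induction r.2 with
      | zero => exact b
      | succ k ih => rw [pw_succ]; exact fun x hx => (List.mem_append.1 hx).elim (b x) (ih x)
    have := key _ hw p hp
    rw [ev_pw (gp nets), hz r a, inv_one, Equiv.Perm.one_apply, e, single_one_vecMul] at this
    exact (congrFun this j).trans (by simp [one_apply, Pi.single_apply, eq_comm])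
  refine ⟨f, inj_of_label (fun x _ => hN.fx x) (fun a w => w ᵥ* ρ a⁻¹) (by simp) (fun a b w => by
    simp only [_root_.mul_inv_rev, map_mul, vecMul_vecMul]) hv fun x hx p hp => ?_, range_of_gen2 hf⟩
  rw [hf x hx, ← h x hx p hp, vecMul_vecMul, ← map_mul]
  simp

/-- Transversal words along a sequence of base points; `B` lists the earlier base points. -/
noncomputable def twB (tb : ℕ → ℕ → ℕ) (L : List ℕ) (C : List (ℕ × List (List ℕ))) : List ℕ → Bool :=
  List.rec (fun _ => true) (fun l _ r B => cnd (allL l.2 fun w => cnd (subB w L)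
    (allL B fun q => Nat.beq (wap tb w q) q) false)
      (cnd (decide (l.2.map fun w => wap tb w l.1).Nodup) (r (l.1 :: B)) false) false) C

theorem twB_le {nets : List Net} {tb : ℕ → ℕ → ℕ} (ht : TbA nets tb) {L : List ℕ} [Finite (cl (gp nets) L)]
    {C : List (ℕ × List (List ℕ))} {B : List ℕ} {K : Subgroup (Equiv.Perm ℕ)}
    (hK : ∀ g, g ∈ K ↔ g ∈ cl (gp nets) L ∧ ∀ q ∈ B, g q = q) (h : twB tb L C B = true) :
    (C.map fun l => l.2.length).prod ≤ Nat.card K := by
  induction C generalizing B K with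
  | nil =>
    have : Finite K := Finite.of_injective _ (inclusion_injective fun g hg => ((hK g).1 hg).1)
    exact Nat.card_pos
  | cons l t ih =>
    have : Finite K := Finite.of_injective _ (inclusion_injective fun g hg => ((hK g).1 hg).1)
    obtain ⟨b, T⟩ := l
    replace h : cnd (allL T fun w => cnd (subB w L) (allL B fun q => Nat.beq (wap tb w q) q) false)
      (cnd (decide (T.map fun w => wap tb w b).Nodup) (twB tb L t (b :: B)) false) false = true := h
    simp only [cnd_tt, allL_iff, decide_eq_true_eq, beq_tt, wap_eq ht] at h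
    have e1 := card_mul_index ((stab (MonoidHom.id _) b).subgroupOf K)
    rw [List.map_cons, List.prod_cons, ← e1, mul_comm, ← inf_subgroupOf_right,
      Nat.card_congr (subgroupOfEquivOfLe inf_le_right).toEquiv, inf_subgroupOf_right]
    refine Nat.mul_le_mul (ih (B := b :: B) (fun g => ?_) h.2.2) ?_
    · simp only [mem_inf, mem_stab, hK, List.forall_mem_cons, MonoidHom.id_apply]; tauto
    · change _ ≤ relIndex _ _
      rw [relIndex_stab, ← List.length_map (f := fun w => (ev (gp nets) w)⁻¹ b), ← List.toFinset_card_of_nodup h.2.1,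
        ← Set.ncard_coe_finset]
      refine Set.ncard_le_ncard (fun p hp => ?_) ((Set.finite_range fun g : K => g.1 b).subset ?_)
      · simp only [List.coe_toFinset, List.mem_map, Set.mem_setOf_eq] at hp
        obtain ⟨w, hw, rfl⟩ := hp
        exact ⟨_, (hK _).2 ⟨inv_mem (ev_mem fun x hx => mem_cl (sub_of_subB (h.1 w hw).1 x hx)), (h.1 w hw).2⟩, rfl⟩
      · rintro _ ⟨g, hg, rfl⟩; exact ⟨⟨g, hg⟩, rfl⟩

theorem lb_of_twB {nets : List Net} {tb : ℕ → ℕ → ℕ} (ht : TbA nets tb) {L : List ℕ} [Finite (cl (gp nets) L)]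
    {C : List (ℕ × List (List ℕ))} (h : twB tb L C [] = true) :
    (C.map fun l => l.2.length).prod ≤ Nat.card (cl (gp nets) L) := twB_le ht (by simp) h

end Cfsg.Lib.Comp
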