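import Cfsg.Agent.Lib.Comp.Tr

/-! Transposition network for tables with 32-bit entries. -/

namespace Cfsg.Lib.Comp

def prs17 : List (ℕ × ℕ) := [(0, 5), (1, 6), (2, 7), (3, 8), (4, 9), (5, 10), (6, 11), (7, 12), (8, 13), (9, 14), (10, 15), (11, 16), (12, 17), (13, 18), (14, 19), (15, 20), (16, 21), (17, 20), (18, 21), (19, 20), (20, 21)]
theorem tr17 : TrOK 17 5 prs17 := trOK_of (by decide +kernel) (allN_iff.1 (by decide +kernel))

end Cfsg.Lib.Comp
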