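import Cfsg.Agent.Lib.Comp.Sym7
import Cfsg.Agent.Lib.Comp.Cen
import Cfsg.Agent.Lib.Mult.Transfer

/-! Small lemmas on central extensions and free actions. -/

set_option maxHeartbeats 400000

namespace Cfsg.Lib.Comp

open MulAction Subgroup Cfsg.Lib.Mult
open scoped commutatorElement

theorem dvd_of_free {S X : Type*} [Group S] [MulAction S X] [Finite X] (x : X) (h0 : ∀ s : S, s • x = x)
    (h : ∀ y ≠ x, stabilizer S y = ⊥) : Nat.card S ∣ Nat.card X - 1 := by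
  let U : SubMulAction S X := ⟨{x}ᶜ, fun s y hy e => hy (smul_left_cancel s (e.trans (h0 s).symm))⟩
  have e := selfEquivOrbitsQuotientProd (G := S) (X := U) fun y => eq_bot_iff.2 fun s hs =>
    (h y.1 y.2).le (congrArg Subtype.val hs)
  have h1 : Nat.card U = Nat.card X - 1 := by
    rw [← Set.ncard_singleton x, ← Set.ncard_compl]; rfl
  rw [← h1, Nat.card_congr e, Nat.card_prod]
  exact dvd_mul_left _ _

variable {G Γ : Type*} [Group G] [Group Γ] {σ : Γ →* G}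

theorem eq_of_coprime_ker (hc : σ.ker ≤ center Γ) {p : ℕ} (hp : p.Coprime (Nat.card σ.ker)) {u s : Γ}
    (hu : u ^ p = 1) (hs : s ^ p = 1) (h : σ u = σ s) : u = s := by
  have h1 : u⁻¹ * s ∈ σ.ker := by rw [MonoidHom.mem_ker, map_mul, map_inv, h, inv_mul_cancel]
  have h2 : (u⁻¹ * s) ^ p = 1 := by
    have := (show Commute u (u⁻¹ * s) from mem_center_iff.1 (hc h1) u).mul_pow p
    rwa [mul_inv_cancel_left, hu, hs, one_mul, eq_comm] at this
  have h3 := Nat.dvd_gcd (orderOf_dvd_of_pow_eq_one h2) (orderOf_dvd_natCard _ h1)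
  rw [hp.gcd_eq_one, Nat.dvd_one, orderOf_eq_one_iff] at h3
  exact inv_mul_eq_one.1 h3

theorem pow_index_one {Y : Type*} [Group Y] [Finite Γ] (hσ : IsStemExtension σ) {K : Subgroup G} {η : Y →* Γ}
    (h1 : ∀ k ∈ K, ∃ y, σ (η y) = k) (h2 : ∀ y ∈ commutator Y, σ (η y) = 1 → η y = 1) {z : Γ} (hz : z ∈ σ.ker) :
    z ^ K.index = 1 := by
  have a := pow_index_mem_commutator (H := K.comap σ) (hσ.2.1 hz) (hσ.2.2 hz)
  rw [index_comap_of_surjective _ hσ.1] at a
  have b : ⁅K.comap σ, K.comap σ⁆ ≤ (commutator Y).map η := commutator_le.2 fun g hg g' hg' => by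
    obtain ⟨y, hy⟩ := h1 _ hg
    obtain ⟨y', hy'⟩ := h1 _ hg'
    have c : ∀ {g y}, σ (η y) = σ g → ∀ u, u * ((η y)⁻¹ * g) = (η y)⁻¹ * g * u := fun h =>
      mem_center_iff.1 (hσ.2.1 (by rw [MonoidHom.mem_ker, map_mul, map_inv, h, inv_mul_cancel]))
    refine ⟨⁅y, y'⁆, commutator_mem_commutator trivial trivial, ?_⟩
    rw [map_commutatorElement, ← mul_inv_cancel_left (η y) g, ← mul_inv_cancel_left (η y') g']
    have d := c hy
    have d' := c hy'
    generalize (η y)⁻¹ * g = s, (η y')⁻¹ * g' = s' at d d'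
    calc ⁅η y, η y'⁆ = η y * (η y' * (η y)⁻¹ * s * s⁻¹) * (η y')⁻¹ * s' * s'⁻¹ := by group
      _ = η y * (s * (η y' * (η y)⁻¹) * s⁻¹) * (η y')⁻¹ * s' * s'⁻¹ := by rw [d]
      _ = η y * s * η y' * ((η y)⁻¹ * s⁻¹ * (η y')⁻¹ * s') * s'⁻¹ := by group
      _ = η y * s * η y' * (s' * ((η y)⁻¹ * s⁻¹ * (η y')⁻¹)) * s'⁻¹ := by rw [d']
      _ = η y * s * η y' * s' * (s * η y)⁻¹ * ((η y')⁻¹ * s'⁻¹) := by group
      _ = _ := by rw [← d, ← mul_inv_rev, ← d', commutatorElement_def, ← mul_assoc]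
  obtain ⟨y, hy, e⟩ := b a
  rw [← e]
  exact h2 y hy (by rw [e]; exact pow_mem hz _)

theorem pow_index_perfect [Finite Γ] (hσ : IsStemExtension σ) {K : Subgroup G} (hp : Group.IsPerfect K)
    (h : HasCyclicSchurMultiplier K 1) {z : Γ} (hz : z ∈ σ.ker) : z ^ K.index = 1 := by
  obtain ⟨η, hη⟩ := lift_of_mult_one hp h K.subtype (ξ := σ) (fun q => hσ.1 _) hσ.2.1
  have e : ∀ k : K, σ (η k) = k := DFunLike.congr_fun hη
  exact pow_index_one hσ (η := η) (fun k hk => ⟨⟨k, hk⟩, e _⟩)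
    (fun y _ h => by rw [show y = 1 from Subtype.ext ((e y).symm.trans h), map_one]) hz

theorem pow_index_cyclic [Finite Γ] (hσ : IsStemExtension σ) (g : G) {z : Γ} (hz : z ∈ σ.ker) :
    z ^ (zpowers g).index = 1 := by
  obtain ⟨u, rfl⟩ := hσ.1 g
  refine pow_index_one hσ (η := zpowersHom Γ u) ?_ (fun y hy _ => ?_) hz
  · rintro _ ⟨k, rfl⟩
    exact ⟨Multiplicative.ofAdd k, map_zpow σ u k⟩
  · rw [(commutator_eq_bot_iff_center_eq_top _).2 CommGroup.center_eq_top] at hy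
    rw [show y = 1 from hy, map_one]

theorem mult_one_of_le {X Q : Type} [Group X] [Finite X] [Group Q] {π : X →* Q} (hπ : IsStemExtension π)
    (hQ : Group.IsPerfect Q) (h : ∀ (Γ : Type) [Group Γ] [Finite Γ] (τ : Γ →* Q), IsStemExtension τ →
      Nat.card τ.ker ≤ Nat.card π.ker) : HasCyclicSchurMultiplier X 1 := by
  refine mult_one_iff.2 fun Γ _ _ τ hτ => ?_
  have hp := perfect_of_stem hτ (perfect_of_stem hπ hQ)
  have h1 := h Γ _ (stem_of_perfect hp (σ := π.comp τ) (hπ.1.comp hτ.1) (comp_ker_le_center hp hτ.2.1 hπ.2.1))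
  have h2 := (π.comp τ).ker.card_mul_index
  have h3 := π.ker.card_mul_index
  rw [← MonoidHom.comap_ker, index_comap_of_surjective _ hτ.1, MonoidHom.comap_ker] at h2
  exact (MonoidHom.ker_eq_bot_iff τ).2 (inj_of_card (by
    rw [MonoidHom.range_eq_top.2 hτ.1, card_top, ← h2, ← h3]; exact Nat.mul_le_mul_right _ h1))

end Cfsg.Lib.Comp
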