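import Cfsg.Agent.Lib.Comp.Cover

/-! # Combining multiplier bounds for coprime moduli -/

namespace Cfsg.Lib.Comp

open Subgroup Cfsg Cfsg.Lib.Mult

variable {G : Type} [Group G]

theorem MB.pow {q m : ℕ} (h : MB G q m) {Γ : Type} [Group Γ] {σ : Γ →* G} (hσ : IsStemExtension σ) :
    ∃ z ∈ σ.ker, (∃ b ∈ σ.ker, z ^ m = b ^ q) ∧ ∀ a ∈ σ.ker, ∃ j : ℤ, ∃ b ∈ σ.ker, a = z ^ j * b ^ q := by
  have hc : ∀ a ∈ σ.ker, ∀ b, Commute a b := fun a ha b => (mem_center_iff.1 (hσ.2.1 ha) b).symm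
  let T : Subgroup Γ :=
    { carrier := {x | ∃ z ∈ σ.ker, z ^ q = x}
      one_mem' := ⟨1, one_mem _, one_pow _⟩
      mul_mem' := by
        rintro _ _ ⟨a, ha, rfl⟩ ⟨b, hb, rfl⟩
        exact ⟨a * b, mul_mem ha hb, (hc a ha b).mul_pow _⟩
      inv_mem' := by
        rintro _ ⟨a, ha, rfl⟩
        exact ⟨a⁻¹, inv_mem ha, inv_pow _ _⟩ }
  have hT : T ≤ σ.ker := by rintro _ ⟨a, ha, rfl⟩; exact pow_mem ha _
  have := normal_of_le_center (hT.trans hσ.2.1)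
  obtain ⟨z, hz, h1, h2⟩ := h _ _ (stem_quot hσ hT) fun z hz => by
    obtain ⟨z, rfl⟩ := QuotientGroup.mk_surjective z
    rw [← QuotientGroup.mk_pow, QuotientGroup.eq_one_iff]
    exact ⟨z, hz, rfl⟩
  obtain ⟨z, rfl⟩ := QuotientGroup.mk_surjective z
  refine ⟨z, hz, ?_, fun a ha => ?_⟩
  · obtain ⟨b, hb, e⟩ := (QuotientGroup.eq_one_iff (z ^ m)).1 h1
    exact ⟨b, hb, e.symm⟩
  · obtain ⟨j, hj⟩ := h2 (show (a : Γ ⧸ T) ∈ (QuotientGroup.lift T σ hT).ker from ha)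
    obtain ⟨b, hb, e⟩ : (z ^ j)⁻¹ * a ∈ T := QuotientGroup.eq.1 (by rw [QuotientGroup.mk_zpow]; exact hj)
    exact ⟨j, b, hb, by rw [e, mul_inv_cancel_left]⟩

theorem MB.mul {q₁ q₂ m₁ m₂ : ℕ} (h₁ : MB G q₁ m₁) (h₂ : MB G q₂ m₂) (hc : Nat.Coprime q₁ q₂) (d₁ : m₁ ∣ q₁)
    (d₂ : m₂ ∣ q₂) : MB G (q₁ * q₂) (m₁ * m₂) := by
  intro Γ _ σ hσ hq
  have hk : ∀ a ∈ σ.ker, ∀ b, Commute a b := fun a ha b => (mem_center_iff.1 (hσ.2.1 ha) b).symm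
  obtain ⟨u, v, huv⟩ := Nat.isCoprime_iff_coprime.2 hc
  obtain ⟨z₁, a1, ⟨b₁, a2, a3⟩, a4⟩ := h₁.pow hσ
  obtain ⟨z₂, c1, ⟨b₂, c2, c3⟩, c4⟩ := h₂.pow hσ
  have k1 : ∀ b ∈ σ.ker, (b ^ q₁) ^ (v * q₂ : ℤ) = 1 := fun b hb => by
    rw [mul_comm, zpow_mul, zpow_natCast, ← pow_mul, hq b hb, one_zpow]
  have k2 : ∀ b ∈ σ.ker, (b ^ q₂) ^ (u * q₁ : ℤ) = 1 := fun b hb => by
    rw [mul_comm, zpow_mul, zpow_natCast, ← pow_mul, mul_comm, hq b hb, one_zpow]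
  set y₁ := z₁ ^ (v * q₂ : ℤ) with hy₁
  set y₂ := z₂ ^ (u * q₁ : ℤ) with hy₂
  have m1 : y₁ ∈ σ.ker := zpow_mem a1 _
  have e1 : y₁ ^ m₁ = 1 := by rw [hy₁, ← zpow_natCast, ← zpow_mul, mul_comm, zpow_mul, zpow_natCast, a3, k1 _ a2]
  have e2 : y₂ ^ m₂ = 1 := by rw [hy₂, ← zpow_natCast, ← zpow_mul, mul_comm, zpow_mul, zpow_natCast, c3, k2 _ c2]
  have f1 : y₁ ^ (u * q₁ : ℤ) = 1 := by
    obtain ⟨d, rfl⟩ := d₁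
    rw [mul_comm u, zpow_mul, zpow_natCast, pow_mul, e1, one_pow, one_zpow]
  have f2 : y₂ ^ (v * q₂ : ℤ) = 1 := by
    obtain ⟨d, rfl⟩ := d₂
    rw [mul_comm v, zpow_mul, zpow_natCast, pow_mul, e2, one_pow, one_zpow]
  have sp : ∀ a : Γ, a = a ^ (u * q₁ : ℤ) * a ^ (v * q₂ : ℤ) := fun a => by rw [← zpow_add, huv, zpow_one]
  have g1 : y₁ ∈ zpowers (y₁ * y₂) := ⟨v * q₂, by
    dsimp only
    rw [(hk _ m1 _).mul_zpow, f2, mul_one]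
    conv_rhs => rw [sp y₁, f1, one_mul]⟩
  have g2 : y₂ ∈ zpowers (y₁ * y₂) := by
    have := mul_mem (inv_mem g1) (mem_zpowers (y₁ * y₂))
    rwa [inv_mul_cancel_left] at this
  refine ⟨y₁ * y₂, mul_mem m1 (zpow_mem c1 _), ?_, fun a ha => ?_⟩
  · rw [(hk _ m1 _).mul_pow, pow_mul, e1, mul_comm m₁, pow_mul, e2, one_pow, one_pow, one_mul]
  · obtain ⟨i, b, hb, e⟩ := a4 a ha
    obtain ⟨j, b', hb', e'⟩ := c4 a ha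
    have p1 : a ^ (v * q₂ : ℤ) = y₁ ^ i := by
      rw [e, (hk _ (zpow_mem a1 _) _).mul_zpow, k1 b hb, mul_one, hy₁, ← zpow_mul, ← zpow_mul, mul_comm]
    have p2 : a ^ (u * q₁ : ℤ) = y₂ ^ j := by
      rw [e', (hk _ (zpow_mem c1 _) _).mul_zpow, k2 b' hb', mul_one, hy₂, ← zpow_mul, ← zpow_mul, mul_comm]
    rw [sp a, p1, p2]
    exact mul_mem (zpow_mem g2 _) (zpow_mem g1 _)

end Cfsg.Lib.Comp
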