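import Cfsg.Agent.Lib.Comp.Big3
import Cfsg.Agent.Lib.Comp.TMult2
import Cfsg.Agent.Lib.Comp.Out

/-! # Covering groups given by networks -/

namespace Cfsg.Lib.Comp

theorem MB.congr {G G' : Type} [Group G] [Group G'] {q m : ℕ} (h : MB G q m) (e : G ≃* G') : MB G' q m := by
  intro Γ _ σ hσ hq
  have hk : (e.symm.toMonoidHom.comp σ).ker = σ.ker := by
    ext x; simp [MonoidHom.mem_ker]
  have := h Γ (e.symm.toMonoidHom.comp σ) ⟨e.symm.surjective.comp hσ.1, hk ▸ hσ.2⟩ (hk ▸ hq)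
  rwa [hk] at this

theorem cover_nets {N : ℕ} {nets : List Net} {iv : ℕ → ℕ} {R : List (List ℕ × ℕ)} {L : List ℕ}
    (hs : IsSimpleGroup (cl (gp nets) L)) (hi : IvOK (gp nets) iv) (hr : Rels (gp nets) R) {n : ℕ}
    (ho : Ord.{0} iv R L n) (hn : n ≤ Nat.card (cl (gp nets) L)) {cn : List Net} (hN : NetsOK N cn)
    {Rz : List (List ℕ × ℕ)} (hR : Rels (gp cn) Rz) {z m e : ℕ} {a b a' b' : List ℕ}
    (hc : CoverOK iv R Rz L z m a b) (hz : ∀ x ∈ L, ev (gp cn) [x, z] ^ (0 + 1) = ev (gp cn) [z, x])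
    (ha : ev (gp cn) (apd a a') ^ (0 + 1) = ev (gp cn) []) (hb : ev (gp cn) (apd b b') ^ (0 + 1) = ev (gp cn) [])
    (hab : ev (gp cn) (apd a (apd b (apd a' b'))) ^ (e + 1) = ev (gp cn) [z]) {x y p j k pt pt' : ℕ}
    (hp : p.Prime) (h1 : ([z], k) ∈ Rz) (hk : k + 1 = p ^ (j + 1))
    (h2 : cnd (neP (fun x p => ptInv (nth Net.nil cn x) p) L [x, y] [y, x] pt)
      (neP (fun x p => ptInv (nth Net.nil cn x) p) [z] (rpl (Nat.pow p j) z []) [] pt') false = true) :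
    Cover (cl (gp nets) L) (p ^ (j + 1)) := by
  have := hN.finite L
  rw [cnd_tt] at h2
  have h3 := ne_of_neP (f := MonoidHom.id _) (fun _ _ => rfl) (tbA_pt hN) h2.1
  have h4 := ne_of_neP (f := MonoidHom.id _) (fun _ _ => rfl) (tbA_pt hN) h2.2
  have h5 := h2.1
  unfold neP at h5
  rw [cnd_tt] at h5
  have h6 := sub_of_subB h5.1
  refine cover_of (hi.sval _) (hr.sval fun r h x hx => mem_cl ((hc.2.2.1 r h).1 x hx)) ho hn (cl_sval_top _ L) hR hc
    (fun x hx => by simpa using hz x hx) (comm_ev ha hb hab) (h6 x (by simp)) (h6 y (by simp)) h3 hp ?_ ?_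
  · have := hR _ h1
    rwa [ev_single, hk] at this
  · rwa [ev_rpl, ev_nil, mul_one] at h4

end Cfsg.Lib.Comp
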