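import Cfsg.Agent.Lib.Comp.PermGrp

/-!
# Extension of a presentation by letters defined as words
-/

namespace Cfsg.Lib.Comp

universe u

/-- The presentation `(iv', R', L')` extends `(iv, R, L)` by letters defined through relators. -/
def ExtOK (iv iv' : ℕ → ℕ) (R R' : List (List ℕ × ℕ)) (L L' : List ℕ) (D : List (ℕ × List ℕ × List ℕ)) : Prop :=
  0 ∉ L ∧ (∀ x < 64, iv x < 64 ∧ (x ∈ L ↔ iv x ∈ L) ∧ (x ∈ L → iv x = iv' x)) ∧
  (∀ r ∈ R, r ∈ R' ∧ ∀ x ∈ r.1, x ∈ L) ∧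
  (∀ d ∈ D, (d.2.1 ++ d.1 :: d.2.2, 0) ∈ R' ∧ (∀ x ∈ d.2.1, x ∈ L) ∧ ∀ x ∈ d.2.2, x ∈ L) ∧
  (∀ x ∈ L', x ∈ L ∨ x ∈ D.map (·.1) ∨ (x < 64 ∧ iv' x ∈ D.map (·.1))) ∧ ∀ x ∈ L, x ∈ L'

noncomputable instance instDecidableExtOK (iv iv' : ℕ → ℕ) (R R' : List (List ℕ × ℕ)) (L L' : List ℕ)
    (D : List (ℕ × List ℕ × List ℕ)) : Decidable (ExtOK iv iv' R R' L L' D) := by unfold ExtOK; infer_instance

variable {iv iv' : ℕ → ℕ} {R R' : List (List ℕ × ℕ)} {L L' : List ℕ} {D : List (ℕ × List ℕ × List ℕ)}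

theorem ExtOK.cl_eq (h : ExtOK iv iv' R R' L L' D) {Γ : Type*} [Group Γ] {γ : ℕ → Γ} (h1 : IvOK γ iv')
    (h2 : Rels γ R') : cl γ L' = cl γ L := by
  obtain ⟨-, -, -, c4, c5, c6⟩ := h
  have hd : ∀ x ∈ D.map (·.1), γ x ∈ cl γ L := by
    intro x hx
    obtain ⟨d, hd, rfl⟩ := List.mem_map.1 hx
    obtain ⟨a1, a2, a3⟩ := c4 d hd
    have := h2 _ a1
    simp only [zero_add, pow_one, ev_append, ev_cons] at this
    have e : γ d.1 = (ev γ d.2.1)⁻¹ * (ev γ d.2.2)⁻¹ := by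
      rw [← mul_inv_rev, eq_inv_iff_mul_eq_one, ← mul_assoc, mul_eq_one_comm, ← mul_assoc, mul_eq_one_comm]
      rwa [mul_eq_one_comm, mul_assoc, mul_eq_one_comm, mul_assoc] at this
    rw [e]
    exact Subgroup.mul_mem _ (Subgroup.inv_mem _ (ev_mem fun x hx => mem_cl (a2 x hx)))
      (Subgroup.inv_mem _ (ev_mem fun x hx => mem_cl (a3 x hx)))
  refine le_antisymm (cl_le.2 fun x hx => ?_) (cl_mono c6)
  rcases c5 x hx with h | h | h
  · exact mem_cl h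
  · exact hd x h
  · have := hd _ h.2
    rwa [(h1.2 x h.1).2, Subgroup.inv_mem_iff] at this

theorem Ord.ext {n : ℕ} (ho : Ord.{u} iv R L n) (h : ExtOK iv iv' R R' L L' D) : Ord.{u} iv' R' L' n := by
  intro Γ _ γ h1 h2
  classical
  rw [h.cl_eq h1 h2]
  obtain ⟨c1, c2, c3, -⟩ := h
  have e : cl γ L = cl (fun x => if x ∈ L then γ x else 1) L := by
    apply le_antisymm <;> refine cl_le.2 fun x hx => ?_
    · have := mem_cl (γ := fun x => if x ∈ L then γ x else 1) hx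
      simpa [hx] using this
    · simpa [hx] using mem_cl (γ := γ) hx
  rw [e]
  refine ho Γ _ ⟨by simp [c1], fun x hx => ⟨(c2 x hx).1, ?_⟩⟩ fun r hr => ?_
  · by_cases hL : x ∈ L
    · have := (c2 x hx).2
      simp only [hL, this.1.1 hL, if_true]
      rw [this.2 hL, (h1.2 x hx).2]
    · have : iv x ∉ L := fun h => hL ((c2 x hx).2.1.2 h)
      simp [hL, this]
  · rw [ev_congr (γ' := γ) _ fun x hx => by simp [(c3 r hr).2 x hx]]
    exact h2 r (c3 r hr).1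

theorem cl_congr2 {Γ : Type*} [Group Γ] {γ γ' : ℕ → Γ} {L : List ℕ} (h : ∀ x ∈ L, γ x = γ' x) : cl γ L = cl γ' L :=
  le_antisymm (cl_le.2 fun x hx => h x hx ▸ mem_cl hx) (cl_le.2 fun x hx => h x hx ▸ mem_cl hx)

end Cfsg.Lib.Comp
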