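import Cfsg.Agent.Lib.Comp.Pres

/-! Voltage assignments in `ℤ/3` over a permutation action, and presentations of subgroups of index two. -/

namespace Cfsg.Lib.Comp

universe u

def v3 (A B p : ℕ) : ZMod 3 := if A.testBit p then 1 else if B.testBit p then 2 else 0

def Dj (A B : ℕ) : Prop := ∀ p, (A.testBit p && B.testBit p) = false

theorem dj_of_beq {A B : ℕ} (h : Nat.beq (Nat.land A B) 0 = true) : Dj A B := fun p => by
  rw [← Nat.testBit_and, ← land_eq', beq_tt.1 h, Nat.zero_testBit]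

/-- `(p, v) ↦ (g p, c (g p) - v)`. -/
def vm (g : Equiv.Perm ℕ) (c : ℕ → ZMod 3) : Equiv.Perm (ℕ × ZMod 3) where
  toFun a := (g a.1, c (g a.1) - a.2)
  invFun a := (g⁻¹ a.1, c a.1 - a.2)
  left_inv a := by simp
  right_inv a := by simp

noncomputable def vg (nets : List Net) (cA cB : ℕ → ℕ) (L : List ℕ) (x : ℕ) : Equiv.Perm (ℕ × ZMod 3) :=
  if x ∈ L then vm (gp nets x) (v3 (cA x) (cB x)) else 1

def VI (γ : Equiv.Perm ℕ) (d : Equiv.Perm (ℕ × ZMod 3)) (e : ZMod 3) (A B : ℕ) : Prop :=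
  Dj A B ∧ ∀ p v, d (p, v) = (γ p, v3 A B (γ p) + e * v)

theorem VI.one : VI 1 1 1 0 0 := ⟨fun p => by simp, fun p v => by simp [v3]⟩

noncomputable def vr (nets : List Net) (cA cB : ℕ → ℕ) (u : List ℕ) (k : ℕ → ℕ → Bool) : ℕ → ℕ → Bool :=
  List.rec (motive := fun _ => ℕ → ℕ → Bool) k (fun x _ ih A B =>
    force (app (nth Net.nil nets x) A) fun A' => force (app (nth Net.nil nets x) B) fun B' =>
      force (Nat.xor (Nat.lor (cA x) A') (Nat.lor (cB x) B')) fun t =>
        force (Nat.xor (Nat.lor (cB x) A') t) fun A'' => force (Nat.xor (Nat.lor (cA x) B') t) fun B'' => ih A'' B'') u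

theorem bits3 : ∀ a b c d : Bool, (a && b) = false → (c && d) = false →
    ((((b || c) ^^ ((a || c) ^^ (b || d))) && ((a || d) ^^ ((a || c) ^^ (b || d)))) = false) ∧
    (if ((b || c) ^^ ((a || c) ^^ (b || d))) then (1 : ZMod 3) else if ((a || d) ^^ ((a || c) ^^ (b || d))) then 2 else 0) =
      (if a then 1 else if b then 2 else 0) - (if c then 1 else if d then 2 else 0) := by decide

variable {N : ℕ} {nets : List Net} {cA cB : ℕ → ℕ} {L : List ℕ}

theorem VI.run (hN : NetsOK N nets) (hc : ∀ x ∈ L, Dj (cA x) (cB x)) {k : ℕ → ℕ → Bool} {u : List ℕ}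
    (hu : ∀ x ∈ u, x ∈ L) {γ : Equiv.Perm ℕ} {d : Equiv.Perm (ℕ × ZMod 3)} {e : ZMod 3} {A B : ℕ} (h : VI γ d e A B)
    (hb : vr nets cA cB u k A B = true) : ∃ A' B', VI (ev (gp nets) u.reverse * γ) (ev (vg nets cA cB L) u.reverse * d)
      ((-1) ^ u.length * e) A' B' ∧ k A' B' = true := by
  induction u generalizing γ d e A B with
  | nil => exact ⟨A, B, by simpa [ev_nil] using h, hb⟩
  | cons x t ih =>
    have hx := hu x List.mem_cons_self
    simp only [vr, force_eq] at hb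
    have key := fun p => bits3 _ _ _ _ (hc x hx p) (h.1 ((gp nets x)⁻¹ p))
    obtain ⟨A', B', h1, h2⟩ := ih (fun y hy => hu y (List.mem_cons_of_mem _ hy)) (γ := gp nets x * γ)
      (d := vg nets cA cB L x * d) (e := -e) (by
        refine ⟨fun p => ?_, fun p v => ?_⟩
        · simp only [xor_eq', lor_eq', Nat.testBit_xor, Nat.testBit_or, testBit_app (hN x)]
          exact (key p).1
        · rw [Equiv.Perm.mul_apply, h.2, vg, if_pos hx]
          refine Prod.ext rfl ?_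
          have := (key (gp nets x (γ p))).2
          simp only [v3, xor_eq', lor_eq', Nat.testBit_xor, Nat.testBit_or, testBit_app (hN x), vm,
            Equiv.coe_fn_mk, Equiv.Perm.mul_apply]
          erw [this]
          rw [show (gp nets x)⁻¹ (gp nets x (γ p)) = γ p by simp]
          ring) hb
    refine ⟨A', B', ?_, h2⟩
    rw [List.reverse_cons, ev_append, ev_append, ev_single, ev_single, mul_assoc, mul_assoc, List.length_cons, pow_succ,
      mul_assoc, neg_one_mul]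
    exact h1

/-- The word `u ^ (e + 1)`, reversed. -/
noncomputable def rvp (u : List ℕ) (e : ℕ) : List ℕ := Nat.rec (motive := fun _ => List ℕ) [] (fun _ ih => rva u ih) e

theorem ev_rvp {Γ : Type*} [Monoid Γ] (γ : ℕ → Γ) (u : List ℕ) (e : ℕ) : ev γ (rvp u e).reverse = ev γ u ^ e := by
  induction e with
  | zero => simp [rvp, ev_nil]
  | succ e ih =>
    rw [show rvp u (e + 1) = rva u (rvp u e) from rfl, rva_eq, List.reverse_append, List.reverse_reverse, ev_append, ih,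
      pow_succ]

theorem mem_rvp {u : List ℕ} {e x : ℕ} (h : x ∈ rvp u e) : x ∈ u := by
  induction e with
  | zero => simp [rvp] at h
  | succ e ih =>
    rw [show rvp u (e + 1) = rva u (rvp u e) from rfl, rva_eq, List.mem_append, List.mem_reverse] at h
    exact h.elim id ih

theorem length_rvp (u : List ℕ) (e : ℕ) : (rvp u e).length = u.length * e := by
  induction e with
  | zero => simp [rvp]
  | succ e ih => rw [show rvp u (e + 1) = rva u (rvp u e) from rfl, rva_eq, List.length_append, ih]; simp; ring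

noncomputable def endB (A B : ℕ) : ℕ → ℕ → Bool := fun A' B' => cnd (Nat.beq A' A) (Nat.beq B' B) false

theorem VI.pow (hN : NetsOK N nets) (hc : ∀ x ∈ L, Dj (cA x) (cB x)) {u : List ℕ} {n : ℕ}
    (hu : ∀ x ∈ u, x ∈ L) (he : Even (u.length * n)) {γ : Equiv.Perm ℕ} {d : Equiv.Perm (ℕ × ZMod 3)} {A B A' B' : ℕ}
    (h : VI γ d 1 A B) (hb : vr nets cA cB (rvp u n) (endB A' B') A B = true) :
    VI (ev (gp nets) u ^ n * γ) (ev (vg nets cA cB L) u ^ n * d) 1 A' B' := by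
  obtain ⟨A1, B1, h1, h2⟩ := h.run hN hc (fun x hx => hu x (mem_rvp hx)) hb
  rw [endB, cnd_tt, beq_tt, beq_tt] at h2
  rw [ev_rvp, ev_rvp, length_rvp, he.neg_one_pow, one_mul, h2.1, h2.2] at h1
  exact h1

theorem rels_vg (hN : NetsOK N nets) (hc : ∀ x ∈ L, Dj (cA x) (cB x)) {R : List (List ℕ × ℕ)} (hR : Rels (gp nets) R)
    (h1 : ∀ r ∈ R, (∀ x ∈ r.1, x ∈ L) ∧ Even (r.1.length * (r.2 + 1)))
    (hb : allL R (fun r => vr nets cA cB (rvp r.1 (r.2 + 1)) (endB 0 0) 0 0) = true) : Rels (vg nets cA cB L) R := by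
  intro r hr
  have := (VI.one.pow hN hc (h1 r hr).1 (h1 r hr).2 (allL_iff.1 hb r hr)).2
  rw [hR r hr, mul_one, mul_one] at this
  ext ⟨p, v⟩ : 1
  rw [this]; simp [v3]

/-- The letter of the even subgroup standing for `x * l` (`b = true`) or `l * x`. -/
def twf (iv' : ℕ → ℕ) (l : ℕ) (b : Bool) (x : ℕ) : ℕ := if x = l then 0 else if b then x else iv' x

def twl (iv' : ℕ → ℕ) (l : ℕ) (b : Bool) : List ℕ → List ℕ
  | [] => []
  | x :: w => twf iv' l (b ^^ decide (w.length % 2 = 0)) x :: twl iv' l b w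

theorem Ord.even {R R' : List (List ℕ × ℕ)} {L L' : List ℕ} {n l : ℕ} {iv' : ℕ → ℕ}
    (h : Ord.{u} (fun x => x) R L (2 * n)) (hl : l ∈ L) (hL : ∀ x ∈ L, 0 < x ∧ x < 64 ∧ iv' (iv' x) = x)
    (hL' : ∀ y ∈ L', (y ∈ L ∧ y ≠ l) ∨ (iv' y ∈ L ∧ iv' y ≠ l ∧ iv' (iv' y) = y))
    (hR : ∀ r ∈ R, (∀ x ∈ r.1, x ∈ L) ∧ Even (r.1.length * (r.2 + 1)))
    (hc : Cons.{u} iv' R' ((R.map fun r => (twl iv' l true (rvp r.1 (r.2 + 1)).reverse, 0)) ++
      R.map fun r => (twl iv' l false (rvp r.1 (r.2 + 1)).reverse, 0))) : Ord.{u} iv' R' L' n := by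
  intro Γ _ γ h1 h2
  have h3 := hc Γ γ h1 h2
  have inv : ∀ x ∈ L, ∀ b, γ (twf iv' l (!b) x) * γ (twf iv' l b x) = 1 := fun x hx b => by
    unfold twf
    by_cases e : x = l
    · simp [e, h1.1]
    · cases b <;> simp [e, (h1.2 x (hL x hx).2.1).2]
  let δ : ℕ → Equiv.Perm (Γ × Bool) := fun x => if hx : x ∈ L then
    Function.Involutive.toPerm (fun a => (γ (twf iv' l (!a.2) x) * a.1, !a.2)) (fun a => by
      simp only [Bool.not_not, Prod.ext_iff, and_true]
      rw [← mul_assoc, show γ (twf iv' l a.2 x) * _ = 1 by simpa using inv x hx (!a.2), one_mul]) else 1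
  have hδ : ∀ x ∈ L, ∀ g b, δ x (g, b) = (γ (twf iv' l (!b) x) * g, !b) := fun x hx g b => by
    simp only [δ, dif_pos hx]; rfl
  have hw : ∀ w : List ℕ, (∀ x ∈ w, x ∈ L) → ∀ g b,
      ev δ w (g, b) = (ev γ (twl iv' l b w) * g, b ^^ decide (w.length % 2 = 1)) := fun w hw g b => by
    induction w with
    | nil => simp [ev_nil, twl]
    | cons x t ih =>
      rw [ev_cons, Equiv.Perm.mul_apply, ih fun y hy => hw y (List.mem_cons_of_mem _ hy), hδ x (hw x List.mem_cons_self),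
        twl, ev_cons, mul_assoc, List.length_cons]
      rcases Nat.mod_two_eq_zero_or_one t.length with e | e <;> cases b <;> simp [e, Nat.add_mod]
  have i1 : IvOK δ fun x => x := by
    refine ⟨dif_neg fun h0 => absurd (hL 0 h0).1 (by simp), fun x hx => ⟨hx, ?_⟩⟩
    by_cases e : x ∈ L
    · simp only [δ, dif_pos e]; rfl
    · simp only [δ, dif_neg e, inv_one]
  have i2 : Rels δ R := fun r hr => by
    rw [← ev_rvp]
    ext ⟨g, b⟩ : 1
    rw [hw _ fun x hx => (hR r hr).1 x (mem_rvp (List.mem_reverse.1 hx)), List.length_reverse, length_rvp,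
      Nat.even_iff.1 (hR r hr).2]
    have : ev γ (twl iv' l b (rvp r.1 (r.2 + 1)).reverse) = 1 := by
      cases b
      · simpa using h3 _ (List.mem_append_right _ (List.mem_map.2 ⟨r, hr, rfl⟩))
      · simpa using h3 _ (List.mem_append_left _ (List.mem_map.2 ⟨r, hr, rfl⟩))
    simp [this]
  obtain ⟨f1, f2⟩ := h _ δ i1 i2
  have hl1 : ∀ g b, δ l (g, b) = (g, !b) := fun g b => by rw [hδ l hl]; simp [twf, h1.1]
  have orb : ∀ g ∈ cl γ L', ∃ s ∈ cl δ L, ∀ a, s (a, false) = (g * a, false) := fun g hg => by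
    have base : ∀ x ∈ L, x ≠ l → ∃ s ∈ cl δ L, ∀ a, s (a, false) = (γ x * a, false) ∧
        s⁻¹ (a, false) = ((γ x)⁻¹ * a, false) := fun x hx hne => by
      have e1 : ∀ a, (δ l * δ x) (a, false) = (γ x * a, false) := fun a => by
        rw [Equiv.Perm.mul_apply, hδ x hx, hl1]; simp [twf, hne]
      exact ⟨δ l * δ x, mul_mem (mem_cl hl) (mem_cl hx), fun a => ⟨e1 a, by
        rw [Equiv.Perm.inv_eq_iff_eq, e1, mul_inv_cancel_left]⟩⟩
    induction hg using Subgroup.closure_induction with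
    | mem x hx =>
      obtain ⟨y, hy, rfl⟩ := hx
      rcases hL' y hy with ⟨a1, a2⟩ | ⟨a1, a2, a3⟩
      · obtain ⟨s, s1, s2⟩ := base y a1 a2
        exact ⟨s, s1, fun a => (s2 a).1⟩
      · obtain ⟨s, s1, s2⟩ := base _ a1 a2
        refine ⟨s⁻¹, inv_mem s1, fun a => ?_⟩
        rw [(s2 a).2, ← (h1.2 _ (hL _ a1).2.1).2, a3]
    | one => exact ⟨1, one_mem _, by simp⟩
    | mul x y _ _ hx hy =>
      obtain ⟨s, s1, s2⟩ := hx
      obtain ⟨t, t1, t2⟩ := hy
      exact ⟨s * t, mul_mem s1 t1, fun a => by rw [Equiv.Perm.mul_apply, t2, s2, mul_assoc]⟩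
    | inv x _ hx =>
      obtain ⟨s, s1, s2⟩ := hx
      exact ⟨s⁻¹, inv_mem s1, fun a => by rw [Equiv.Perm.inv_eq_iff_eq, s2, mul_inv_cancel_left]⟩
  have sur : ∀ a : cl γ L' × Bool, ∃ s : cl δ L, s.1 (1, false) = (a.1.1, a.2) := fun ⟨g, b⟩ => by
    obtain ⟨s, s1, s2⟩ := orb g.1 g.2
    cases b
    · exact ⟨⟨s, s1⟩, by simpa using s2 1⟩
    · exact ⟨⟨δ l * s, mul_mem (mem_cl hl) s1⟩, by simp [s2, hl1]⟩
  choose F hF using sur
  have inj : Function.Injective F := fun a b e => by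
    have := (hF a).symm.trans (e ▸ hF b)
    exact Prod.ext (Subtype.ext (Prod.ext_iff.1 this).1) (Prod.ext_iff.1 this).2
  have f3 := Finite.of_injective F inj
  have f4 := (Nat.card_le_card_of_injective F inj).trans f2
  rw [Nat.card_prod, Nat.card_eq_fintype_card (α := Bool), Fintype.card_bool] at f4
  exact ⟨Finite.of_injective (fun g => (g, true)) fun a b e => congrArg Prod.fst e, by omega⟩

/-- Only the letters of `L` matter. -/
theorem Ord.of_iv {R : List (List ℕ × ℕ)} {L : List ℕ} {n : ℕ} {iv iv' : ℕ → ℕ} (h : Ord.{u} iv R L n)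
    (h0 : 0 ∉ L) (hi : ∀ x < 64, iv x < 64 ∧ (x ∈ L ↔ iv x ∈ L) ∧ (x ∈ L → iv' x = iv x))
    (hR : ∀ r ∈ R, ∀ x ∈ r.1, x ∈ L) : Ord.{u} iv' R L n := by
  intro Γ _ γ h1 h2
  classical
  have e : ∀ x ∈ L, (fun x => if x ∈ L then γ x else 1) x = γ x := fun x hx => if_pos hx
  have := h Γ (fun x => if x ∈ L then γ x else 1) ⟨if_neg h0, fun x hx => ⟨(hi x hx).1, by
      by_cases hx' : x ∈ L
      · rw [e _ hx', e _ ((hi x hx).2.1.1 hx'), ← (hi x hx).2.2 hx', (h1.2 x hx).2]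
      · simp only [if_neg hx', if_neg (mt (hi x hx).2.1.2 hx'), inv_one]⟩⟩
    fun r hr => by rw [ev_congr _ (γ' := γ) fun x hx => e x (hR r hr x hx)]; exact h2 r hr
  have e2 : cl (fun x => if x ∈ L then γ x else 1) L = cl γ L :=
    congrArg Subgroup.closure (Set.image_congr fun x hx => e x hx)
  rwa [e2] at this

end Cfsg.Lib.Comp
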