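import Cfsg.Agent.Lib.Comp.Sym7
import Cfsg.Agent.Lib.Comp.Out

/-! # Tools for automorphisms of groups given by symmetric generation -/

namespace Cfsg.Lib.Comp

open Subgroup Cfsg.Lib.Mult

/-- The image of one of two seeds. -/
noncomputable def pt2 (tb : ℕ → ℕ → ℕ) (U : List (ℕ × List ℕ)) (h : List ℕ) (p p' i : ℕ) : ℕ :=
  wap tb h (wap tb (nth (0, []) U i).2 (cnd (Nat.beq (nth (0, []) U i).1 0) p p'))

/-- Check that the elements commuting with the words `U`, `V` are powers of the word `q`. -/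
noncomputable def cycB (tb : ℕ → ℕ → ℕ) (t : List Lev) (P0 : ℕ → ℕ) (P : List (ℕ → ℕ)) (L L' : List ℕ) (b0 n : ℕ)
    (U : List (ℕ × List ℕ)) (V : List (List ℕ)) (h q : List ℕ) (b b' : ℕ) (es T : List ℕ) (M : ℕ) (I : ℕ → ℕ) : Bool :=
  cnd (decide (b < 64 * n ∧ b' < 64 * n ∧ wap tb h b = b0 ∧ bases t = es.map (pt2 tb U h b b')))
    (cnd (subB h L) (cnd (subB q L) (cnd (allL U fun u => eqW tb (b0 :: bases t) L (apd q u.2) (apd u.2 q))
      (cnd (allL V fun u => Nat.beq (wap tb u b) b)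
        (cnd (allR 0 64 n fun p => cnd (allL V fun u => Nat.beq (wap tb u p) p) (bit M (witer tb q (I p) p)) true)
          (allR 0 64 n fun p => cnd (bit M p) (walk tb P0 (msk L) b0 (fun ws => allR 0 64 n fun p' =>
            cnd (cnd (Nat.beq p b) (Nat.beq p' b') false) true
              (sift tb (pt2 tb U h p p') (mapL (fun i => (i, pt2 tb U h b b' i)) T) t P L' es ws)) 1000 (wap tb h p) [])
            true) false) false) false) false) false) false

theorem cent_cyc {N : ℕ} {nets : List Net} (hN : NetsOK N nets) {tb : ℕ → ℕ → ℕ} (ht : TbA nets tb) {t : List Lev}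
    {L L' o : List ℕ} {b0 n : ℕ} (hC : Exact nets ((L', o, b0, 0, 64 * n) :: t) L) {P0 : ℕ → ℕ} {P : List (ℕ → ℕ)}
    {U : List (ℕ × List ℕ)} {V : List (List ℕ)} {h q : List ℕ} {b b' : ℕ} {es T : List ℕ} {M : ℕ} {I : ℕ → ℕ}
    (hb : cycB tb t P0 P L L' b0 n U V h q b b' es T M I = true) {c : Equiv.Perm ℕ} (hc : c ∈ cl (gp nets) L)
    (hU : ∀ u ∈ U, Commute c (ev (gp nets) u.2)) (hV : ∀ u ∈ V, Commute c (ev (gp nets) u)) :
    c ∈ zpowers (ev (gp nets) q) := by
  unfold cycB at hb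
  simp only [cnd_tt, decide_eq_true_eq] at hb
  obtain ⟨⟨n1, n2, n3, h4⟩, h1, h2, h3, h5, h6, h7⟩ := hb
  obtain ⟨c1, -, c3, c4, c5, -⟩ := hC.cons hN
  have m : ∀ {w}, subB w L = true → ev (gp nets) w ∈ cl (gp nets) L := fun hw =>
    ev_mem fun x hx => mem_cl (sub_of_subB hw x hx)
  have lt : ∀ g ∈ cl (gp nets) L, ∀ p < 64 * n, g p < 0 + 64 * n := fun g hg p hp => by
    obtain ⟨k, hk, rfl⟩ := c5 p (Nat.zero_le _) (by rwa [zero_add])
    exact (c4 _ (mul_mem hg hk)).2
  have a1 := allR_sound h6 (Nat.zero_le _) (lt c hc b n1)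
  rw [show allL V _ = true from allL_iff.2 fun u hu => beq_tt.2 (by
    have := beq_tt.1 (allL_iff.1 h5 u hu)
    rw [wap_eq ht] at this ⊢
    exact (DFunLike.congr_fun (hV u hu).inv_right.eq b).symm.trans (congrArg c this))] at a1
  replace a1 : bit M (((ev (gp nets) q ^ I (c b))⁻¹ * c) b) = true := by rw [Equiv.Perm.mul_apply, ← witer_eq ht]; exact a1
  suffices (ev (gp nets) q ^ I (c b))⁻¹ * c = 1 from inv_mul_eq_one.1 this ▸ pow_mem (mem_zpowers _) _
  have k0 := mul_mem (inv_mem (pow_mem (m h2) (I (c b)))) hc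
  have k1 : ∀ u ∈ U, Commute ((ev (gp nets) q ^ I (c b))⁻¹ * c) (ev (gp nets) u.2) := fun u hu => by
    refine (Commute.pow_left ?_ _).inv_left.mul_left (hU u hu)
    have a := allL_iff.1 h3 u hu
    unfold eqW at a
    rw [cnd_tt, cnd_tt] at a
    have := hC.base hN (mul_mem (m a.1) (inv_mem (m a.2.1))) fun p hp => by
      rw [Equiv.Perm.mul_apply, ← wap_eq ht, ← beq_tt.1 (allL_iff.1 a.2.2 p hp), wap_eq ht]; simp
    rwa [mul_inv_eq_one, apd_eq, apd_eq, ev_append, ev_append] at this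
  generalize (ev (gp nets) q ^ I (c b))⁻¹ * c = d at a1 k0 k1
  have k2 := mul_mem (mul_mem (inv_mem (m h1)) k0) (m h1)
  have key : ∀ i, ((ev (gp nets) h)⁻¹ * d * ev (gp nets) h) (pt2 tb U h b b' i) = pt2 tb U h (d b) (d b') i := fun i => by
    have : Commute d (ev (gp nets) (nth (0, []) U i).2) := by
      rcases nth_mem (0, []) U i with e | e
      exacts [by rw [e]; exact Commute.one_right _, k1 _ e]
    simp only [pt2, wap_eq ht, Equiv.Perm.mul_apply, Equiv.Perm.coe_inv, Equiv.apply_symm_apply]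
    refine congrArg _ ((DFunLike.congr_fun this.inv_right.eq _).trans ?_)
    cases Nat.beq (nth (0, []) U i).1 0 <;> rfl
  have k3 : ((ev (gp nets) h)⁻¹ * d * ev (gp nets) h) b0 = wap tb h (d b) := by
    rw [← n3]; simp [wap_eq ht]
  have a2 := allR_sound h7 (Nat.zero_le _) (lt d k0 b n1)
  rw [a1, show ∀ a : Bool, cnd true a true = a from fun _ => rfl] at a2
  obtain ⟨v, v1, v2, v3⟩ := walk_sound ht a2
  have a3 := allR_sound v3 (Nat.zero_le _) (lt d k0 b' n2)
  by_cases e : d b = b ∧ d b' = b'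
  · have := hC.base hN k2 fun p hp => by
      rcases List.mem_cons.1 hp with rfl | hp
      · exact k3.trans (by rw [e.1]; exact n3)
      · rw [show List.rec _ _ t = bases t from rfl, h4] at hp
        obtain ⟨i, -, rfl⟩ := List.mem_map.1 hp
        rw [key, e.1, e.2]
    rwa [mul_assoc, inv_mul_eq_one, right_eq_mul] at this
  · rw [show cnd (Nat.beq (d b) b) (Nat.beq (d b') b') false = false by
      rw [← Bool.not_eq_true, cnd_tt, beq_tt, beq_tt]; exact e, show ∀ a : Bool, cnd false true a = a from fun _ => rfl] at a3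
    refine (sift_sound hN ht c1 a3 (c := (ev (gp nets) h)⁻¹ * d * ev (gp nets) h) ?_ ?_ fun r hr => ?_).elim
    · rw [List.append_nil, List.reverse_reverse]
      exact (c3 _ (mul_mem (inv_mem (ev_mem fun x hx => mem_cl (v1 x hx))) k2)).1 (by rw [Equiv.Perm.mul_apply, k3, v2])
    · rw [h4, List.map_map]
      exact List.map_congr_left fun i _ => key i
    · rw [mapL_eq] at hr
      obtain ⟨i, -, rfl⟩ := List.mem_map.1 hr
      exact key i

theorem SymM.fix {G : Subgroup (Equiv.Perm ℕ)} {X : Type*} [MulAction G X] {x : ℕ → X} {σ : Equiv.Perm X} {r : ℕ}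
    {μ : ℕ → ℕ} (h : SymM G x σ r μ) {S : Subgroup G} {y : X} (hy : S ≤ MulAction.stabilizer G y) :
    ∃ k < r, Nat.card S ∣ μ k ∧ ∃ g : G, y = g • x k := by
  obtain ⟨k, hk, g, rfl⟩ := h.all y
  refine ⟨k, hk, (card_dvd_of_le hy).trans ?_, g, rfl⟩
  rw [← h.card k hk, MulAction.stabilizer_smul_eq_stabilizer_map_conj, card_map_of_injective (MulAut.conj g).injective]

/-- Automorphisms of `H = 2.Q.2` act on `K = 2.Q` as inner automorphisms when `|Out Q| = 2`. -/
theorem aut_fix {H Q : Type*} [Group H] [Finite H] [Group Q] {K : Subgroup H} (hi : K.index = 2)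
    (hp : Group.IsPerfect K) {τ : K →* Q} (hτ : IsStemExtension τ) (hz : center Q = ⊥) (hO : Nat.card (Out Q) = 2)
    (hc : ∀ v : H, (∀ k ∈ K, v * k = k * v) → v ∈ K) (β : MulAut H) : ∃ n : H, ∀ k ∈ K, β k = n * k * n⁻¹ := by
  have hN := normal_of_index_eq_two hi
  have := Finite.of_surjective _ hτ.1
  have hK : K = commutator H := le_antisymm (by
    rw [← K.range_subtype, MonoidHom.range_eq_map, ← hp.1, map_commutator_eq]
    exact commutator_mono le_top le_top) (commutator_le.2 fun a _ b _ => by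
      rw [commutatorElement_def, mul_mem_iff_of_index_two hi, mul_mem_iff_of_index_two hi,
        mul_mem_iff_of_index_two hi, K.inv_mem_iff, K.inv_mem_iff]
      tauto)
  have hm : ∀ (β : MulAut H) (k : K), β k ∈ K := fun β k => by
    have := (characteristic_iff_map_le.1 (hK ▸ inferInstance : K.Characteristic)) β
    exact this ⟨k, k.2, rfl⟩
  let res : MulAut H → K →* K := fun β => (β.toMonoidHom.comp K.subtype).codRestrict K (hm β)
  have rs : ∀ β, Function.Surjective (res β) := fun β k => ⟨⟨_, hm β⁻¹ k⟩, Subtype.ext (β.apply_symm_apply _)⟩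
  have ind : ∀ β : MulAut H, ∃ b : MulAut Q, ∀ k, b (τ k) = τ (res β k) := fun β => by
    have h1 : τ.ker ≤ (τ.comp (res β)).ker := fun k hk => by
      rw [MonoidHom.mem_ker, ← mem_bot, ← hz, mem_center_iff]
      intro y
      obtain ⟨y, rfl⟩ := (hτ.1.comp (rs β)) y
      exact ((map_mul (τ.comp (res β)) y k).symm.trans (congrArg _ (mem_center_iff.1 (hτ.2.1 hk) y))).trans
        (map_mul _ _ _)
    let b := τ.liftOfSurjective hτ.1 ⟨_, h1⟩
    have hb : ∀ k, b (τ k) = τ (res β k) := fun k => τ.liftOfRightInverse_comp_apply _ _ _ k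
    have h2 : Function.Surjective b := fun y => by
      obtain ⟨y, rfl⟩ := (hτ.1.comp (rs β)) y
      exact ⟨_, hb y⟩
    exact ⟨MulEquiv.ofBijective b (Finite.surjective_iff_bijective.1 h2), hb⟩
  have inn : ∀ (β : MulAut H) (b : MulAut Q), (∀ k, b (τ k) = τ (res β k)) → b ∈ Inn Q →
      ∃ n ∈ K, ∀ k ∈ K, β k = n * k * n⁻¹ := by
    rintro β _ hb ⟨y, rfl⟩
    obtain ⟨n, rfl⟩ := hτ.1 y
    have := lift_unique hp hτ.2.1 (η := res β) (η' := (MulAut.conj n).toMonoidHom) (MonoidHom.ext fun k => by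
      simpa using (hb k).symm)
    exact ⟨n, n.2, fun k hk => by exact congrArg Subtype.val (DFunLike.congr_fun this (⟨k, hk⟩ : K))⟩
  obtain ⟨w, hw⟩ : ∃ w, w ∉ K := by
    by_contra! h
    rw [show K = ⊤ from eq_top_iff.2 fun w _ => h w, index_top] at hi
    omega
  obtain ⟨b, hb⟩ := ind β
  obtain ⟨a, ha⟩ := ind (MulAut.conj w)
  have h1 : a ∉ Inn Q := fun h => by
    obtain ⟨n, hn, e⟩ := inn _ a ha h
    refine hw ((mul_mem_cancel_left (inv_mem hn)).1 (hc _ fun k hk => ?_))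
    have := e k hk
    rw [MulAut.conj_apply] at this
    calc n⁻¹ * w * k = n⁻¹ * (w * k * w⁻¹) * w := by group
      _ = _ := by rw [this]; group
  by_cases h2 : b ∈ Inn Q
  · obtain ⟨n, -, e⟩ := inn β b hb h2
    exact ⟨n, e⟩
  · have h3 : a⁻¹ * b ∈ Inn Q := (mul_mem_iff_of_index_two hO).2 (by rw [inv_mem_iff]; tauto)
    obtain ⟨n, -, e⟩ := inn ((MulAut.conj w)⁻¹ * β) _ (fun k => by
      rw [MulAut.mul_apply, hb, MulAut.inv_def, MulEquiv.symm_apply_eq, ha]
      exact congrArg τ (Subtype.ext ((MulAut.conj w).apply_symm_apply _).symm)) h3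
    refine ⟨w * n, fun k hk => ?_⟩
    have := e k hk
    rw [MulAut.mul_apply, MulAut.inv_def, MulEquiv.symm_apply_eq, MulAut.conj_apply] at this
    rw [this]; group

end Cfsg.Lib.Comp
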