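import Cfsg.Agent.Lib.Comp.PermGrp
import Cfsg.Agent.Lib.Comp.Tr
import Cfsg.Agent.Lib.Golay.Stab

/-!
# Groups of permutations of a coded type as groups given by networks
-/

namespace Cfsg.Lib.Comp

open Cfsg.Lib.Golay

theorem equiv_of_coding {α : Type*} (c : Coding α) {gs : List ℕ} (hv : ∀ g ∈ gs, c.Valid g) {nets : List Net}
    (hN : NetsOK c.n nets) {L : List ℕ}
    (h1 : allL L (fun x => allN c.n fun p => Nat.beq (ptInv (nth Net.nil nets x) (Golay.app (nth 0 (0 :: gs) x) p)) p) = true)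
    (h2 : gs = L.map (nth 0 (0 :: gs))) : Nonempty (c.gen gs ≃* cl (gp nets) L) := by
  let ι : α ↪ ℕ := ⟨c.idx, c.idx_injective⟩
  let φ := Equiv.Perm.viaEmbeddingHom ι
  have key : ∀ x ∈ L, φ (c.dec (nth 0 (0 :: gs) x)) = gp nets x := by
    intro x hx
    have hg : nth 0 (0 :: gs) x ∈ gs := by
      have := List.mem_map_of_mem (f := nth 0 (0 :: gs)) hx
      rwa [← h2] at this
    ext p
    by_cases hp : p < c.n
    · have a1 := beq_tt.1 (allN_iff.1 (allL_iff.1 h1 x hx) p hp)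
      rw [ptInv_gp hN, Equiv.Perm.inv_eq_iff_eq] at a1
      rw [← a1, ← c.idx_pt p hp, ← (hv _ hg).idx_dec]
      exact Equiv.Perm.viaEmbedding_apply _ ι _
    · rw [hN.fx x p (by omega)]
      exact Equiv.Perm.viaEmbedding_apply_of_notMem _ ι _ fun ⟨a, ha⟩ => hp (ha ▸ c.idx_lt a)
  have : c.gen gs = cl (fun x => c.dec (nth 0 (0 :: gs) x)) L := by
    unfold Coding.gen cl
    congr 1
    ext σ
    constructor
    · rintro ⟨g, hg, rfl⟩
      rw [h2] at hg
      obtain ⟨x, hx, rfl⟩ := List.mem_map.1 hg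
      exact ⟨x, hx, rfl⟩
    · rintro ⟨x, hx, rfl⟩
      refine ⟨_, ?_, rfl⟩
      have := List.mem_map_of_mem (f := nth 0 (0 :: gs)) hx
      rwa [← h2] at this
  exact ⟨(MulEquiv.subgroupCongr this).trans (((cl _ L).equivMapOfInjective φ
    (Equiv.Perm.viaEmbeddingHom_injective ι)).trans (MulEquiv.subgroupCongr (map_cl_of_gen key)))⟩

end Cfsg.Lib.Comp
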