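import Cfsg.Agent.Lib.Comp.Sym5
import Cfsg.Agent.Lib.Comp.Subst3
import Cfsg.Agent.Lib.Comp.Bridge2

/-!
# Double coset data: glue
-/

namespace Cfsg.Lib.Comp

universe u

theorem rng_of_allR {lo c : ℕ} {f : ℕ → Bool} (h : allR lo c 1 f = true) : ∀ j, lo ≤ j → j < lo + c → f j = true :=
  fun _ h1 h2 => allR_sound h h1 (by omega)

theorem rng_app {a b c : ℕ} {P : ℕ → Prop} (h : ∀ j, a ≤ j → j < b → P j) (h' : ∀ j, b ≤ j → j < c → P j) :
    ∀ j, a ≤ j → j < c → P j := fun j h1 h2 => if h3 : j < b then h j h1 h3 else h' j (by omega) h2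

theorem rng_zero {c : ℕ} {P : ℕ → Prop} (h : ∀ j, 0 ≤ j → j < c → P j) : ∀ j < c, P j := fun j => h j j.zero_le

/-- The full word of a relator. -/
def fullW (r : List ℕ × ℕ) : List ℕ := (List.replicate (r.2 + 1) r.1).flatten

theorem ev_fullW {Γ : Type*} [Monoid Γ] (γ : ℕ → Γ) (r : List ℕ × ℕ) : ev γ (fullW r) = ev γ r.1 ^ (r.2 + 1) := by
  unfold fullW
  induction r.2 + 1 with
  | zero => simp [ev_nil]
  | succ n ih => rw [List.replicate_succ, List.flatten_cons, ev_append, ih, pow_succ']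

theorem Mem.consF {iv : ℕ → ℕ} {R R' : List (List ℕ × ℕ)} {G : List (List ℕ)} (h : Mem.{u} iv R [] G)
    (hG : ∀ r ∈ R', r ∈ R ∨ fullW r ∈ G) : Cons.{u} iv R R' := fun Γ _ γ h1 h2 r hr => by
  rcases hG r hr with h3 | h3
  · exact h2 r h3
  · rw [← ev_fullW]; exact Subgroup.mem_bot.1 (h Γ γ ⊥ h1 h2 (by simp) _ h3)

theorem rels_words {Γ : Type*} [Monoid Γ] {γ : ℕ → Γ} {W : List (List ℕ)} (h : ∀ w ∈ W, ev γ w = 1) :
    Rels γ (W.map fun w => (w, 0)) := fun r hr => by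
  obtain ⟨w, hw, rfl⟩ := List.mem_map.1 hr
  rw [zero_add, pow_one, h w hw]

/-- The first level of an exact chain, as needed for the control group. -/
theorem Exact.ctl {N : ℕ} {nets : List Net} (hN : NetsOK N nets) {L' o Lc LN L0 : List ℕ} {n : ℕ} {t : List Lev}
    (h : Exact nets ((L', o, 0, 0, n) :: t) Lc) (hc : cl (gp nets) Lc = cl (gp nets) LN) (h1 : subB L' L0 = true) :
    (∀ g ∈ cl (gp nets) LN, g 0 < n) ∧ ∀ g ∈ cl (gp nets) LN, g 0 = 0 → g ∈ cl (gp nets) L0 := by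
  obtain ⟨-, -, a, b, -⟩ := h.cons hN
  rw [hc] at a b
  exact ⟨fun g hg => by simpa using (b g hg).2, fun g hg h0 => cl_mono (sub_of_subB h1) ((a g hg).1 h0)⟩

theorem psi_id {nets : List Net} {G : Subgroup (Equiv.Perm ℕ)} {L0 : List ℕ} (h : ∀ a ∈ L0, gp nets a ∈ G) :
    ∃ ψ : cl (gp nets) L0 →* G, ∀ a (ha : a ∈ L0), ψ ⟨gp nets a, mem_cl ha⟩ = evG nets G [a] :=
  ⟨Subgroup.inclusion (cl_le.2 h), fun a ha => Subtype.ext (by
    rw [evG, ev_single, coe_sval (h a ha)]; rfl)⟩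

theorem fix_letters {nets : List Net} {tb : ℕ → ℕ → ℕ} (ht : TbA nets tb) {L0 : List ℕ} {b : ℕ}
    (h : allL L0 (fun a => Nat.beq (wap tb [a] b) b) = true) : ∀ g ∈ cl (gp nets) L0, g b = b := by
  have := fix_of_words ht (W := fun a => [a]) h
  simpa only [ev_single] using this

/-- A presented group in terms of another system of letters. -/
theorem CoxOK.transfer {α : Type} [DecidableEq α] {edges : List (α × ℕ × α)} {extra : List (FreeGroup α)}
    {all : List α} {ix : α → ℕ} {D : List (α × Bool)} {iv iv' : ℕ → ℕ} {R R' RC : List (List ℕ × ℕ)} {L : List ℕ}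
    (h : CoxOK edges extra all ix D iv' R' L) (hall : ∀ a, a ∈ all) {V V' : List (List ℕ)} (hc : Cons.{0} iv' R' RC)
    (h1 : SvOK iv' iv V RC R) (h2 : SvOK iv iv' V' R R') (hV : ∀ x ∈ L, nth [] V x = [x] ∧ nth [] V' x = [x]) :
    ∃ γ : ℕ → Spor.CoxPresented α edges extra, IvOK γ iv ∧ Rels γ R ∧ cl γ L = ⊤ ∧
      (∀ x ∈ L, γ x = cval edges extra D x) ∧ ∀ (Δ : Type) [Group Δ] (δ : ℕ → Δ), IvOK δ iv → Rels δ R →
        ∃ f : Spor.CoxPresented α edges extra →* Δ, ∀ x ∈ L, f (γ x) = δ x := by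
  obtain ⟨a1, a2⟩ := h1.ok h.ivOK (hc _ _ h.ivOK (h.rels hall))
  have e : ∀ x ∈ L, sv (cval edges extra D) V x = cval edges extra D x := fun x hx => by rw [sv, (hV x hx).1, ev_single]
  refine ⟨_, a1, a2, (cl_congr2 e).trans (h.top hall), e, fun Δ _ δ b1 b2 => ?_⟩
  obtain ⟨f, hf⟩ := h.hom hall (h2.ok b1 b2).1 (h2.ok b1 b2).2
  exact ⟨f, fun x hx => by rw [e x hx, hf x hx, sv, (hV x hx).2, ev_single]⟩

end Cfsg.Lib.Comp
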