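import Cfsg.Agent.Lib.Comp.Cover
import Cfsg.Agent.Lib.Comp.Sym6
import Cfsg.Agent.Lib.Comp.Subst2
import Cfsg.Agent.Lib.Linear.SymPres
import Cfsg.Agent.Lib.Mult.Prod

/-! # Covering groups inside a group, coset actions, alternating subgroups -/

namespace Cfsg.Lib.Comp

open Subgroup Cfsg.Lib.Mult Cfsg.Lib.Linear
open scoped commutatorElement

/-- Lifts of the letters of a simple group generate a stem extension. -/
theorem stem_of {G : Type} [Group G] [IsSimpleGroup G] {g : ℕ → G} {iv : ℕ → ℕ} {R : List (List ℕ × ℕ)}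
    {L : List ℕ} (hi : IvOK g iv) (hr : Rels g R) {n : ℕ} (ho : Ord.{0} iv R L n) (hn : n ≤ Nat.card G)
    (ht : cl g L = ⊤) {Δ : Type} [Group Δ] {δ : ℕ → Δ} {Rz : List (List ℕ × ℕ)} (hR : Rels δ Rz)
    {z m e : ℕ} {a b : List ℕ} (hc : CoverOK iv R Rz L z m a b) (hz : ∀ x ∈ L, ev δ [x, z] = ev δ [z, x])
    (hab : ⁅ev δ a, ev δ b⁆ ^ e = δ z) {x y : ℕ} (hx : x ∈ L) (hy : y ∈ L) (hxy : ev δ [x, y] ≠ ev δ [y, x]) :
    ∃ σ : cl δ L →* G, IsStemExtension σ ∧ Nat.card σ.ker = orderOf (δ z) := by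
  classical
  obtain ⟨c1, c2, c3, c4, c5⟩ := hc
  let A : cl δ L := ⟨ev δ a, ev_mem fun x hx => mem_cl (c4 x hx)⟩
  let B : cl δ L := ⟨ev δ b, ev_mem fun x hx => mem_cl (c5 x hx)⟩
  let Z : cl δ L := ⁅A, B⁆ ^ e
  have hZ : (Z : Δ) = δ z := hab
  have hZc : Z ∈ center (cl δ L) := mem_center_iff.2 fun u => Subtype.ext <| by
    have : cl δ L ≤ centralizer {δ z} := cl_le.2 fun x hx => mem_centralizer_singleton_iff.2 (by
      simpa [ev_cons, ev_nil] using hz x hx)
    rw [coe_mul, coe_mul, hZ]; exact mem_centralizer_singleton_iff.1 (this u.2)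
  have hN : (zpowers Z).Normal := normal_of_le_center (zpowers_le.2 hZc)
  let π := QuotientGroup.mk' (zpowers Z)
  let ε : ℕ → cl δ L ⧸ zpowers Z := fun x => if x ∈ L then π (sval _ δ x) else 1
  have e1 : ∀ u : List ℕ, (∀ x ∈ u, x ∈ L) → ev ε u = π (ev (sval _ δ) u) := fun u hu => by
    rw [ev_map]; exact ev_congr' fun x hx => if_pos (hu x hx)
  have e2 : ∀ r : List ℕ × ℕ, (∀ x ∈ r.1, x ∈ L) → UpTo z m Rz r → ev ε r.1 ^ (r.2 + 1) = 1 := fun r h3 h4 => by
    rw [e1 _ h3, ← map_pow]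
    refine (QuotientGroup.eq_one_iff _).2 ?_
    obtain ⟨i, hi⟩ := h4.mem hR
    refine ⟨i, Subtype.ext ?_⟩
    rw [coe_zpow, hZ, coe_pow, coe_ev_sval fun x hx => mem_cl (h3 x hx)]; exact hi
  have i1 : IvOK ε iv := by
    refine ⟨if_neg c1, fun x hx => ⟨(c2 x hx).1, ?_⟩⟩
    obtain ⟨-, d2, d3⟩ := c2 x hx
    by_cases hL : x ∈ L
    · rw [eq_inv_iff_mul_eq_one, mul_eq_one_comm]
      rcases d3 hL with d | ⟨d, d'⟩
      · simpa [ev_cons, ev_nil] using e2 _ (by simp [hL, d2.1 hL]) d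
      · simpa [ev_cons, ev_nil, d, pow_two] using e2 _ (by simp [hL]) d'
    · simp only [ε, if_neg hL, if_neg (mt d2.2 hL), inv_one]
  have i2 : Rels ε R := fun r hr => e2 r (c3 r hr).1 (c3 r hr).2
  obtain ⟨f, hf⟩ := hom_of_ord.{0, 0} ho hi hr i1 i2 (by rwa [ht, card_top])
  let f' : G →* cl δ L ⧸ zpowers Z := f.comp ((MonoidHom.id G).codRestrict _ fun u => ht ▸ mem_top u)
  have hf' : ∀ x ∈ L, f' (g x) = π (sval _ δ x) := fun x hx => by
    have := hf [x] (by simpa using hx)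
    rw [ev_single ε, show ε x = _ from if_pos hx] at this
    rw [← this]
    exact congrArg f (Subtype.ext (ev_single g x).symm)
  have s1 : Function.Surjective f' := by
    rw [← MonoidHom.range_eq_top, eq_top_iff, ← MonoidHom.range_eq_top.2 (QuotientGroup.mk'_surjective (zpowers Z)),
      MonoidHom.range_eq_map, ← cl_sval_top δ L, cl_map, cl_le]
    exact fun x hx => ⟨g x, hf' x hx⟩
  have s2 : Function.Injective f' := by
    rw [← MonoidHom.ker_eq_bot_iff]
    refine (IsSimpleGroup.eq_bot_or_eq_top_of_normal f'.ker inferInstance).resolve_right fun h => hxy ?_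
    have h3 : f' (g x) = 1 := by rw [← MonoidHom.mem_ker, h]; exact mem_top _
    rw [hf' x hx] at h3
    have h4 := mem_center_iff.1 (zpowers_le.2 hZc ((QuotientGroup.eq_one_iff _).1 h3)) (sval _ δ y)
    have h5 := congrArg Subtype.val h4
    rw [coe_mul, coe_mul, coe_sval (mem_cl hx), coe_sval (mem_cl hy)] at h5
    simpa [ev_cons, ev_nil] using h5.symm
  let E := MulEquiv.ofBijective f' ⟨s2, s1⟩
  have hk : π.ker = zpowers Z := QuotientGroup.ker_mk' _
  have hs : IsStemExtension π := ⟨QuotientGroup.mk'_surjective _, hk.le.trans (zpowers_le.2 hZc), hk.le.trans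
    (zpowers_le.2 (pow_mem (commutator_mem_commutator (mem_top A) (mem_top B)) e))⟩
  refine ⟨_, equiv_comp_stem hs E.symm, ?_⟩
  have k1 : (E.symm.toMonoidHom.comp π).ker = zpowers Z := Eq.trans (by ext; simp) hk
  rw [k1, Nat.card_zpowers, ← orderOf_coe, hZ]

/-- The action of a simple group on the cosets of a proper subgroup. -/
theorem exists_coset_fin {Γ : Type*} [Group Γ] [IsSimpleGroup Γ] {A : Subgroup Γ} {n : ℕ} [NeZero n] (h : A.index = n)
    (hn : n ≠ 1) : ∃ (H : Subgroup (Equiv.Perm (Fin n))) (_ : Γ ≃* H), MulAction.IsPretransitive H (Fin n) ∧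
      Nonempty (A ≃* MulAction.stabilizer H (0 : Fin n)) := by
  classical
  have : Finite (Γ ⧸ A) := Nat.finite_of_card_ne_zero (h.trans_ne (NeZero.ne n))
  let e0 : (Γ ⧸ A) ≃ Fin n := Finite.equivFinOfCardEq h
  let e : (Γ ⧸ A) ≃ Fin n := e0.trans (Equiv.swap (e0 (1 : Γ)) 0)
  have he : e (1 : Γ) = 0 := Equiv.swap_apply_left _ _
  let f : Γ →* Equiv.Perm (Fin n) := (e.permCongrHom : _ →* _).comp (MulAction.toPermHom Γ (Γ ⧸ A))
  have hf : ∀ g x, f g (e x) = e (g • x) := fun g x => by simp [f, Equiv.permCongrHom]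
  have h0 : ∀ g, f g 0 = 0 ↔ g ∈ A := fun g => by
    rw [← he, hf, e.apply_eq_iff_eq, MulAction.Quotient.smul_coe, eq_comm, QuotientGroup.eq]; simp
  have hi : Function.Injective f := by
    rw [← MonoidHom.ker_eq_bot_iff]
    refine (IsSimpleGroup.eq_bot_or_eq_top_of_normal f.ker inferInstance).resolve_right fun h1 => hn ?_
    rw [← h, index_eq_one, eq_top_iff]
    intro g _
    rw [← h0, MonoidHom.mem_ker.1 (h1 ▸ mem_top g)]; rfl
  refine ⟨f.range, MonoidHom.ofInjective hi, ⟨fun a b => ?_⟩, ⟨((MonoidHom.ofInjective hi).subgroupMap A).trans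
    (MulEquiv.subgroupCongr ?_)⟩⟩
  · obtain ⟨g, hg⟩ := MulAction.exists_smul_eq Γ (e.symm a) (e.symm b)
    refine ⟨⟨f g, g, rfl⟩, ?_⟩
    show f g a = b
    rw [← e.apply_symm_apply a, hf, hg, e.apply_symm_apply]
  · ext x
    obtain ⟨g, rfl⟩ := (MonoidHom.ofInjective hi).surjective x
    exact (mem_map_equiv.trans (by rw [MulEquiv.symm_apply_apply])).trans (h0 g).symm

theorem exists_hom_moore {G : Type} [Group G] {n : ℕ} {x : ℕ → G} (h : Moore x n) :
    ∃ φ : alternatingGroup (Fin (n + 2)) →* G, ∀ i : Fin n, φ (mooreGen n i) = x i := by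
  let R : Set (FreeGroup (Fin n)) :=
    {r | ∀ (G : Type) [Group G] (x : Fin n → G), Moore (extFin x) n → FreeGroup.lift x r = 1}
  have hl : ∀ {G : Type} [Group G] (x : Fin n → G) (i : ℕ), FreeGroup.lift x (extFin FreeGroup.of i) = extFin x i :=
    fun x i => by unfold extFin; split_ifs <;> simp
  obtain ⟨e, he⟩ := isPres_moore (R := R) fun x => ⟨fun h =>
    ⟨fun h0 => by
        rw [← hl x, ← map_pow]; exact h _ fun G _ y hy => by rw [map_pow, hl]; exact hy.cube h0,
      fun i a b => by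
        rw [← hl x, ← map_pow]; exact h _ fun G _ y hy => by rw [map_pow, hl]; exact hy.sq i a b,
      fun i a => by
        rw [← hl x, ← hl x, ← map_mul, ← map_pow]
        exact h _ fun G _ y hy => by rw [map_pow, map_mul, hl, hl]; exact hy.braid i a,
      fun i j a b => by
        rw [← hl x, ← hl x, ← map_mul, ← map_pow]
        exact h _ fun G _ y hy => by rw [map_pow, map_mul, hl, hl]; exact hy.comm i j a b⟩, fun h r hr => hr _ x h⟩
  have hx : Moore (extFin fun i : Fin n => x i) n :=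
    ⟨fun a => by rw [extFin_of_lt _ a]; exact h.cube a, fun i a b => by rw [extFin_of_lt _ b]; exact h.sq i a b,
      fun i a => by rw [extFin_of_lt _ a, extFin_of_lt _ (Nat.lt_of_succ_lt a)]; exact h.braid i a,
      fun i j a b => by rw [extFin_of_lt _ b, extFin_of_lt _ (by omega : i < n)]; exact h.comm i j a b⟩
  refine ⟨(PresentedGroup.toGroup (rels := R) fun r hr => hr _ _ hx).comp e.symm.toMonoidHom, fun i => ?_⟩
  rw [← he]; simp

/-- The list `R` contains Moore's relators. -/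
def MooreL (n : ℕ) (R : List (List ℕ × ℕ)) : Prop :=
  ([0], 2) ∈ R ∧ (∀ j < n, 0 < j → ([j], 1) ∈ R) ∧ (∀ j < n, j + 1 < n → ([j, j + 1], 2) ∈ R) ∧
    ∀ j < n, ∀ i < n, i + 1 < j → ([i, j], 1) ∈ R

instance (n : ℕ) (R : List (List ℕ × ℕ)) : Decidable (MooreL n R) :=
  have : ∀ j, Decidable (∀ i < n, i + 1 < j → ([i, j], 1) ∈ R) := fun _ => inferInstance
  have : Decidable (∀ j < n, ∀ i < n, i + 1 < j → ([i, j], 1) ∈ R) := inferInstance
  have : Decidable (∀ j < n, j + 1 < n → ([j, j + 1], 2) ∈ R) := inferInstance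
  have : Decidable (∀ j < n, 0 < j → ([j], 1) ∈ R) := inferInstance
  by unfold MooreL; infer_instance

theorem moore_of_rels {G : Type*} [Group G] {n : ℕ} {x : ℕ → G} {R : List (List ℕ × ℕ)} (h : Rels x R)
    (hR : MooreL n R) : Moore x n :=
  ⟨fun _ => by simpa [ev_cons, ev_nil] using h _ hR.1,
    fun i a b => by simpa [ev_cons, ev_nil] using h _ (hR.2.1 i b a),
    fun i a => by simpa [ev_cons, ev_nil] using h _ (hR.2.2.1 i (by omega) a),
    fun i j a b => by simpa [ev_cons, ev_nil] using h _ (hR.2.2.2 j b i (by omega) a)⟩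

end Cfsg.Lib.Comp
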