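import Cfsg.Agent.Lib.Comp.TMult2
import Cfsg.Agent.Lib.Mult.Prod
import Cfsg.Agent.Lib.MatB.ThL
import Cfsg.Agent.Lib.MatB.F2

/-! # Multiplier bounds from subgroups of coprime index -/

namespace Cfsg.Lib.Comp

open Subgroup Cfsg Cfsg.Lib.Mult
open scoped commutatorElement

variable {G : Type} [Group G] {Γ : Type} [Group Γ]

theorem mb_of_sub [Finite G] {q : ℕ} (h : ∀ (Γ : Type) [Group Γ] (σ : Γ →* G), IsStemExtension σ →
    (∀ z ∈ σ.ker, z ^ q = 1) → ∃ K : Subgroup Γ, q.Coprime (K.map σ).index ∧ ∀ z ∈ ⁅K, K⁆, σ z = 1 → z = 1) :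
    MB G q 1 := fun Γ _ σ hσ hq => by
  obtain ⟨K, h1, h2⟩ := h Γ σ hσ hq
  refine ⟨1, one_mem _, one_pow _, fun z hz => ?_⟩
  have hi : ((K.map σ).comap σ).index = (K.map σ).index := index_comap_of_surjective _ hσ.1
  have : ((K.map σ).comap σ).FiniteIndex := ⟨by rw [hi]; exact index_ne_zero_of_finite⟩
  have h3 := pow_index_mem_commutator (H := (K.map σ).comap σ) (hσ.2.1 hz) (hσ.2.2 hz)
  have h4 : ⁅(K.map σ).comap σ, (K.map σ).comap σ⁆ ≤ ⁅K, K⁆ := commutator_le.2 fun a ⟨a', ha, ea⟩ b ⟨b', hb, eb⟩ => by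
    have c : ∀ {x y : Γ}, σ x = σ y → ∀ g, Commute (x⁻¹ * y) g := fun {x y} e g =>
      (mem_center_iff.1 (hσ.2.1 (show σ (x⁻¹ * y) = 1 by rw [map_mul, map_inv, e, inv_mul_cancel])) g).symm
    obtain ⟨u, rfl⟩ : ∃ u, a = a' * u := ⟨a'⁻¹ * a, by group⟩
    obtain ⟨v, rfl⟩ : ∃ v, b = b' * v := ⟨b'⁻¹ * b, by group⟩
    have cu := c ea
    have cv := c eb
    simp only [inv_mul_cancel_left] at cu cv
    have e : ⁅a' * u, b' * v⁆ = ⁅a', b'⁆ := by
      simp only [commutatorElement_def, mul_inv_rev]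
      calc _ = a' * (u * (b' * v) * u⁻¹) * a'⁻¹ * (v⁻¹ * b'⁻¹) := by group
        _ = a' * b' * (v * a'⁻¹ * v⁻¹) * b'⁻¹ := by rw [(cu _).eq, mul_inv_cancel_right]; group
        _ = _ := by rw [(cv _).eq, mul_inv_cancel_right]
    rw [e]; exact commutator_mem_commutator ha hb
  have h5 := h2 _ (h4 h3) (by rw [map_pow, hz, one_pow])
  rw [hi] at h5
  have := pow_gcd_eq_one.2 ⟨hq z hz, h5⟩
  rw [h1, pow_one] at this
  rw [this]; exact one_mem _

theorem mb_cyclic [Finite G] {q : ℕ} (g : G) (h : q.Coprime (zpowers g).index) : MB G q 1 :=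
  mb_of_sub fun Γ _ σ hσ _ => by
    obtain ⟨a, rfl⟩ := hσ.1 g
    refine ⟨zpowers a, by rwa [MonoidHom.map_zpowers], fun z hz _ => ?_⟩
    have : ⁅zpowers a, zpowers a⁆ = ⊥ := commutator_eq_bot_iff_le_centralizer.2 fun x ⟨i, hi⟩ =>
      mem_centralizer_iff.2 fun y ⟨j, hj⟩ => by rw [← hi, ← hj]; exact zpow_mul_comm a j i
    rwa [this] at hz

theorem cop_index [Finite G] {H : Subgroup G} {q m n : ℕ} (h : Nat.card G = m * n) (hm : m ∣ Nat.card H)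
    (hc : q.Coprime n) : q.Coprime H.index := by
  obtain ⟨d, hd⟩ := hm
  have h1 := H.card_mul_index
  have h0 : 0 < m := Nat.pos_of_ne_zero fun e => Nat.card_pos.ne' (by rw [h, e, zero_mul])
  rw [h, hd, mul_assoc] at h1
  exact hc.coprime_dvd_right (Dvd.intro_left d (Nat.eq_of_mul_eq_mul_left h0 h1))

theorem mb_prime [Finite G] {p n : ℕ} {g : G} (hg : orderOf g = p) (h : Nat.card G = p * n) (hc : p.Coprime n) :
    MB G p 1 := mb_cyclic g (cop_index h (by rw [Nat.card_zpowers, hg]) hc)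

/-- The subgroup `H` lifts to all central extensions. -/
def Lifts (H : Subgroup G) : Prop :=
  ∀ (Γ : Type) [Group Γ] (σ : Γ →* G), IsStemExtension σ → ∃ η : H →* Γ, σ.comp η = H.subtype

theorem lifts_of {H : Subgroup G} (h1 : Group.IsPerfect H) (h2 : HasCyclicSchurMultiplier H 1) : Lifts H :=
  fun _ _ _ hσ => lift_of_mult_one h1 h2 _ (fun _ => hσ.1 _) hσ.2.1

theorem Lifts.mb [Finite G] {H : Subgroup G} (h : Lifts H) {q : ℕ} (hq : q.Coprime H.index) : MB G q 1 :=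
  mb_of_sub fun Γ _ σ hσ _ => by
    obtain ⟨η, e⟩ := h Γ σ hσ
    refine ⟨η.range, by rwa [← MonoidHom.range_comp, e, range_subtype], fun z hz h1 => ?_⟩
    obtain ⟨y, rfl⟩ := commutator_le_self _ hz
    have : y = 1 := Subtype.ext ((DFunLike.congr_fun e y).symm.trans h1)
    rw [this, map_one]

theorem mb_heis [Finite G] {k n : ℕ} (hp : (2 * k + 1).Prime) {a b z j : G} (h : b * a = a * b * z)
    (ha : Commute a z) (hb : Commute b z) (pa : a ^ (2 * k + 1) = 1) (pb : b ^ (2 * k + 1) = 1) (hz : z ≠ 1)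
    (ja : j * a * j⁻¹ * a = 1) (jb : j * b * j⁻¹ * b = 1) (hG : Nat.card G = (2 * k + 1) ^ 3 * n)
    (hc : (2 * k + 1).Coprime n) : MB G (2 * k + 1) 1 := mb_of_sub fun Γ _ σ hσ hq => by
  have := Fact.mk hp
  obtain ⟨J, rfl⟩ := hσ.1 j
  have cen : ∀ {u : Γ}, σ u = 1 → ∀ g, Commute u g := fun hu g => (mem_center_iff.1 (hσ.2.1 hu) g).symm
  have odd : ∀ {u : Γ}, σ u = 1 → u * u = 1 → u = 1 := fun {u} hu h2 => by
    have := hq u hu
    rwa [pow_succ, pow_mul, pow_two, h2, one_pow, one_mul] at this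
  have lift : ∀ {a : G}, a ^ (2 * k + 1) = 1 → σ J * a * (σ J)⁻¹ * a = 1 →
      ∃ A, σ A = a ∧ J * A * J⁻¹ = A⁻¹ ∧ A ^ (2 * k + 1) = 1 := fun {a} pa ja => by
    obtain ⟨A, rfl⟩ := hσ.1 a
    have hu : σ (J * A * J⁻¹ * A) = 1 := by simpa using ja
    set u := J * A * J⁻¹ * A with e
    have c := cen (show σ (u ^ k) = 1 by rw [map_pow, hu, one_pow])
    have e1 : J * (A * u ^ k) * J⁻¹ = (A * u ^ k)⁻¹ := by
      rw [eq_inv_iff_mul_eq_one, ← hq u hu]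
      calc _ = J * A * (u ^ k * (J⁻¹ * A)) * u ^ k := by group
        _ = u * u ^ k * u ^ k := by rw [(c _).eq, e]; group
        _ = _ := by group
    have e2 : σ (A * u ^ k) = σ A := by rw [map_mul, map_pow, hu, one_pow, mul_one]
    refine ⟨_, e2, e1, ?_⟩
    have hv : σ ((A * u ^ k) ^ (2 * k + 1)) = 1 := by rw [map_pow, e2, pa]
    refine odd hv ?_
    have := (cen hv J).eq
    rw [← mul_inv_eq_iff_eq_mul, eq_comm, ← mul_inv_eq_iff_eq_mul, inv_inv] at this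
    rw [← eq_inv_iff_mul_eq_one, ← inv_pow, ← e1, conj_pow, ← (cen hv J).eq, mul_inv_cancel_right]
  obtain ⟨A, rfl, jA, pA⟩ := lift pa ja
  obtain ⟨B, rfl, jB, pB⟩ := lift pb jb
  set Z := (A * B)⁻¹ * (B * A) with eZ
  have hZ : σ Z = z := by rw [eZ, map_mul, map_inv, map_mul, map_mul, h, inv_mul_cancel_left]
  have hw : σ (Z⁻¹ * (J * Z * J⁻¹)) = 1 := by
    have : J * Z * J⁻¹ = B * A * B⁻¹ * A⁻¹ := by
      calc _ = (J * B * J⁻¹)⁻¹ * (J * A * J⁻¹)⁻¹ * (J * B * J⁻¹) * (J * A * J⁻¹) := by rw [eZ]; group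
        _ = _ := by rw [jA, jB]; group
    rw [this, map_mul, map_inv, hZ, inv_mul_eq_one]
    simp only [map_mul, map_inv]
    rw [h, mul_assoc _ z, ← hb.inv_left.eq, mul_assoc, mul_assoc, mul_assoc, mul_inv_cancel_left, ← ha.inv_left.eq,
      mul_inv_cancel_left]
  have com : ∀ {A : Γ}, J * A * J⁻¹ = A⁻¹ → Commute (σ A) z → Commute A Z := fun {A} jA ha => by
    have hu : σ (A * Z * A⁻¹ * Z⁻¹) = 1 := by
      simp only [map_mul, map_inv, hZ]; rw [ha.eq]; group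
    obtain ⟨w, ew⟩ : ∃ w, J * Z * J⁻¹ = Z * w := ⟨Z⁻¹ * (J * Z * J⁻¹), by group⟩
    rw [ew, inv_mul_cancel_left] at hw
    set u := A * Z * A⁻¹ * Z⁻¹ with e
    have e1 : u = A⁻¹ * Z * A * Z⁻¹ := by
      calc u = J * u * J⁻¹ := by rw [← (cen hu J).eq, mul_inv_cancel_right]
        _ = (J * A * J⁻¹) * (J * Z * J⁻¹) * (J * A * J⁻¹)⁻¹ * (J * Z * J⁻¹)⁻¹ := by rw [e]; group
        _ = A⁻¹ * Z * (w * A * w⁻¹) * Z⁻¹ := by rw [jA, ew]; group
        _ = _ := by rw [(cen hw A).eq, mul_inv_cancel_right]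
    have e2 : u * u = 1 := by
      calc u * u = A⁻¹ * (A * u) * (A⁻¹ * Z * A * Z⁻¹) := by rw [← e1]; group
        _ = A⁻¹ * (u * Z) * A * Z⁻¹ := by rw [← (cen hu A).eq]; group
        _ = 1 := by rw [e]; group
    have := odd hu e2
    rw [e, mul_inv_eq_one, mul_inv_eq_iff_eq_mul] at this
    exact this
  have hB : B * A = A * B * Z := by rw [eZ]; group
  have cA := com jA ha
  have cB := com jB hb
  have pZ : Z ^ (2 * k + 1) = 1 := by
    have := MatB.He.swap_pow hB cA cB 1 (2 * k + 1)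
    rwa [pA, one_mul, one_mul, mul_one, left_eq_mul] at this
  let φ := MatB.He.hom hB cA cB pA pB pZ
  have ea : φ ⟨1, 0, 0⟩ = A := by
    change A ^ (1 : ZMod _).val * B ^ (0 : ZMod _).val * Z ^ (0 : ZMod _).val = A
    simp [ZMod.val_one]
  have eb : φ ⟨0, 1, 0⟩ = B := by
    change A ^ (0 : ZMod _).val * B ^ (1 : ZMod _).val * Z ^ (0 : ZMod _).val = B
    simp [ZMod.val_one]
  have h3 := MatB.F2.cube_dvd hp h ha hb pa pb (by rw [← hZ, ← map_pow, pZ, map_one]) hz (H := φ.range.map σ)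
    ⟨A, ⟨_, ea⟩, rfl⟩ ⟨B, ⟨_, eb⟩, rfl⟩
  refine ⟨φ.range, cop_index hG h3 hc, fun y hy h1 => ?_⟩
  have h4 : Nat.card φ.range ∣ (2 * k + 1) ^ 3 := by
    rw [← MatB.He.card, ← Nat.card_eq_fintype_card]; exact card_range_dvd φ
  rw [← MatB.ThL.card_map_ker σ] at h4
  have h5 := Nat.dvd_one.1 (Nat.dvd_of_mul_dvd_mul_left (pow_pos hp.pos 3)
    (((Nat.mul_dvd_mul_right h3 _).trans h4).trans (mul_one _).symm.dvd))
  exact mem_bot.1 (eq_bot_of_card_eq _ h5 ▸ mem_inf.2 ⟨h1, commutator_le_self _ hy⟩)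

variable {w q : ℕ} {iv : ℕ → ℕ} {R : List (List ℕ × ℕ)} {n : ℕ} {g : ℕ → G} {La : List ℕ} {k : ℕ} {U P : ℕ → ℕ}
    {N : List ℕ}

theorem TS.startH (h0 : 0 < q) (hw : 256 * q * q < 2 ^ w) (hi : IvOK g iv) (hr : Rels g R) {ix : ℕ → ℕ}
    (hs : StartOK iv R n La ix) {σ : Γ →* G} (h1 : Function.Surjective σ) (h2 : σ.ker ≤ center Γ)
    (h3 : ∀ z ∈ σ.ker, z ^ q = 1) {H : Subgroup G} {η : H →* Γ} (hη : σ.comp η = H.subtype) {J : List ℕ}
    (hJ : ∀ j ∈ J, j < n ∧ ∀ x ∈ (nth ([], 0) R j).1, g x ∈ H) :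
    TS w q iv R n g La n (U0 w iv La ix) (P0 w) (J.map (P0 w)) σ := by
  classical
  obtain ⟨s1, s2, s3, s4⟩ := hs
  choose l' hl' using fun x => h1 (g x)
  let l : ℕ → Γ := fun x => if h : g x ∈ H then η ⟨g x, h⟩ else l' x
  have hl : ∀ x, σ (l x) = g x := fun x => by
    simp only [l]
    split_ifs with h
    exacts [DFunLike.congr_fun hη ⟨g x, h⟩, hl' x]
  let γ : ℕ → Γ := fun x => if x ∈ La then (if iv x < x then (l (iv x))⁻¹ else l x) else 1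
  have e0 : ∀ x ∈ La, g x ∈ H → γ x = η (sval H g x) := fun x hx h => by
    have h' := (hi.2 x (s2 x hx)).2
    simp only [γ, l, if_pos hx, sval, dif_pos h, dif_pos (h' ▸ inv_mem h : g (iv x) ∈ H)]
    split_ifs
    · rw [← map_inv]; congr 1; exact Subtype.ext (by simp [h'])
    · rfl
  have e1 : ∀ x ∈ La, σ (γ x) = g x := fun x hx => by
    simp only [γ, if_pos hx]
    split_ifs
    · rw [map_inv, hl, (hi.2 x (s2 x hx)).2, inv_inv]
    · exact hl x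
  have e2 : ∀ j, ev γ (nth ([], 0) R j).1 ^ ((nth ([], 0) R j).2 + 1) ∈ σ.ker := fun j => by
    rcases nth_mem ([], 0) R j with h | h
    · rw [h]; simp [ev_nil]
    · rw [MonoidHom.mem_ker, map_pow, ev_map]
      have : ev (fun x => σ (γ x)) (nth ([], 0) R j).1 = ev g (nth ([], 0) R j).1 :=
        ev_congr' fun x hx => e1 x (s4 _ h x hx)
      rw [this]; exact hr _ h
  let s : ℕ → ZC Γ := fun j => Additive.ofMul ⟨_, h2 (e2 j)⟩
  have hq : 1 < 2 ^ w := lt_of_le_of_lt h0 (q_lt h0 hw)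
  have e3 : ∀ j < n, vval w s n (P0 w j) = s j := fun j hj => (Rp.unit hj).val hq
  refine ⟨γ, s, ⟨if_neg s1, fun x hx => ⟨(hi.2 x hx).1, ?_⟩, fun j hj => by rw [e3 j hj]; rfl,
    fun j => zc_eq_one (h3 _ (e2 j))⟩, e1, fun j => e2 j, fun v hv => ?_⟩
  swap
  · obtain ⟨j, hj, rfl⟩ := List.mem_map.1 hv
    rw [e3 j (hJ j hj).1]
    refine zc_eq_one ?_
    change ev γ (nth ([], 0) R j).1 ^ ((nth ([], 0) R j).2 + 1) = 1
    rcases nth_mem ([], 0) R j with h | h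
    · rw [h]; simp [ev_nil]
    · rw [ev_congr' fun x hx => e0 x (s4 _ h x hx) ((hJ j hj).2 x hx), ← ev_map, ← map_pow]
      have : ev (sval H g) (nth ([], 0) R j).1 ^ ((nth ([], 0) R j).2 + 1) = 1 := Subtype.ext (by
        rw [coe_pow, coe_ev_sval (hJ j hj).2, hr _ h]; rfl)
      rw [this, map_one]
  obtain ⟨t1, t2, t3⟩ := s3 x hx
  unfold U0
  by_cases hx' : x ∈ La
  · rw [bit_msk.2 hx', cnd_true]
    rcases lt_trichotomy (iv x) x with h | h | h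
    · rw [Bool.eq_false_iff.2 (mt beq_tt.1 h.ne), cnd_false, vval_zero, zc_zero]
      simp only [γ, if_pos hx', if_pos (t2.1 hx'), if_pos h, t1, if_neg h.not_gt, inv_mul_cancel]
    · rw [beq_tt.2 h, cnd_true]
      obtain ⟨t4, t5⟩ := t3 hx' h
      have := e3 _ t4
      unfold P0 at this
      rw [this, h]
      change _ = ev γ (nth ([], 0) R (ix x)).1 ^ ((nth ([], 0) R (ix x)).2 + 1)
      rw [t5, ev_single, pow_two]
    · rw [Bool.eq_false_iff.2 (mt beq_tt.1 h.ne'), cnd_false, vval_zero, zc_zero]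
      simp only [γ, if_pos hx', if_pos (t2.1 hx'), if_pos h, t1, if_neg h.not_gt, mul_inv_cancel]
  · rw [Bool.eq_false_iff.2 (mt bit_msk.1 hx'), cnd_false, vval_zero, zc_zero]
    simp only [γ, if_neg hx', if_neg (mt t2.2 hx'), mul_one]

theorem mb_sub [Finite G] (h0 : 0 < q) (hw : 256 * q * q < 2 ^ w) (hi : IvOK g iv) (hr : Rels g R) {ix : ℕ → ℕ}
    (hs : StartOK iv R n La ix) {H : Subgroup G} (hH : Lifts H) {LH J : List ℕ} (hL : ∀ x ∈ LH, g x ∈ H)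
    (hJ : ∀ j ∈ J, j < n ∧ ∀ x ∈ (nth ([], 0) R j).1, x ∈ LH)
    (h1 : TStep w q iv R n g La n (U0 w iv La ix) (P0 w) (J.map (P0 w)) k U P N)
    {L I : List ℕ} (hs' : subT w q iv R n La k U P L I = true) {R' : List (List ℕ × ℕ)}
    (hR : ∀ r ∈ R', r ∈ I.map (nth ([], 0) R)) {m : ℕ} (ho : Ord.{0} iv R' L m) (hc : m ≤ 1 * Nat.card (cl g L))
    (ht : q.Coprime (cl g L).index) : MB G q 1 := mb_of_sub fun Γ _ σ hσ hq => by
  obtain ⟨η, hη⟩ := hH Γ σ hσ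
  obtain ⟨γ, s, a1, a2, -, -⟩ := h1 Γ σ (TS.startH h0 hw hi hr hs hσ.1 hσ.2.1 hq hη
    fun j hj => ⟨(hJ j hj).1, fun x hx => hL x ((hJ j hj).2 x hx)⟩)
  obtain ⟨b1, b2⟩ := a1.card_inf h0 hw a2 hs' hR ho hc
  have hL : ∀ x ∈ L, x ∈ La := by
    unfold subT at hs'; rw [cnd_tt] at hs'; exact sub_of_subB hs'.1
  refine ⟨cl γ L, by rwa [cl_map, cl_congr' fun x hx => a2 x (hL x hx)], fun z hz h2 => ?_⟩
  have := (Finite.card_le_one_iff_subsingleton.1 b2).elim ⟨⟨z, commutator_le_self _ hz⟩, h2⟩ 1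
  exact congrArg (fun y : (σ.comp (cl γ L).subtype).ker => (y.1.1 : Γ)) this

end Cfsg.Lib.Comp
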