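import Cfsg.Agent.Lib.Comp.Cen2
import Cfsg.Agent.Lib.Comp.Subst2
import Cfsg.Agent.Lib.PGrp.Extra
import Cfsg.Agent.Lib.Core.PCore
import Cfsg.Prelude.Def_SporadicB

/-! Involution centralisers that are extensions of a central or extraspecial 2-group by a presented simple group. -/

set_option autoImplicit false

namespace Cfsg.Lib.Comp.XC

open Subgroup Cfsg.Lib.MatB
open scoped commutatorElement

variable {Γ : Type} [Group Γ]

section
variable {Δ : Type} [Group Δ] {s : ℕ → Δ} {iv : ℕ → ℕ} {R Rz : List (List ℕ × ℕ)} {L : List ℕ} {n : ℕ}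

theorem quot_inj (hi : IvOK s iv) (hr : Rels s R) (ho : Ord.{0} iv R L n) (hn : n ≤ Nat.card (cl s L))
    (hc : SideOK iv R Rz L) (hs : IsSimpleGroup (cl s L)) {M Q : Subgroup Γ} [(Q.subgroupOf M).Normal] {γ : ℕ → Γ}
    (hM : ∀ x ∈ L, γ x ∈ M) (hR : ∀ r ∈ Rz, ev γ r.1 ^ (r.2 + 1) ∈ Q) {w : List ℕ} (hw : ∀ x ∈ w, x ∈ L)
    (hw' : ev γ w ∉ Q) : ∃ f : cl s L →* M ⧸ Q.subgroupOf M, Function.Injective f := by
  have k : ∀ u : List ℕ, (∀ x ∈ u, x ∈ L) → ∀ e : ℕ,
      (ev (fun x => QuotientGroup.mk' (Q.subgroupOf M) (sval M γ x)) u ^ e = 1 ↔ ev γ u ^ e ∈ Q) := fun u hu e => by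
    rw [← ev_map, ← map_pow, QuotientGroup.mk'_apply, QuotientGroup.eq_one_iff, mem_subgroupOf, coe_pow,
      coe_ev_sval fun x hx => hM x (hu x hx)]
  obtain ⟨f, hf⟩ := hom_quot hi hr ho hn hc (ε := fun x => QuotientGroup.mk' (Q.subgroupOf M) (sval M γ x))
    fun r a b => (k _ b _).2 (hR r a)
  refine ⟨f, inj_of_simple hs (g := ev (sval (cl s L) s) w) fun e => hw' ?_⟩
  rw [map_ev_of_gen (δ := fun x => QuotientGroup.mk' (Q.subgroupOf M) (sval M γ x)) fun x hx =>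
    (congrArg f (Subtype.ext (coe_sval (mem_cl (hw x hx))))).trans (hf x (hw x hx))] at e
  simpa using (k w hw 1).1 ((pow_one _).trans e)

theorem quot_iso [Finite Γ] (hi : IvOK s iv) (hr : Rels s R) (ho : Ord.{0} iv R L n) (hn : n ≤ Nat.card (cl s L))
    (hc : SideOK iv R Rz L) (hs : IsSimpleGroup (cl s L)) {C Q : Subgroup Γ} {γ : ℕ → Γ} (hQ : Q ≤ C)
    (hC : ∀ x ∈ L, γ x ∈ C) (hN : ∀ x ∈ L, ∀ y ∈ Q, γ x * y * (γ x)⁻¹ ∈ Q)
    (hR : ∀ r ∈ Rz, ev γ r.1 ^ (r.2 + 1) ∈ Q) {w : List ℕ} (hw : ∀ x ∈ w, x ∈ L) (hw' : ev γ w ∉ Q) {q : ℕ}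
    (hq : q ≤ Nat.card Q) (hcard : Nat.card C ≤ n * q) (h0 : 0 < n) :
    ∃ _ : (Q.subgroupOf C).Normal, Nat.card Q = q ∧ Nonempty (C ⧸ Q.subgroupOf C ≃* cl s L) := by
  have k : ∀ M : Subgroup Γ, Q ≤ M → Nat.card M = Nat.card (M ⧸ Q.subgroupOf M) * Nat.card Q := fun M h => by
    rw [card_eq_card_quotient_mul_card_subgroup (Q.subgroupOf M), Nat.card_congr (subgroupOfEquivOfLe h).toEquiv]
  have h1 : C ≤ normalizer (Q : Set Γ) := by
    have := normal_subgroupOf_of_le_normalizer (inf_le_right : C ⊓ normalizer (Q : Set Γ) ≤ _)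
    obtain ⟨f, hf⟩ := quot_inj hi hr ho hn hc hs (M := C ⊓ normalizer (Q : Set Γ))
      (fun x hx => ⟨hC x hx, mem_normalizer_fintype (hN x hx)⟩) hR hw hw'
    have e := eq_of_le_of_card_ge (inf_le_left : C ⊓ normalizer (Q : Set Γ) ≤ C) (hcard.trans
      ((Nat.mul_le_mul (hn.trans (Nat.card_le_card_of_injective f hf)) hq).trans_eq
        (k _ (le_inf hQ le_normalizer)).symm))
    exact e ▸ inf_le_right
  have := normal_subgroupOf_of_le_normalizer h1
  obtain ⟨f, hf⟩ := quot_inj hi hr ho hn hc hs hC hR hw hw'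
  have h2 := hn.trans (Nat.card_le_card_of_injective f hf)
  rw [k C hQ] at hcard
  have h3 : Nat.card Q ≤ q := Nat.le_of_mul_le_mul_left ((Nat.mul_le_mul_right _ h2).trans hcard) h0
  have h4 : Nat.card (C ⧸ Q.subgroupOf C) ≤ n :=
    Nat.le_of_mul_le_mul_right (hcard.trans (Nat.mul_le_mul_left _ hq)) Nat.card_pos
  exact ⟨this, le_antisymm h3 hq, ⟨(MulEquiv.ofBijective f (hf.bijective_of_nat_card_le (h4.trans hn))).symm⟩⟩
end

theorem comm_mem {z : Γ} {γ : ℕ → Γ} {L : List ℕ} (hc : ∀ x ∈ L, Commute (γ x) z)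
    (h1 : ∀ x ∈ L, ∀ y ∈ L, ⁅γ x, γ y⁆ ∈ zpowers z) (h2 : ∀ x ∈ L, γ x ^ 2 ∈ zpowers z) :
    (∀ x ∈ cl γ L, ∀ y ∈ cl γ L, ⁅x, y⁆ ∈ zpowers z) ∧ ∀ x ∈ cl γ L, x ^ 2 ∈ zpowers z := by
  have a : ∀ x, Commute x z → ∀ u ∈ zpowers z, x * u * x⁻¹ ∈ zpowers z := fun x hx u hu => by
    obtain ⟨k, rfl⟩ := hu
    rw [(hx.zpow_right k).eq, mul_inv_cancel_right]; exact ⟨k, rfl⟩
  have b : ∀ y, (∀ x ∈ L, ⁅γ x, y⁆ ∈ zpowers z) → ∀ x ∈ cl γ L, Commute x z ∧ ⁅x, y⁆ ∈ zpowers z := fun y hy x hx => by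
    induction hx using closure_induction with
    | mem x hx => obtain ⟨x, hx, rfl⟩ := hx; exact ⟨hc x hx, hy x hx⟩
    | one => exact ⟨Commute.one_left z, by simp⟩
    | mul x x' _ _ i j => exact ⟨i.1.mul_left j.1, by
        rw [show ⁅x * x', y⁆ = x * ⁅x', y⁆ * x⁻¹ * ⁅x, y⁆ by simp only [commutatorElement_def]; group]
        exact mul_mem (a x i.1 _ j.2) i.2⟩
    | inv x _ i => exact ⟨i.1.inv_left, by
        rw [show ⁅x⁻¹, y⁆ = x⁻¹ * ⁅x, y⁆⁻¹ * x⁻¹⁻¹ by simp only [commutatorElement_def]; group]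
        exact a _ i.1.inv_left _ (inv_mem i.2)⟩
  have c : ∀ x ∈ cl γ L, ∀ y ∈ cl γ L, ⁅x, y⁆ ∈ zpowers z := fun x hx y hy =>
    (b y (fun u hu => by
      rw [← commutatorElement_inv]; exact inv_mem (b _ (fun v hv => h1 v hv u hu) y hy).2) x hx).2
  refine ⟨c, fun x hx => ?_⟩
  induction hx using closure_induction with
  | mem x hx => obtain ⟨x, hx, rfl⟩ := hx; exact h2 x hx
  | one => simp
  | mul x y hx hy i j =>
    rw [show (x * y) ^ 2 = x ^ 2 * ⁅x⁻¹, y⁆ * y ^ 2 by simp only [commutatorElement_def, pow_two]; group]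
    exact mul_mem (mul_mem i (c _ (inv_mem hx) _ hy)) j
  | inv x _ i => rw [inv_pow]; exact inv_mem i

theorem pairs_le [Finite Γ] {Q : Subgroup Γ} {a b : ℕ → Γ} {k : ℕ} (ha : ∀ i < k, a i ∈ Q) (hb : ∀ i < k, b i ∈ Q)
    (h : ∀ i < k, ¬ Commute (a i) (b i) ∧ ∀ j < i, Commute (a j) (b i)) :
    2 ^ k * Nat.card ↥(Q ⊓ centralizer (Q : Set Γ)) ≤ Nat.card Q := by
  have key : ∀ i ≤ k, 2 ^ i * Nat.card ↥(Q ⊓ centralizer (a '' {j | j < i})) ≤ Nat.card Q := fun i hi => by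
    induction i with
    | zero => rw [pow_zero, one_mul]; exact card_le_of_le inf_le_left
    | succ i ih =>
      refine le_trans ?_ (ih (by omega))
      have h1 : Q ⊓ centralizer (a '' {j | j < i + 1}) ≤ Q ⊓ centralizer (a '' {j | j < i}) :=
        inf_le_inf_left _ (centralizer_le (Set.image_mono fun j (hj : j < i) => Nat.lt_succ_of_lt hj))
      obtain ⟨m, hm⟩ := card_dvd_of_le h1
      have h2 : m ≠ 1 := fun e => by
        have := eq_of_le_of_card_ge h1 (by rw [hm, e, mul_one])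
        exact (h i hi).1 ((this.ge ⟨hb i hi, by rintro _ ⟨j, hj, rfl⟩; exact (h i hi).2 j hj⟩).2 _
          ⟨i, Nat.lt_succ_self i, rfl⟩)
      have h3 : m ≠ 0 := fun e => by rw [e, mul_zero] at hm; exact Nat.card_pos.ne' hm
      rw [hm, pow_succ, mul_assoc, mul_comm 2]
      exact Nat.mul_le_mul_left _ (Nat.mul_le_mul_left _ (by omega))
  exact le_trans (Nat.mul_le_mul_left _ (card_le_of_le (inf_le_inf_left _ (centralizer_le (by
    rintro _ ⟨j, hj, rfl⟩; exact ha j hj))))) (key k le_rfl)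

theorem pCore_quot {G H : Type*} [Group G] [Group H] [Finite H] {Q : Subgroup G} [Q.Normal] (hQ : IsPGroup 2 Q)
    (e : G ⧸ Q ≃* H) (hs : IsSimpleGroup H) (h3 : 3 ∣ Nat.card H) : pCore 2 G = Q := by
  refine le_antisymm (fun x hx => ?_) (Core.le_pCore hQ)
  rcases hs.eq_bot_or_eq_top_of_normal ((pCore 2 G).map ((e : G ⧸ Q →* H).comp (QuotientGroup.mk' Q)))
    (Normal.map inferInstance _ (e.surjective.comp (QuotientGroup.mk'_surjective Q))) with h | h
  · exact (QuotientGroup.eq_one_iff x).1 (e.map_eq_one_iff.1 (mem_bot.1 (h ▸ mem_map_of_mem _ hx)))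
  · obtain ⟨k, hk⟩ := IsPGroup.iff_card.1 (h ▸ (Core.isPGroup_pCore 2 G).map ((e : G ⧸ Q →* H).comp (QuotientGroup.mk' Q)))
    rw [card_top] at hk
    exact absurd (Nat.prime_three.dvd_of_dvd_pow (hk ▸ h3)) (by norm_num)

/-- Either of two equations. -/
noncomputable def eq2 (tb : ℕ → ℕ → ℕ) (B L u : List ℕ) (e : ℕ) (w w' : List ℕ) : Bool :=
  cnd (eqP tb B L u e w) true (eqP tb B L u e w')

/-- Two words over `L` differ at a point. -/
noncomputable def neP (tb : ℕ → ℕ → ℕ) (L u w : List ℕ) (p : ℕ) : Bool :=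
  cnd (subB u L) (cnd (subB w L) (cnd (Nat.beq (wap tb u p) (wap tb w p)) false true) false) false

/-- The letters `LQ` generate a group of class at most two over `z`, normalised by the letters `LS`, which satisfy
the relators modulo it. -/
noncomputable def xsB (tb : ℕ → ℕ → ℕ) (B L : List ℕ) (z p : ℕ) (LQ LS : List ℕ) (T : List (List (List ℕ)))
    (RW : List ((List ℕ × ℕ) × List ℕ)) (P : List (ℕ × ℕ × ℕ)) (k : ℕ) (w : List ℕ) (q : ℕ) : Bool :=
  cnd (cnd (eqP tb B L [z] 2 []) (cnd (neP tb L [z] [] p) (subB [z] LQ) false) false)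
   (cnd (cnd (cenP tb B L LQ [z]) (cenP tb B L LS [z]) false)
    (cnd (allL LQ fun x => cnd (eq2 tb B L [x] 2 [] [z]) (allL LQ fun y => eq2 tb B L [x, y] 1 [y, x] [z, y, x]) false)
     (cnd (allL LS fun x => allL LQ fun y => cnd (subB (nth [] (nth [] T x) y) LQ)
        (eqP tb B L [x, y] 1 (apd (nth [] (nth [] T x) y) [x])) false)
      (cnd (allL RW fun r => cnd (subB r.2 LQ) (eqP tb B L r.1.1 (Nat.succ r.1.2) r.2) false)
       (cnd (allN k fun i => cnd (subB [(nth (0, 0, 0) P i).1, (nth (0, 0, 0) P i).2.1] LQ)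
          (cnd (neP tb L [(nth (0, 0, 0) P i).1, (nth (0, 0, 0) P i).2.1] [(nth (0, 0, 0) P i).2.1, (nth (0, 0, 0) P i).1]
            (nth (0, 0, 0) P i).2.2) (allN i fun j => eqP tb B L [(nth (0, 0, 0) P j).1, (nth (0, 0, 0) P i).2.1] 1
              [(nth (0, 0, 0) P i).2.1, (nth (0, 0, 0) P j).1]) false) false)
        (cnd (subB w LS) (neP tb L (apd w (apd w (apd w w))) [] q) false) false) false) false) false) false) false

section
variable {γ : ℕ → Γ} {φ : Γ →* Equiv.Perm ℕ} {nets : List Net} {L B : List ℕ} {tb : ℕ → ℕ → ℕ}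

theorem ne_of_neP (hL : ∀ x ∈ L, φ (γ x) = gp nets x) (ht : TbA nets tb) {u w : List ℕ} {p : ℕ}
    (h : neP tb L u w p = true) : ev γ u ≠ ev γ w := fun e => by
  simp only [neP, cnd_tt] at h
  refine ne_of_wap ht (u := u) (w := w) (p := p) (by
    cases k : Nat.beq (wap tb u p) (wap tb w p)
    · rfl
    · rw [k] at h; exact absurd h.2.2 (by simp [cnd])) ?_
  rw [← map_ev_of_gen fun x hx => hL x (sub_of_subB h.1 x hx), e,
    map_ev_of_gen fun x hx => hL x (sub_of_subB h.2.1 x hx)]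

theorem or_of_eq2 (hφ : Function.Injective φ) (hL : ∀ x ∈ L, φ (γ x) = gp nets x) (hB : IsBase (cl (gp nets) L) B)
    (ht : TbA nets tb) {u w w' : List ℕ} {e : ℕ} (h : eq2 tb B L u e w w' = true) :
    ev γ u ^ e = ev γ w ∨ ev γ u ^ e = ev γ w' := by
  unfold eq2 at h
  cases k : eqP tb B L u e w
  · rw [k] at h; exact Or.inr (eq_of_base hφ hL hB ht h)
  · exact Or.inl (eq_of_base hφ hL hB ht k)

theorem exists_gam (G : List ℕ) (h : cl (gp nets) G ≤ φ.range) : ∃ γ : ℕ → Γ, ∀ x ∈ G, φ (γ x) = gp nets x :=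
  ⟨fun x => Function.invFun φ (gp nets x), fun _ hx => Function.invFun_eq (h (mem_cl hx))⟩

theorem card_cen (hφ : Function.Injective φ) (hr : φ.range = cl (gp nets) L) {z : Γ} {w : List ℕ}
    (hz : φ z = ev (gp nets) w) :
    Nat.card (centralizer {z}) = Nat.card ↥(cl (gp nets) L ⊓ centralizer {ev (gp nets) w}) := by
  obtain ⟨e⟩ := cen_iso hφ (z := z)
  rw [Nat.card_congr e.toEquiv, hr, hz]

theorem main [Finite Γ] (hφ : Function.Injective φ) (hL : ∀ x ∈ L, φ (γ x) = gp nets x)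
    (hB : IsBase (cl (gp nets) L) B) (ht : TbA nets tb) {Δ : Type} [Group Δ] {s : ℕ → Δ} {iv : ℕ → ℕ}
    {R : List (List ℕ × ℕ)} {LS LQ w : List ℕ} {n z p k q : ℕ} {T : List (List (List ℕ))}
    {RW : List ((List ℕ × ℕ) × List ℕ)} {P : List (ℕ × ℕ × ℕ)} (hi : IvOK s iv) (hr : Rels s R) (ho : Ord.{0} iv R LS n)
    (hn : n ≤ Nat.card (cl s LS)) (hc : SideOK iv R (RW.map Prod.fst) LS) (hs : IsSimpleGroup (cl s LS)) (h0 : 0 < n)
    (h : xsB tb B L z p LQ LS T RW P k w q = true) (hcard : Nat.card (centralizer {γ z}) ≤ n * (2 ^ k * 2)) :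
    orderOf (γ z) = 2 ∧ cl γ LQ ≤ centralizer {γ z} ∧ Nat.card (cl γ LQ) = 2 ^ k * 2 ∧
      cl γ LQ ⊓ centralizer (cl γ LQ : Set Γ) = zpowers (γ z) ∧ (0 < k → IsExtraspecial 2 (cl γ LQ)) ∧
      ∃ _ : ((cl γ LQ).subgroupOf (centralizer {γ z})).Normal,
        Nonempty (centralizer {γ z} ⧸ (cl γ LQ).subgroupOf (centralizer {γ z}) ≃* cl s LS) := by
  simp only [xsB, cnd_tt, allL_iff, allN_iff] at h
  obtain ⟨⟨a1, a2, a3⟩, ⟨a4, a5⟩, a6, a7, a8, a9, a10, a11⟩ := h
  have : Fact (Nat.Prime 2) := Nat.fact_prime_two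
  have hz : orderOf (γ z) = 2 := orderOf_eq_prime (by simpa [ev] using eq_of_base hφ hL hB ht a1)
    (by simpa [ev] using ne_of_neP hL ht a2)
  have b1 := cen_of_cenP hφ hL hB ht a4
  have b2 := cen_of_cenP hφ hL hB ht a5
  rw [ev_single] at b1 b2
  have b3 : γ z ∈ cl γ LQ := mem_cl (sub_of_subB a3 z (by simp))
  obtain ⟨c1, c2⟩ := comm_mem (z := γ z) (γ := γ) (L := LQ)
    (fun x hx => mem_centralizer_singleton_iff.1 (b1 (mem_cl hx))) (fun x hx y hy => by
      rcases or_of_eq2 hφ hL hB ht ((a6 x hx).2 y hy) with e | e <;> simp only [ev_cons, ev_nil, mul_one, pow_one] at e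
      · rw [commutatorElement_eq_one_iff_mul_comm.2 e]; exact one_mem _
      · rw [commutatorElement_def, e, show γ z * (γ y * γ x) * (γ x)⁻¹ * (γ y)⁻¹ = γ z by group]
        exact mem_zpowers _) fun x hx => by
      rcases or_of_eq2 hφ hL hB ht (a6 x hx).1 with e | e <;> simp only [ev_cons, ev_nil, mul_one] at e <;> rw [e]
      exacts [one_mem _, mem_zpowers _]
  have c3 := pairs_le (Q := cl γ LQ) (a := fun i => γ (nth (0, 0, 0) P i).1) (b := fun i => γ (nth (0, 0, 0) P i).2.1)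
    (k := k) (fun i hi => mem_cl (sub_of_subB (a9 i hi).1 _ (by simp)))
    (fun i hi => mem_cl (sub_of_subB (a9 i hi).1 _ (by simp))) fun i hi =>
      ⟨by simpa [ev, commute_iff_eq] using ne_of_neP hL ht (a9 i hi).2.1, fun j hj => by
        simpa [ev, commute_iff_eq] using eq_of_base hφ hL hB ht ((a9 i hi).2.2 j hj)⟩
  have c4 : zpowers (γ z) ≤ cl γ LQ ⊓ centralizer (cl γ LQ : Set Γ) :=
    zpowers_le.2 ⟨b3, fun y hy => mem_centralizer_singleton_iff.1 (b1 hy)⟩
  have c5 := card_le_of_le c4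
  rw [Nat.card_zpowers, hz] at c5
  obtain ⟨i, d1, d2⟩ := quot_iso hi hr ho hn hc hs (γ := γ) b1 (fun x hx => b2 (mem_cl hx)) (fun x hx y hy => by
      refine (cl_le (H := (cl γ LQ).comap (MulAut.conj (γ x)).toMonoidHom)).2 (fun y hy => ?_) hy
      have e := eq_of_base hφ hL hB ht (a7 x hx y hy).2
      simp only [apd_eq, ev_append, ev_cons, ev_nil, mul_one, pow_one] at e
      change γ x * γ y * (γ x)⁻¹ ∈ cl γ LQ
      rw [e, mul_inv_cancel_right]
      exact ev_mem fun u hu => mem_cl (sub_of_subB (a7 x hx y hy).1 u hu))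
    (fun r hr => by
      obtain ⟨r, a, rfl⟩ := List.mem_map.1 hr
      rw [show ev γ r.1.1 ^ (r.1.2 + 1) = _ from eq_of_base hφ hL hB ht (a8 r a).2]
      exact ev_mem fun u hu => mem_cl (sub_of_subB (a8 r a).1 u hu))
    (sub_of_subB a10) (fun e => ne_of_neP hL ht a11 (by
      obtain ⟨m, hm⟩ := c2 _ e
      simp only [apd_eq, ev_append, ev_nil]
      rw [← mul_assoc, ← pow_two (ev γ w), ← hm, ← (Commute.refl _).mul_zpow, ← pow_two, ← hz, pow_orderOf_eq_one,
        one_zpow]))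
    ((Nat.mul_le_mul_left _ c5).trans c3) hcard h0
  have c6 := (eq_of_le_of_card_ge c4 (by
    rw [Nat.card_zpowers, hz]; exact Nat.le_of_mul_le_mul_left (c3.trans d1.le) (by positivity))).symm
  refine ⟨hz, b1, d1, c6, fun hk => PGrp.isExtraspecial_of_le_zpowers hz b3 c6 c1 c2 fun e => ?_, i, d2⟩
  rw [e, Nat.card_zpowers, hz] at d1
  have := Nat.one_lt_two_pow hk.ne'
  omega

/-- The first words of `W` are the elements of the group generated by the involutions `LP`; those of order two are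
conjugate to `z` by the second words. -/
noncomputable def sylB (tb : ℕ → ℕ → ℕ) (B L : List ℕ) (z : ℕ) (LP : List ℕ) (W : List (List ℕ × List ℕ)) : Bool :=
  cnd (allL LP fun x => cnd (eqP tb B L [x] 2 []) (allL W fun w => W.any fun v => eqP tb B L (x :: w.1) 1 v.1) false)
   (cnd (W.any fun v => eqP tb B L [] 1 v.1) (cnd (decide (W.map fun w => B.map (wap tb w.1)).Nodup)
    (allL W fun w => cnd (cnd (subB w.1 LP) (subB w.1 L) false) (cnd (eqP tb B L (apd w.2 [z]) 1 (apd w.1 w.2)) true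
      (cnd (eqP tb B L w.1 1 []) true (B.any fun b => neP tb L (apd w.1 w.1) [] b))) false) false) false) false

theorem invs_conj [Finite Γ] (hφ : Function.Injective φ) (hL : ∀ x ∈ L, φ (γ x) = gp nets x)
    (hB : IsBase (cl (gp nets) L) B) (ht : TbA nets tb) {z k m : ℕ} {LP : List ℕ} {W : List (List ℕ × List ℕ)}
    (h : sylB tb B L z LP W = true) (hW : W.length = 2 ^ k) (hG : Nat.card Γ = 2 ^ k * m) (hm : ¬ 2 ∣ m) {x : Γ}
    (hx : orderOf x = 2) : IsConj (γ z) x := by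
  classical
  simp only [sylB, cnd_tt, allL_iff, List.any_eq_true, decide_eq_true_eq] at h
  obtain ⟨a1, ⟨v, hv, a2⟩, a3, a4⟩ := h
  have b1 : ∀ g, g ∈ cl γ LP ↔ g ∈ W.map fun w => ev γ w.1 := fun g => ⟨fun hg => by
    induction hg using closure_induction_left with
    | one => exact List.mem_map.2 ⟨v, hv, by simpa [ev] using (eq_of_base hφ hL hB ht a2).symm⟩
    | mul_left y hy g _ i =>
      obtain ⟨y, hy, rfl⟩ := hy
      obtain ⟨w, hw, rfl⟩ := List.mem_map.1 i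
      obtain ⟨u, hu, e⟩ := (a1 y hy).2 w hw
      exact List.mem_map.2 ⟨u, hu, by simpa [ev_cons] using (eq_of_base hφ hL hB ht e).symm⟩
    | inv_mul_cancel y hy g _ i =>
      obtain ⟨y, hy, rfl⟩ := hy
      obtain ⟨w, hw, rfl⟩ := List.mem_map.1 i
      obtain ⟨u, hu, e⟩ := (a1 y hy).2 w hw
      have := eq_of_base hφ hL hB ht (a1 y hy).1
      rw [ev_single, pow_two] at this
      rw [inv_eq_of_mul_eq_one_right this]
      exact List.mem_map.2 ⟨u, hu, by simpa [ev_cons] using (eq_of_base hφ hL hB ht e).symm⟩, fun hg => by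
    obtain ⟨w, hw, rfl⟩ := List.mem_map.1 hg
    exact ev_mem fun y hy => mem_cl (sub_of_subB (a4 w hw).1.1 y hy)⟩
  have b2 : (W.map fun w => ev γ w.1).Nodup := List.Nodup.of_map (fun g => B.map ⇑(φ g)⁻¹) (by
    rw [List.map_map]
    convert a3 using 1
    exact List.map_congr_left fun w hw => List.map_congr_left fun b _ => by
      rw [wap_eq ht, map_ev_of_gen fun y hy => hL y (sub_of_subB (a4 w hw).1.2 y hy)])
  have b3 : Nat.card (cl γ LP) = 2 ^ k := by
    rw [← hW, ← List.length_map (f := fun w => ev γ w.1), ← List.toFinset_card_of_nodup b2, ← Nat.card_eq_finsetCard]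
    exact Nat.card_congr (Equiv.subtypeEquivRight fun g => (b1 g).trans List.mem_toFinset.symm)
  have b4 : ¬ 2 ∣ (cl γ LP).index := by
    have := (cl γ LP).card_mul_index
    rw [b3, hG, Nat.mul_right_inj (by positivity)] at this
    rwa [this]
  have : Fact (Nat.Prime 2) := Nat.fact_prime_two
  obtain ⟨Q, hQ⟩ := (IsPGroup.of_card (G := zpowers x) (n := 1) (by rw [Nat.card_zpowers, hx, pow_one])).exists_le_sylow
  obtain ⟨g, hg⟩ := MulAction.exists_smul_eq Γ ((IsPGroup.of_card b3).toSylow b4) Q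
  obtain ⟨y, hy, rfl⟩ := (hg ▸ hQ) (mem_zpowers x)
  obtain ⟨w, hw, rfl⟩ := List.mem_map.1 ((b1 y).1 hy)
  refine IsConj.trans ?_ (isConj_iff.2 ⟨g, rfl⟩)
  replace hx : orderOf (ev γ w.1) = 2 := (orderOf_injective (MulAut.conj g).toMonoidHom (MulAut.conj g).injective _).symm.trans hx
  have c := (a4 w hw).2
  cases k1 : eqP tb B L (apd w.2 [z]) 1 (apd w.1 w.2)
  · rw [k1] at c
    cases k2 : eqP tb B L w.1 1 []
    · rw [k2] at c
      obtain ⟨b, -, c⟩ := List.any_eq_true.1 c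
      exact absurd (by rw [apd_eq, ev_append, ← pow_two, ← hx, pow_orderOf_eq_one, ev_nil]) (ne_of_neP hL ht c)
    · have := eq_of_base hφ hL hB ht k2
      rw [pow_one] at this
      rw [this, ev_nil, orderOf_one] at hx
      exact absurd hx (by norm_num)
  · have := eq_of_base hφ hL hB ht k1
    simp only [apd_eq, ev_append, ev_single, pow_one] at this
    exact isConj_iff.2 ⟨ev γ w.2, by rw [this, mul_inv_cancel_right]⟩
end

/-- A central extension of a centreless group by an involution that is a square. -/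
theorem nonsplit {G H K : Type*} [Group G] [Group H] [Group K] {z x : G} (hz : orderOf z = 2) {Q : Subgroup G}
    (hQ : Q = zpowers z) [(Q.subgroupOf (centralizer {z})).Normal] (e : centralizer {z} ⧸ Q.subgroupOf (centralizer {z}) ≃* H)
    (e' : H ≃* K) (hK : center K = ⊥) (hx : x ^ 2 = z) : IsNonsplitDoubleCover (centralizer {z}) K := by
  subst hQ
  have z1 : z ∈ centralizer {z} := mem_centralizer_singleton_iff.2 rfl
  have h : center (centralizer {z}) = (zpowers z).subgroupOf (centralizer {z}) := by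
    refine le_antisymm (fun y hy => ?_) fun y hy => mem_center_iff.2 fun g => Subtype.ext ?_
    · refine (QuotientGroup.eq_one_iff y).1 ((e.trans e').map_eq_one_iff.1 (mem_bot.1 (hK ▸ mem_center_iff.2 fun g => ?_)))
      obtain ⟨g, rfl⟩ := ((e.trans e').surjective.comp QuotientGroup.mk_surjective) g
      simp only [Function.comp, ← map_mul, ← QuotientGroup.mk_mul, mem_center_iff.1 hy g]
    · obtain ⟨k, hk⟩ := hy
      have := ((show Commute g.1 z from mem_centralizer_singleton_iff.1 g.2).zpow_right k).eq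
      rwa [show z ^ k = y.1 from hk] at this
  refine ⟨?_, ⟨(QuotientGroup.quotientMulEquivOfEq h).trans (e.trans e')⟩, fun L hL => ?_⟩
  · rw [h, Nat.card_congr (subgroupOfEquivOfLe (zpowers_le.2 z1)).toEquiv, Nat.card_zpowers, hz]
  · have x1 : x ∈ centralizer {z} := mem_centralizer_singleton_iff.2 (hx ▸ (Commute.self_pow x 2).eq)
    obtain ⟨⟨a, b⟩, hab, -⟩ := hL.existsUnique ⟨x, x1⟩
    have a2 : (a : centralizer {z}) ^ 2 = 1 := by
      obtain ⟨k, hk⟩ := h.le a.2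
      refine Subtype.ext ?_
      rw [coe_pow, show ((a : centralizer {z}) : G) = z ^ k from hk.symm, ← zpow_natCast, ← zpow_mul, mul_comm, zpow_mul,
        zpow_natCast, ← hz, pow_orderOf_eq_one, one_zpow, coe_one]
    have b2 : (b : centralizer {z}) ^ 2 = ⟨z, z1⟩ := by
      rw [← one_mul (_ ^ 2), ← a2, ← (show Commute a.1 b.1 from (mem_center_iff.1 a.2 b.1).symm).mul_pow]
      exact (congrArg (· ^ 2) hab).trans (Subtype.ext hx)
    have := (disjoint_def.1 hL.disjoint) (h.ge (mem_zpowers z : (⟨z, z1⟩ : centralizer {z}) ∈ _)) (b2 ▸ pow_mem b.2 2)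
    rw [show z = 1 from congrArg Subtype.val this, orderOf_one] at hz
    exact absurd hz (by norm_num)

end Cfsg.Lib.Comp.XC
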