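import Cfsg.Agent.Lib.Comp.Sym6

/-!
# Double coset enumeration: exactness for graphs of diameter two
-/

namespace Cfsg.Lib.Comp

universe u

open MulAction

theorem count_le {G : Type*} [Group G] [Finite G] {X Y : Type*} [MulAction G X] [MulAction G Y] (x : X) (b : Y)
    (S : Finset X) (A : Finset Y) (hS : ∀ y ∈ S, y ∈ orbit G x) (h : ∀ g : G, g • x ∈ S → g⁻¹ • b ∈ A) :
    Nat.card (stabilizer G x) * S.card ≤ Nat.card (stabilizer G b) * A.card := by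
  classical
  have := Fintype.ofFinite G
  let P : Finset G := Finset.univ.filter fun g => g • x ∈ S
  have h1 : Nat.card (stabilizer G x) * S.card ≤ P.card := by
    refine Finset.mul_card_image_le_card_of_maps_to (f := fun g : G => g • x) (fun g hg => (Finset.mem_filter.1 hg).2)
      _ fun y hy => ?_
    obtain ⟨g, rfl⟩ := hS y hy
    rw [← Nat.card_eq_finsetCard]
    refine Nat.card_le_card_of_injective (fun s => ⟨g * s, ?_⟩) fun s s' e => ?_
    · have : (g * s) • x = g • x := by rw [mul_smul, mem_stabilizer_iff.1 s.2]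
      simp only [P, Finset.mem_filter, Finset.mem_univ, true_and, this]
      exact ⟨hy, trivial⟩
    · exact Subtype.ext (mul_left_cancel (congrArg Subtype.val e))
  refine h1.trans (Finset.card_le_mul_card_image_of_maps_to (f := fun g : G => g⁻¹ • b)
    (fun g hg => h g (Finset.mem_filter.1 hg).2) _ fun a _ => ?_)
  rcases (P.filter fun g : G => g⁻¹ • b = a).eq_empty_or_nonempty with e | ⟨g, hg⟩
  · rw [e]; exact Nat.zero_le _
  · rw [← Nat.card_eq_finsetCard]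
    refine Nat.card_le_card_of_injective (fun s => ⟨g * s.1⁻¹, ?_⟩) fun s s' e => ?_
    · rw [mem_stabilizer_iff, mul_smul, (Finset.mem_filter.1 s.2).2, ← (Finset.mem_filter.1 hg).2, smul_inv_smul]
    · exact Subtype.ext (inv_injective (mul_left_cancel (congrArg Subtype.val e)))

theorem orbit_sums {G : Type*} [Group G] [Finite G] {X : Type*} [MulAction G X] {x : ℕ → X} {r : ℕ} {μ : ℕ → ℕ}
    (hall : ∀ y, ∃ k < r, ∃ g : G, y = g • x k) (hfst : ∀ k < r, ∀ i < r, ∀ g : G, g • x k = x i → k = i)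
    (hcard : ∀ k < r, Nat.card (stabilizer G (x k)) = μ k) (Δ : Set X) (hΔ : ∀ g : G, ∀ y ∈ Δ, g • y ∈ Δ) :
    Finite X ∧ Δ.ncard ∈ sums (szs (fun k => Nat.card G / μ k) r) ∧
      Nat.card X = (szs (fun k => Nat.card G / μ k) r).sum := by
  let U : ℕ → Set X := fun s => {y | ∃ k < s, y ∈ MulAction.orbit G (x k)}
  have key : ∀ s ≤ r, (U s).Finite ∧ (Δ ∩ U s).ncard ∈ Comp.sums (szs (fun k => Nat.card G / μ k) s) ∧
      (U s).ncard = (szs (fun k => Nat.card G / μ k) s).sum := by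
    intro s
    induction s with
    | zero => intro _; simp [U, szs, Comp.sums]
    | succ s ih =>
      intro hs
      obtain ⟨h1, h2, h3⟩ := ih (by omega)
      have e : U (s + 1) = MulAction.orbit G (x s) ∪ U s := by
        ext y
        simp only [U, Set.mem_union, Set.mem_setOf_eq, Nat.lt_succ_iff_lt_or_eq]
        exact ⟨fun ⟨k, a, b⟩ => a.elim (fun a => Or.inr ⟨k, a, b⟩) fun a => Or.inl (a ▸ b),
          fun a => a.elim (fun b => ⟨s, Or.inr rfl, b⟩) fun ⟨k, a, b⟩ => ⟨k, Or.inl a, b⟩⟩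
      have d : Disjoint (MulAction.orbit G (x s)) (U s) := Set.disjoint_left.2 fun y ⟨g, a⟩ ⟨k, b, g', c⟩ => by
        have := hfst k (by omega) s (by omega) (g⁻¹ * g') (by rw [mul_smul, inv_smul_eq_iff]; exact c.trans a.symm)
        omega
      have f : (MulAction.orbit G (x s)).Finite := Set.finite_range _
      have c : (MulAction.orbit G (x s)).ncard = Nat.card G / μ s := by
        rw [← MulAction.index_stabilizer, ← (MulAction.stabilizer G (x s)).index_mul_card, ← hcard s (by omega),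
          Nat.mul_div_cancel _ Nat.card_pos]
      have e2 : szs (fun k => Nat.card G / μ k) (s + 1) = Nat.card G / μ s :: szs (fun k => Nat.card G / μ k) s := rfl
      have e3 : ∀ a l, Comp.sums (a :: l) = Comp.sums l ++ (Comp.sums l).map (a + ·) := fun _ _ => rfl
      rw [e, e2, e3, Set.ncard_union_eq d f h1, c, h3, List.sum_cons, Set.inter_union_distrib_left, List.mem_append]
      refine ⟨f.union h1, ?_, rfl⟩
      by_cases hx : x s ∈ Δ
      · rw [Set.inter_eq_right.2 (by rintro _ ⟨g, rfl⟩; exact hΔ g _ hx),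
          Set.ncard_union_eq (d.mono_right Set.inter_subset_right) f (h1.subset Set.inter_subset_right), c]
        exact Or.inr (List.mem_map.2 ⟨_, h2, rfl⟩)
      · have : Δ ∩ MulAction.orbit G (x s) = ∅ := Set.eq_empty_of_forall_notMem fun y ⟨a, g, b⟩ => hx (by
          have := hΔ g⁻¹ _ a
          rwa [← b, inv_smul_smul] at this)
        rw [this, Set.empty_union]
        exact Or.inl h2
  have e : U r = Set.univ := Set.eq_univ_of_forall fun y => by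
    obtain ⟨k, hk, g, rfl⟩ := hall y
    exact ⟨k, hk, g, rfl⟩
  have := key r le_rfl
  rw [e, Set.inter_univ, Set.ncard_univ] at this
  exact ⟨Set.finite_univ_iff.1 this.1, this.2⟩

theorem card_stab_smul {G : Type*} [Group G] {X : Type*} [MulAction G X] (g : G) (x : X) :
    Nat.card (stabilizer G (g • x)) = Nat.card (stabilizer G x) := by
  rw [stabilizer_smul_eq_stabilizer_map_conj]
  exact Subgroup.card_map_of_injective (MulAut.conj g).injective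

/-- Data `(k, ops, edges, parent edge, loop, μ, fixed point free fact, ops, c)`. -/
abbrev SL := ℕ × List ℕ × List (ℕ × ℕ) × (ℕ × ℕ) × ℕ × ℕ × ℕ × List ℕ × ℕ

/-- All but `μ` points lead to the nodes `K`. -/
noncomputable def covB (nets : List Net) (tb : ℕ → ℕ → ℕ) (L : List ℕ) (F : ℕ → SF) (nf n kk : ℕ) (K : List ℕ)
    (par : ℕ) (v : SL) : Bool :=
  cnd (genB F nf v.1 v.2.1) (cnd (edgB tb L F nf v.1 K v.2.2.1) (cnd (edgB tb L F nf v.1 [par] [v.2.2.2.1])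
    (Nat.ble n (Nat.add v.2.2.2.2.2.1 (pcT kk (Nat.land (orbW nets (fun j => (F j).2.2.2.2) v.2.1
      (msk (mapL (·.2) v.2.2.1))) (itv 0 n))))) false) false) false

/-- A loop at the node. -/
noncomputable def loopB (F : ℕ → SF) (nf : ℕ) (v : SL) : Bool :=
  cnd (Nat.ble (Nat.succ v.2.2.2.2.1) nf) (cnd (Nat.beq (F v.2.2.2.2.1).1 v.1) (cnd (Nat.beq (F v.2.2.2.2.1).2.1 v.1)
    (Nat.beq (F v.2.2.2.2.1).2.2.1 1) false) false) false

/-- A fixed point free element of the stabiliser. -/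
noncomputable def nfxB (nets : List Net) (F : ℕ → SF) (nf n kk : ℕ) (v : SL) : Bool :=
  cnd (genB F nf v.1 [v.2.2.2.2.2.2.1]) (nofixB nets kk n (F v.2.2.2.2.2.2.1).2.2.2.2) false

/-- The orbit at the end of the parent edge. -/
noncomputable def endB8 (nets : List Net) (tb : ℕ → ℕ → ℕ) (L L0 : List ℕ) (al : ℕ → ℕ) (F : ℕ → SF) (kk : ℕ)
    (v : SL) : Bool :=
  cnd (subB (mapL al L0) L) (cnd (subB v.2.2.2.2.2.2.2.1 (mapL al L0)) (Nat.ble v.2.2.2.2.2.2.2.2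
    (pcT kk (orb nets v.2.2.2.2.2.2.2.1 (Nat.shiftLeft 1 (wap tb (F v.2.2.2.1.1).2.2.2.2 0))))) false) false

section
variable {N : ℕ} {nets : List Net} {tb : ℕ → ℕ → ℕ} {B L : List ℕ} {iv : ℕ → ℕ} {G : Subgroup (Equiv.Perm ℕ)}
  {X : Type*} [MulAction G X] {x : ℕ → X} {τ : X → X} {F : ℕ → SF} {nf : ℕ} {L0 : List ℕ} {al : ℕ → ℕ}

theorem Semi.elt' (C : Ctl nets tb B L iv G) (hS : Semi nets G τ L0 al) (hL : ∀ a ∈ mapL al L0, a ∈ L) {h : G}
    (hh : (h : Equiv.Perm ℕ) ∈ cl (gp nets) (mapL al L0)) : ∃ h' : G, ∀ y : X, τ (h' • y) = h • τ y := by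
  rw [← map_cl_sval fun a ha => C.hL a (hL a ha)] at hh
  obtain ⟨h1, h2, e⟩ := hh
  obtain rfl : h1 = h := Subtype.ext e
  clear e
  suffices ∃ h' : G, ∀ y : X, τ (h'⁻¹ • y) = h1⁻¹ • τ y by
    obtain ⟨a, ha⟩ := this
    exact ⟨a, fun y => by rw [← smul_inv_smul h1 (τ (a • y)), ← ha, inv_smul_smul]⟩
  induction h2 using Subgroup.closure_induction with
  | mem y hy =>
    obtain ⟨b, hb, rfl⟩ := hy
    rw [mapL_eq] at hb
    obtain ⟨a, ha, rfl⟩ := List.mem_map.1 hb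
    refine ⟨evG nets G [a], fun y => ?_⟩
    have := hS a ha y
    unfold ra evG at this
    rwa [ev_single _ (al a)] at this
  | one => exact ⟨1, by simp⟩
  | mul a b _ _ h1 h2 =>
    obtain ⟨a', h1⟩ := h1
    obtain ⟨b', h2⟩ := h2
    exact ⟨a' * b', fun y => by rw [mul_inv_rev, mul_smul, h2, h1, mul_inv_rev, mul_smul]⟩
  | inv a _ h1 =>
    obtain ⟨a', h1⟩ := h1
    exact ⟨a'⁻¹, fun y => by rw [inv_inv, inv_inv, ← smul_inv_smul a (τ (a' • y)), ← h1, inv_smul_smul]⟩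

theorem edge_cover (hN : NetsOK N nets) (C : Ctl nets tb B L iv G) (hS : Semi nets G τ L0 al)
    (hL0 : ∀ a ∈ L0, a ∈ L) (h0 : ∀ g ∈ G, g 0 = 0 → g ∈ cl (gp nets) L0)
    (hF : ∀ j < nf, (F j).ok nets G L x τ) {k : ℕ} {K ops : List ℕ} {E : List (ℕ × ℕ)} (h1 : genB F nf k ops = true)
    (h3 : edgB tb L F nf k K E = true) (g : G)
    (h5 : (orbW nets (fun j => (F j).2.2.2.2) ops (msk (mapL (·.2) E))).testBit ((g⁻¹ : G) • 0) = true) :
    ∃ k' ∈ K, ∃ g' : G, τ (g • x k) = g' • x k' := by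
  obtain ⟨m, hm, p, hp, e⟩ := orbW_sound hN (H := (MulAction.stabilizer G (x k)).map G.subtype)
    (fun j hj => gen_le C hF h1 (mem_cl (γ := fun j => ev (gp nets) (F j).2.2.2.2) hj)) _ _ h5
  obtain ⟨m, hm, rfl⟩ := hm
  rw [testBit_msk, mapL_eq] at hp
  obtain ⟨e1, he, rfl⟩ := List.mem_map.1 hp
  have h7 := allL_iff.1 h3 e1 he
  simp only [cnd_tt, ble_tt, beq_tt] at h7
  obtain ⟨a1, a2, a3, a4, a5, a6⟩ := h7
  have a7 := (hF _ a1).2
  rw [if_neg (by omega), a2] at a7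
  rw [wap_eq C.ht, ← C.coe (sub_of_subB a5)] at a6
  obtain ⟨h', hh⟩ := hS.elt C hL0 (h := (evG nets G (F e1.1).2.2.2.1)⁻¹ * m⁻¹ * g⁻¹) (h0 _ (Subtype.prop _) (by
    have e2 : ((g⁻¹ : G) : Equiv.Perm ℕ) 0 = (m : Equiv.Perm ℕ) e1.2 := e.symm
    simp only [Subgroup.coe_mul, Equiv.Perm.mul_apply, e2]
    rw [Subgroup.coe_inv, Subgroup.coe_inv, inv_app, a6]))
  refine ⟨_, sub_of_subB a4 _ (List.mem_singleton_self _), h'⁻¹ * (evG nets G (F e1.1).2.2.2.2)⁻¹, ?_⟩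
  rw [mul_smul]
  change _ = h'⁻¹ • ra nets G _ _
  rw [← a7, ← hh]
  unfold ra
  rw [← mul_smul]
  have e3 : ((evG nets G (F e1.1).2.2.2.1)⁻¹ * m⁻¹ * g⁻¹)⁻¹ * (evG nets G (F e1.1).2.2.2.1)⁻¹ = g * m := by group
  rw [e3, mul_smul, MulAction.mem_stabilizer_iff.1 hm]

theorem cov_sound (hN : NetsOK N nets) (C : Ctl nets tb B L iv G) (hS : Semi nets G τ L0 al)
    (hL0 : ∀ a ∈ L0, a ∈ L) {n : ℕ} (hn : ∀ g ∈ G, g 0 < n) (h0 : ∀ g ∈ G, g 0 = 0 → g ∈ cl (gp nets) L0)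
    (hF : ∀ j < nf, (F j).ok nets G L x τ) {kk par : ℕ} {K : List ℕ} {v : SL}
    (h : covB nets tb L F nf n kk K par v = true) (hK : ∀ k ∈ K, ∀ g : G, g • x par ≠ x k) :
    (∃ A : Finset ℕ, A.card ≤ v.2.2.2.2.2.1 ∧ ∀ g : G, τ (g • x v.1) ∈ orbit G (x par) → (g⁻¹ : G) • 0 ∈ A) ∧
      ∃ s m : G, τ (s⁻¹ • x v.1) = m⁻¹ • x par ∧ s • 0 = v.2.2.2.1.2 ∧ m⁻¹ • 0 = wap tb (F v.2.2.2.1.1).2.2.2.2 0 := by
  unfold covB at h
  simp only [cnd_tt] at h
  obtain ⟨h1, h2, h3, h4⟩ := h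
  generalize hD : orbW nets (fun j => (F j).2.2.2.2) v.2.1 (msk (mapL (·.2) v.2.2.1)) = D at h4
  refine ⟨⟨(Finset.range n).filter fun p => ¬ D.testBit p = true, ?_, fun g ⟨g', hg⟩ => ?_⟩, ?_⟩
  · have a1 := Finset.card_filter_add_card_filter_not (s := Finset.range n) fun p => D.testBit p = true
    have a2 := (pcT_le kk (Nat.land D (itv 0 n))).trans (Finset.card_le_card (t := (Finset.range n).filter
      fun p => D.testBit p = true) fun i hi => by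
        simp only [Finset.mem_filter, land_eq', Nat.testBit_and, Bool.and_eq_true, testBit_itv, decide_eq_true_eq,
          Finset.mem_range] at hi ⊢
        exact ⟨by omega, hi.2.1⟩)
    have a3 : n ≤ v.2.2.2.2.2.1 + pcT kk (Nat.land D (itv 0 n)) := ble_tt.1 h4
    rw [Finset.card_range] at a1
    omega
  · refine Finset.mem_filter.2 ⟨Finset.mem_range.2 (hn _ (g⁻¹).2), fun a => ?_⟩
    obtain ⟨k, hk, g'', e⟩ := edge_cover hN C hS hL0 h0 hF h1 h2 g (hD ▸ a)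
    exact hK k hk (g''⁻¹ * g') (by rw [mul_smul, inv_smul_eq_iff, ← e]; exact hg)
  · have h7 := allL_iff.1 h3 _ (List.mem_singleton_self _)
    simp only [cnd_tt, ble_tt, beq_tt] at h7
    obtain ⟨a1, a2, a3, a4, a5, a6⟩ := h7
    obtain ⟨a8, a7⟩ := hF _ a1
    rw [if_neg (by omega), a2, List.mem_singleton.1 (sub_of_subB a4 _ (List.mem_singleton_self _))] at a7
    rw [wap_eq C.ht, ← C.coe (sub_of_subB a5)] at a6
    refine ⟨_, _, a7, ?_, ?_⟩
    · change (evG nets G (F v.2.2.2.1.1).2.2.2.1 : Equiv.Perm ℕ) 0 = _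
      rw [← a6, app_inv]
    · rw [wap_eq C.ht, ← C.coe a8]; rfl

theorem loop_sound (hF : ∀ j < nf, (F j).ok nets G L x τ) (x0 : ∀ g : G, g • x 0 = x 0) (hne : τ (x 0) ≠ x 0) {v : SL}
    (h : loopB F nf v = true) (g : G) : g • x 0 ≠ x v.1 := by
  unfold loopB at h
  simp only [cnd_tt, ble_tt, beq_tt] at h
  obtain ⟨a1, a2, a3, a4⟩ := h
  have a7 := (hF _ a1).2
  rw [if_neg (by omega), a2, a3] at a7
  intro e
  unfold ra at a7
  rw [← e, x0, x0, x0] at a7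
  exact hne a7

theorem first_fix (hN : NetsOK N nets) (C : Ctl nets tb B L iv G) (hS : Semi nets G τ L0 al)
    (hL0 : ∀ a ∈ L0, a ∈ L) {n : ℕ} (hn : ∀ g ∈ G, g 0 < n) (h0 : ∀ g ∈ G, g 0 = 0 → g ∈ cl (gp nets) L0)
    (hF : ∀ j < nf, (F j).ok nets G L x τ) (x0 : ∀ g : G, g • x 0 = x 0) {kk : ℕ} {K : List ℕ} {v : SL}
    (h : covB nets tb L F nf n kk K 0 v = true) (hK : ∀ k ∈ K, ∀ g : G, g • x 0 ≠ x k)
    (hv : v.2.2.2.2.2.1 = 1 ∧ v.2.2.2.1.2 = 0) (g : G) (hg : g • x v.1 = x v.1) : g • 0 = 0 := by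
  obtain ⟨⟨A, h1, h2⟩, s, m, h3, h4, -⟩ := cov_sound hN C hS hL0 hn h0 hF h hK
  rw [hv.1, Finset.card_le_one] at h1
  have a1 := h2 s⁻¹ ⟨m⁻¹, h3.symm⟩
  have a2 := h2 (s⁻¹ * g⁻¹) ⟨m⁻¹, by rw [mul_smul, inv_smul_eq_iff.2 hg.symm]; exact h3.symm⟩
  rw [inv_inv, h4, hv.2] at a1
  rw [mul_inv_rev, inv_inv, inv_inv, mul_smul, h4, hv.2] at a2
  exact h1 _ a2 _ a1

theorem nfx_sound (hN : NetsOK N nets) (C : Ctl nets tb B L iv G) {n : ℕ} (hn : ∀ g ∈ G, g 0 < n)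
    (hF : ∀ j < nf, (F j).ok nets G L x τ) (h1 : ∀ g : G, g • x 1 = x 1 → g • 0 = 0) {kk : ℕ} {v : SL}
    (h : nfxB nets F nf n kk v = true) (g : G) : g • x 1 ≠ x v.1 := by
  unfold nfxB at h
  rw [cnd_tt] at h
  intro e
  obtain ⟨m, hm, e2⟩ := gen_le C hF h.1 (mem_cl (γ := fun j => ev (gp nets) (F j).2.2.2.2) (List.mem_singleton_self _))
  have a1 := h1 (g⁻¹ * m * g) (by rw [mul_smul, mul_smul, e, mem_stabilizer_iff.1 hm, ← e, inv_smul_smul])
  rw [mul_smul, mul_smul, inv_smul_eq_iff] at a1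
  exact nofix_of_nofixB hN h.2 (hn _ g.2) (by rw [← e2]; exact a1)

theorem far_le (hN : NetsOK N nets) (C : Ctl nets tb B L iv G) [Finite G] (hS : Semi nets G τ L0 al)
    (hL0 : ∀ a ∈ L0, a ∈ L) {n : ℕ} (hn : ∀ g ∈ G, g 0 < n) (h0 : ∀ g ∈ G, g 0 = 0 → g ∈ cl (gp nets) L0)
    (hF : ∀ j < nf, (F j).ok nets G L x τ) (h1 : ∀ g : G, g • x 1 = x 1 → g • 0 = 0) {kk : ℕ} {K : List ℕ} {v : SL}
    (h : covB nets tb L F nf n kk K 1 v = true) (hK : ∀ k ∈ K, ∀ g : G, g • x 1 ≠ x k)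
    (he : endB8 nets tb L L0 al F kk v = true) :
    Nat.card (stabilizer G (x v.1)) * v.2.2.2.2.2.2.2.2 ≤ Nat.card (stabilizer G (0 : ℕ)) * v.2.2.2.2.2.1 := by
  classical
  obtain ⟨⟨A, a1, a2⟩, s, m, a3, -, a4⟩ := cov_sound hN C hS hL0 hn h0 hF h hK
  unfold endB8 at he
  simp only [cnd_tt, ble_tt] at he
  obtain ⟨b1, b2, b3⟩ := he
  rw [← a4] at b3
  generalize hD : orb nets v.2.2.2.2.2.2.2.1 (Nat.shiftLeft 1 (m⁻¹ • 0)) = D at b3
  have c1 : ∀ p, D.testBit p = true → ∃ y ∈ orbit G (x v.1), ∃ a : G, τ y = a • x 1 ∧ a • 0 = p := fun p hp => by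
    obtain ⟨a, ha, q, hq, e⟩ := orb_sound hN (G := cl (gp nets) (mapL al L0))
      (fun z hz => mem_cl (sub_of_subB b2 z hz)) _ p (hD ▸ hp)
    have ha' : a ∈ G := (cl_le.2 fun z hz => C.hL z (sub_of_subB b1 z hz)) ha
    obtain ⟨a', h'⟩ := hS.elt' C (sub_of_subB b1) (h := ⟨a, ha'⟩) ha
    refine ⟨a' • s⁻¹ • x v.1, ⟨a' * s⁻¹, mul_smul _ _ _⟩, ⟨a, ha'⟩ * m⁻¹, by rw [h', a3, mul_smul], ?_⟩
    rw [shl_eq, Nat.one_shiftLeft, Nat.testBit_two_pow, decide_eq_true_eq] at hq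
    rw [mul_smul, hq]
    exact e
  haveI : Nonempty X := ⟨x 0⟩
  choose! y y1 a y2 y3 using c1
  let P := (Finset.range (2 ^ kk)).filter fun i => D.testBit i = true
  have c2 : (P.image y).card = P.card := Finset.card_image_of_injOn fun p hp q hq e => by
    have hp' := (Finset.mem_filter.1 hp).2
    have hq' := (Finset.mem_filter.1 hq).2
    have := h1 ((a q)⁻¹ * a p) (by rw [mul_smul, inv_smul_eq_iff, ← y2 p hp', e, y2 q hq'])
    rwa [mul_smul, inv_smul_eq_iff, y3 p hp', y3 q hq'] at this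
  have c3 := count_le (G := G) (x v.1) (0 : ℕ) (P.image y) A (fun z hz => by
    obtain ⟨p, hp, rfl⟩ := Finset.mem_image.1 hz
    exact y1 p (Finset.mem_filter.1 hp).2) fun g hg => by
      obtain ⟨p, hp, e⟩ := Finset.mem_image.1 hg
      exact a2 g ⟨a p, by rw [← e]; exact (y2 p (Finset.mem_filter.1 hp).2).symm⟩
  rw [c2] at c3
  exact (Nat.mul_le_mul_left _ (b3.trans (pcT_le _ _))).trans (c3.trans (Nat.mul_le_mul_left _ a1))

end

/-- The facts of an enumeration hold in the coset space. -/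
theorem sym_core8 {N : ℕ} {nets : List Net} (hN : NetsOK N nets) {tb : ℕ → ℕ → ℕ} {B L LN : List ℕ} {iv iv' : ℕ → ℕ}
    (C : Ctl nets tb B L iv (cl (gp nets) LN)) {R RN : List (List ℕ × ℕ)} {o : ℕ} (hO : Ord.{u} iv' RN LN o)
    (hc : Cons.{u} iv' R RN) (h1 : IvOK (gp nets) iv') (h2 : Rels (gp nets) RN) (ho : Nat.card (cl (gp nets) LN) = o)
    {t : ℕ} {LΓ j1 j2 : List ℕ} {PR : List (ℕ × List ℕ × List (List ℕ))} {GW : List (List ℕ)}
    (hM : Mem.{u} iv' R [] GW) (hP : PrOK iv' t LN LΓ j1 j2 PR GW) {al : ℕ → ℕ} {D0 : List (ℕ × ℕ × List ℕ)}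
    (hS : semiB tb B L al PR D0 = true) {n : ℕ} (hn : ∀ g ∈ cl (gp nets) LN, g 0 < n)
    (h0 : ∀ g ∈ cl (gp nets) LN, g 0 = 0 → g ∈ cl (gp nets) (mapL (·.1) D0))
    {W : List (List ℕ)} {PA : List (List (List ℕ))} {F : ℕ → SF} {na nf : ℕ} (hA : AxOK W PA F LN L na) {D : ℕ → SD}
    (hD : ∀ j, na ≤ j → j < nf → der tb B L iv (mapL (·.1) D0) al j1 j2 PR F (D j) j = true)
    {kk : ℕ} {V : List SN} (hV : allL V (nodeB nets tb L F nf n kk o (mapL (·.1) V)) = true)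
    (hV0 : 0 ∈ mapL (·.1) V) {Γ : Type u} [Group Γ] {γ : ℕ → Γ} (H : Subgroup Γ) (g1 : IvOK γ iv') (g2 : Rels γ R)
    (hW : ∀ w ∈ W, ev γ w ∈ H) (htop : cl γ LΓ = ⊤) :
    ∃ φ : cl (gp nets) LN →* Γ, (∀ w : List ℕ, (∀ a ∈ w, a ∈ LN) → φ (evG nets _ w) = ev γ w) ∧
      ∃ x : ℕ → Γ ⧸ H, x 0 = ((1 : Γ) : Γ ⧸ H) ∧
        letI : MulAction (cl (gp nets) LN) (Γ ⧸ H) := MulAction.compHom _ φ
        Semi nets (cl (gp nets) LN) (fun y : Γ ⧸ H => (γ t)⁻¹ • y) (mapL (·.1) D0) al ∧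
        (∀ j < nf, (F j).ok nets (cl (gp nets) LN) L x fun y => (γ t)⁻¹ • y) ∧
        ∀ y, ∃ k ∈ mapL (·.1) V, ∃ g : cl (gp nets) LN, y = g • x k := by
  obtain ⟨φ, hφ⟩ := hom_of_ord.{0, u} hO h1 h2 g1 (hc Γ γ g1 g2) ho.ge
  have := hN.finite LN
  letI : MulAction (cl (gp nets) LN) (Γ ⧸ H) := MulAction.compHom _ φ
  have hs : ∀ (g : cl (gp nets) LN) (y : Γ ⧸ H), g • y = φ g • y := fun _ _ => rfl
  have hw : ∀ w : List ℕ, (∀ a ∈ w, a ∈ LN) → φ (evG nets _ w) = ev γ w := fun w hw => by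
    rw [← hφ w hw]
    exact congrArg φ (Subtype.ext (coe_ev_sval fun a ha => mem_cl (hw a ha)))
  have hr : ∀ w : List ℕ, (∀ a ∈ w, a ∈ LN) → ∀ y : Γ ⧸ H, ra nets (cl (gp nets) LN) y w = (ev γ w)⁻¹ • y := by
    intro w hw' y
    rw [← hw w hw', ← map_inv]
    rfl
  set τ : Γ ⧸ H → Γ ⧸ H := fun y => (γ t)⁻¹ • y with hτ
  have hrun : ∀ S : List (List ℕ), (∀ s ∈ S, ∀ a ∈ s, a ∈ LN) → ∀ y,
      srun nets (cl (gp nets) LN) τ S y = (ev γ (S.flatMap (t :: ·)))⁻¹ • y := by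
    intro S hS
    induction S with
    | nil => intro y; simp [srun, ev_nil]
    | cons s S ih =>
      intro y
      change srun nets _ τ S (ra nets _ (τ y) s) = _
      rw [ih fun s hs => hS s (by simp [hs]), hr s (hS s (by simp)), List.flatMap_cons, ev_append, ev_cons]
      simp [hτ, mul_smul]
  have hPO : ProgOK nets (cl (gp nets) LN) τ PR := by
    intro p hp y
    obtain ⟨a1, a2, a3⟩ := hP.2.2.2 p hp
    have a4 := Subgroup.mem_bot.1 (hM Γ γ ⊥ g1 g2 (by simp) _ a1)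
    rw [hrun _ a3, hr _ a2, ← mul_smul, ← mul_inv_rev, ← ev_append]
    unfold progW at a4
    split_ifs at a4 ⊢
    · rw [List.append_nil] at a4; rw [a4, inv_one, one_smul]
    · rw [ev_append, ev_single, (g1.2 t hP.1).2, mul_inv_eq_one] at a4; rw [a4]
  obtain ⟨s1, s2⟩ := semi_of_semiB C hPO hS
  set x : ℕ → Γ ⧸ H := fun k => (nth [] PA k).foldl (fun y s => τ (ra nets (cl (gp nets) LN) y s)) ((1 : Γ) : Γ ⧸ H)
    with hx
  have x0 : x 0 = ((1 : Γ) : Γ ⧸ H) := by simp only [hx, hA.1, List.foldl_nil]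
  have hF : ∀ j < nf, (F j).ok nets (cl (gp nets) LN) L x τ := by
    refine facts_ok C s1 (fun y => ?_) hPO (fun j hj => ?_) hD
    · have := hPO _ hP.2.1 y
      rwa [ra_nil] at this
    · have a1 := hA.2 j hj
      unfold SF.ok
      split_ifs at a1 ⊢
      · obtain ⟨b1, b2, b3, b4⟩ := a1
        refine ⟨fun a ha => (b4 a ha).2, ?_⟩
        rw [b1, b2, x0, hr _ fun a ha => (b4 a ha).1]
        exact (smul_one_of_mem.2 (H.inv_mem (hW _ b3))).symm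
      · rw [a1.1, ra_nil]
        exact ⟨by simp, by simp only [hx, a1.2, List.foldl_append, List.foldl_cons, List.foldl_nil]⟩
  refine ⟨φ, hw, x, x0, s1, hF, fun y => ?_⟩
  rw [mapL_eq] at hV hV0 ⊢
  obtain ⟨u1, -⟩ := uni_card (x := x) fun v hv => node_card hN C hF ho.le (allL_iff.1 hV v hv)
  have h3 : (γ t)⁻¹ ∈ setStab Γ _ u1 := by
    rintro y ⟨k, hk, g, rfl⟩
    obtain ⟨v, hv, rfl⟩ := List.mem_map.1 hk
    obtain ⟨k', hk', g', e⟩ := node_closed hN C s1 s2 hn h0 hF (allL_iff.1 hV v hv) g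
    exact ⟨k', hk', g', e.symm⟩
  have h4 : cl γ LΓ ≤ setStab Γ _ u1 := cl_le.2 fun b hb => by
    rcases hP.2.2.1 b hb with h | h | h
    · rintro y ⟨k, hk, g, rfl⟩
      refine ⟨k, hk, ⟨gp nets b, mem_cl h⟩ * g, ?_⟩
      have := hφ [b] (by simpa using h)
      simp only [ev_single] at this
      simp only [hs, map_mul, mul_smul, this]
    · rw [h]; exact (Subgroup.inv_mem_iff _).1 h3
    · rw [h, (g1.2 t hP.1).2]; exact h3
  obtain ⟨a, rfl⟩ := QuotientGroup.mk_surjective y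
  have h5 := h4 (htop ▸ Subgroup.mem_top a) (x 0) ⟨0, hV0, MulAction.mem_orbit_self _⟩
  rw [x0] at h5
  obtain ⟨k, hk, g, e⟩ := h5
  exact ⟨k, hk, g, by simpa using e.symm⟩

end Cfsg.Lib.Comp
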