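import Cfsg.Agent.Lib.Comp.Cen

/-! Maximal subgroups stabilising a set of points; nested commutators evaluated on points. -/

set_option autoImplicit false

namespace Cfsg.Lib.Comp

open Subgroup
open scoped commutatorElement

/-- Orbit data for the maximality test; `R` lists `(point, conjugate of t, conjugating word, orbit operations)`. -/
noncomputable def mxB (nets : List Net) (tb : ℕ → ℕ → ℕ) (B L L1 LH F o1 o2 : List ℕ) (b n t q : ℕ)
    (R : List (ℕ × ℕ × List ℕ × List ℕ)) : Bool :=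
  cnd (cnd (subB LH L) (cnd (subB [t] LH) (cnd (Nat.beq (wap tb [t] q) (wap tb [] q)) false true) false) false)
   (cnd (allL L1 fun x => eqP tb B L [x, t] 1 [t, x])
    (cnd (cnd (subB o1 LH) (Nat.beq (orb nets o1 (Nat.shiftLeft 1 b)) (msk F)) false)
     (cnd (cnd (subB o2 LH) (Nat.beq (Nat.lor (msk F) (orb nets o2 (msk (R.map Prod.fst)))) (itv 0 n)) false)
      (allL R fun r => cnd (Nat.beq (wap tb r.2.2.1 r.1) b) (cnd (eqP tb B L (apd r.2.2.1 [t]) 1 (r.2.1 :: r.2.2.1))
        (cnd (subB r.2.2.2 (r.2.1 :: LH)) (orbB nets r.2.2.2 b 0 n) false) false) false) false) false) false) false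

theorem max_of_mxB {N : ℕ} {nets : List Net} (hN : NetsOK N nets) {tb : ℕ → ℕ → ℕ} (ht : TbA nets tb)
    {L L1 o LH F o1 o2 : List ℕ} {b n t q : ℕ} {C : List Lev} (hC : Exact nets ((L1, o, b, 0, n) :: C) L)
    (hs : IsSimpleGroup (cl (gp nets) L)) {R : List (ℕ × ℕ × List ℕ × List ℕ)}
    (h : mxB nets tb (bases ((L1, o, b, 0, n) :: C)) L L1 LH F o1 o2 b n t q R = true)
    (hc : cenN F ((L1, o, b, 0, n) :: C) ≤ Nat.card (cl (gp nets) LH)) {K : Subgroup (Equiv.Perm ℕ)}
    (h1 : cl (gp nets) LH ≤ K) (h2 : K ≤ cl (gp nets) L) : K = cl (gp nets) LH ∨ K = cl (gp nets) L := by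
  simp only [mxB, cnd_tt, allL_iff, beq_tt] at h
  obtain ⟨⟨a1, a2, a3⟩, a4, ⟨a5, a6⟩, ⟨a7, a8⟩, a9⟩ := h
  have := hN.finite L
  have : Finite K := Finite.of_injective _ (inclusion_injective h2)
  by_cases hK : ∀ s ∈ K, ∀ p ∈ F, s p < N → s p ∈ F
  · have := card_inf_le hN hK hC
    rw [inf_eq_right.2 h2] at this
    exact Or.inl (eq_of_le_of_card_ge h1 (this.trans hc)).symm
  push Not at hK
  obtain ⟨s, hs', p, hp, -, hsp⟩ := hK
  obtain ⟨-, -, c3, c4, -, -⟩ := hC.cons hN
  have tK : gp nets t ∈ K := h1 (mem_cl (sub_of_subB a2 t (by simp)))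
  have key : ∀ g ∈ cl (gp nets) L, ∀ k ∈ K, k b = g b → g * gp nets t * g⁻¹ ∈ K := fun g hg k hk e => by
    have h3 : Commute (k⁻¹ * g) (gp nets t) := mem_centralizer_singleton_iff.1
      ((cl_le (H := centralizer {gp nets t})).2 (fun x hx => mem_centralizer_singleton_iff.2 (by
        simpa [ev] using hC.eq hN ht (a4 x hx))) ((c3 _ (mul_mem (inv_mem (h2 hk)) hg)).1 (by
          rw [Equiv.Perm.mul_apply, ← e, inv_app])))
    rw [show g * gp nets t * g⁻¹ = k * (k⁻¹ * g * gp nets t * (k⁻¹ * g)⁻¹) * k⁻¹ by group, h3.eq, mul_inv_cancel_right]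
    exact mul_mem (mul_mem hk tK) (inv_mem hk)
  obtain ⟨u, hu, p', e1, rfl⟩ := orb_sound hN (G := K) (fun x hx => h1 (mem_cl (sub_of_subB a5 x hx))) _ p
    (a6 ▸ testBit_msk.2 hp)
  rw [shl_eq, Nat.one_shiftLeft, Nat.testBit_two_pow, decide_eq_true_eq] at e1
  subst e1
  have e2 := congrArg (fun x => Nat.testBit x (s (u b))) a8
  have e3 : s (u b) < 0 + n := (c4 _ (h2 (mul_mem hs' hu))).2
  simp only [lor_eq', Nat.testBit_or, testBit_itv, e3, Nat.zero_le, and_self, decide_true, Bool.or_eq_true,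
    testBit_msk, hsp, false_or] at e2
  obtain ⟨v, hv, r, hr, e4⟩ := orb_sound hN (G := K) (fun x hx => h1 (mem_cl (sub_of_subB a7 x hx))) _ _ e2
  obtain ⟨r, hr', rfl⟩ := List.mem_map.1 (testBit_msk.1 hr)
  obtain ⟨b1, b2, b3, b4⟩ := a9 r hr'
  have b5 := hC.eq hN ht b2
  simp only [eqP, cnd_tt] at b2
  have b6 := key (ev (gp nets) r.2.2.1) (ev_mem fun x hx => mem_cl (sub_of_subB b2.2.1 x (List.mem_cons_of_mem _ hx)))
    (v⁻¹ * (s * u)) (mul_mem (inv_mem hv) (mul_mem hs' hu)) (by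
      rw [wap_eq ht, Equiv.Perm.inv_eq_iff_eq] at b1
      rw [← b1, Equiv.Perm.mul_apply, Equiv.Perm.mul_apply, ← e4, inv_app])
  rw [apd_eq, ev_append, ev_single, pow_one, ev_cons] at b5
  rw [b5, mul_inv_cancel_right] at b6
  have b7 := orbB_sound hN (G := K) (fun x hx => (List.mem_cons.1 (sub_of_subB b3 x hx)).elim (fun e => e ▸ b6)
    fun e => h1 (mem_cl e)) b4
  rcases (K.subgroupOf (cl (gp nets) L)).normalCore_normal.eq_bot_or_eq_top with e | e
  · refine absurd ?_ (ne_of_wap ht (u := [t]) (w := []) (p := q) (by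
      cases k : Nat.beq (wap tb [t] q) (wap tb [] q)
      · rfl
      · rw [k] at a3; exact absurd a3 (by simp [cnd])))
    rw [ev_single]
    have e5 : (⟨_, h2 tK⟩ : cl (gp nets) L) ∈ normalCore (K.subgroupOf (cl (gp nets) L)) := fun g => by
      obtain ⟨k, hk, e⟩ := b7 _ (c4 g g.2).1 (c4 g g.2).2
      exact key g g.2 k hk e
    rw [e, mem_bot, Subtype.ext_iff] at e5
    exact e5
  · exact Or.inr (le_antisymm h2 fun g hg =>
      normalCore_le (K.subgroupOf (cl (gp nets) L)) (e.ge (mem_top (⟨g, hg⟩ : cl (gp nets) L))))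

/-- Nested commutators of the words `W` (given with their inverses) applied to a point. -/
noncomputable def dap (tb : ℕ → ℕ → ℕ) (W : List (List ℕ × List ℕ)) (T : List (List (ℕ × ℕ))) : ℕ → Bool → ℕ → ℕ :=
  List.rec (fun j s p => wap tb (cnd s (nth ([], []) W j).1 (nth ([], []) W j).2) p) (fun l _ ih j s p =>
    force (cnd s (nth (0, 0) l j).1 (nth (0, 0) l j).2) fun a => force (cnd s (nth (0, 0) l j).2 (nth (0, 0) l j).1) fun c =>
      force (ih a true p) fun p1 => force (ih c true p1) fun p2 => force (ih a false p2) (ih c false)) T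

theorem dap_sound {nets : List Net} {tb : ℕ → ℕ → ℕ} (ht : TbA nets tb) {H : Type*} [Group H]
    {ψ : H →* Equiv.Perm ℕ} {W : List (List ℕ × List ℕ)}
    (hW : ∀ w ∈ W, ev (gp nets) w.1 ∈ ψ.range ∧ ev (gp nets) w.1 * ev (gp nets) w.2 = 1) (T : List (List (ℕ × ℕ)))
    (j : ℕ) : ∃ g ∈ derivedSeries H T.length, ∀ p, dap tb W T j true p = (ψ g)⁻¹ p ∧ dap tb W T j false p = ψ g p := by
  induction T generalizing j with
  | nil =>
    have : ev (gp nets) (nth ([], []) W j).1 ∈ ψ.range ∧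
        ev (gp nets) (nth ([], []) W j).1 * ev (gp nets) (nth ([], []) W j).2 = 1 := by
      rcases nth_mem ([], []) W j with e | e
      · rw [e]; exact ⟨one_mem _, mul_one _⟩
      · exact hW _ e
    obtain ⟨⟨g, hg⟩, e⟩ := this
    exact ⟨g, mem_top g, fun p => ⟨hg ▸ wap_eq ht _ p, (wap_eq ht _ p).trans (by
      rw [hg, eq_inv_of_mul_eq_one_left e]; rfl)⟩⟩
  | cons l t ih =>
    obtain ⟨a, ha, e1⟩ := ih (nth (0, 0) l j).1
    obtain ⟨c, hc, e2⟩ := ih (nth (0, 0) l j).2
    refine ⟨⁅a, c⁆, commutator_mem_commutator ha hc, fun p => ⟨?_, ?_⟩⟩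
    · change dap tb W t _ false (dap tb W t _ false (dap tb W t _ true (dap tb W t _ true p))) = _
      simp only [cnd_true, cnd_false, e1, e2, commutatorElement_def, map_mul, map_inv, mul_inv_rev, inv_inv,
        Equiv.Perm.mul_apply]
    · change dap tb W t _ false (dap tb W t _ false (dap tb W t _ true (dap tb W t _ true p))) = _
      simp only [cnd_true, cnd_false, e1, e2, commutatorElement_def, map_mul, map_inv, Equiv.Perm.mul_apply]

/-- A solvable group with a non-trivial derived term. -/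
theorem derived_ne {H : Type*} [Group H] (hs : Group.IsSolvable H) {k : ℕ} (h : derivedSeries H k ≠ ⊥) :
    derivedSeries H (k + 1) ≠ derivedSeries H k := fun e => by
  obtain ⟨m, hm⟩ := hs
  have key : ∀ i, derivedSeries H (k + i) = derivedSeries H k := fun i => by
    induction i with
    | zero => rfl
    | succ i ih => rw [← add_assoc, derivedSeries_succ, ih, ← derivedSeries_succ, e]
  exact h (eq_bot_iff.2 ((key m).ge.trans (hm ▸ derivedSeries_antitone H (Nat.le_add_left m k))))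

end Cfsg.Lib.Comp
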