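import Cfsg.Agent.Lib.Comp.Cen

/-! Orbits under words, counted; subgroups listed by words; fixed points of words. -/

set_option autoImplicit false

namespace Cfsg.Lib.Comp

open Subgroup

/-- The image of a bit set under a word. -/
noncomputable def imgW (nets : List Net) (w : List ℕ) (D : ℕ) : ℕ :=
  List.rec (motive := fun _ => ℕ) D (fun x _ ih => force ih (img nets x)) w

theorem testBit_imgW {N : ℕ} {nets : List Net} (hN : NetsOK N nets) (w : List ℕ) (D i : ℕ) :
    (imgW nets w D).testBit i = D.testBit ((ev (gp nets) w)⁻¹ i) := by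
  induction w generalizing i with
  | nil => rfl
  | cons x t ih =>
    rw [show imgW nets (x :: t) D = img nets x (imgW nets t D) from rfl, testBit_img hN, ih, ev_cons, mul_inv_rev,
      Equiv.Perm.mul_apply]

/-- Orbit closure under words. -/
noncomputable def orbWd (nets : List Net) (ops : List (List ℕ)) : ℕ → ℕ :=
  List.rec (motive := fun _ => ℕ → ℕ) (fun D => D) (fun w _ ih D => force (Nat.lor D (imgW nets w D)) ih) ops

theorem orbWd_sound {N : ℕ} {nets : List Net} (hN : NetsOK N nets) {G : Subgroup (Equiv.Perm ℕ)} {ops : List (List ℕ)}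
    (h : ∀ w ∈ ops, ev (gp nets) w ∈ G) (D p : ℕ) (hp : (orbWd nets ops D).testBit p = true) :
    ∃ a ∈ G, ∃ q, D.testBit q = true ∧ a q = p := by
  induction ops generalizing D with
  | nil => exact ⟨1, G.one_mem, p, hp, rfl⟩
  | cons x t ih =>
    obtain ⟨a, ha, q, hq, e⟩ := ih (fun y hy => h y (List.mem_cons_of_mem _ hy)) (D ||| imgW nets x D) hp
    rw [Nat.testBit_or, Bool.or_eq_true, testBit_imgW hN] at hq
    rcases hq with hq | hq
    · exact ⟨a, ha, q, hq, e⟩
    · exact ⟨a * ev (gp nets) x, G.mul_mem ha (h x List.mem_cons_self), _, hq, by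
        rw [Equiv.Perm.mul_apply, app_inv, e]⟩

/-- The number of points below `n` in the orbit closure of `b`. -/
noncomputable def orbN (nets : List Net) (ops : List (List ℕ)) (b n : ℕ) : ℕ :=
  force (orbWd nets ops (Nat.shiftLeft 1 b)) fun M => ((List.range n).filter M.testBit).length

theorem orb_mul_le {G H : Subgroup (Equiv.Perm ℕ)} [Finite G] (hle : H ≤ G) {b : ℕ} (hb : ∀ s ∈ H, s b = b)
    {D : List ℕ} (hD : D.Nodup) (h : ∀ p ∈ D, ∃ a ∈ G, a b = p) : D.length * Nat.card H ≤ Nat.card G := by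
  have e1 := card_mul_index ((stab (MonoidHom.id _) b).subgroupOf G)
  rw [← e1, mul_comm]
  refine Nat.mul_le_mul ?_ ?_
  · rw [← Nat.card_congr (subgroupOfEquivOfLe hle).toEquiv]
    exact card_le_of_le fun s hs => hb _ hs
  · change _ ≤ relIndex _ _
    rw [relIndex_stab, ← List.toFinset_card_of_nodup hD, ← Set.ncard_coe_finset]
    refine Set.ncard_le_ncard (fun p hp => h p (List.mem_toFinset.1 hp)) ((Set.finite_range fun g : G => g.1 b).subset ?_)
    rintro _ ⟨g, hg, rfl⟩; exact ⟨⟨g, hg⟩, rfl⟩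

theorem orbN_le {N : ℕ} {nets : List Net} (hN : NetsOK N nets) {G H : Subgroup (Equiv.Perm ℕ)} [Finite G] (hle : H ≤ G)
    {ops : List (List ℕ)} (h : ∀ w ∈ ops, ev (gp nets) w ∈ G) {b : ℕ} (hb : ∀ s ∈ H, s b = b) (n : ℕ) :
    orbN nets ops b n * Nat.card H ≤ Nat.card G :=
  orb_mul_le hle hb (List.nodup_range.filter _) fun p hp => by
    obtain ⟨a, ha, q, hq, e⟩ := orbWd_sound hN h _ p (List.mem_filter.1 hp).2
    rw [shl_eq, Nat.one_shiftLeft, Nat.testBit_two_pow, decide_eq_true_eq] at hq
    exact ⟨a, ha, hq ▸ e⟩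

theorem mem_of_list {nets : List Net} {tb : ℕ → ℕ → ℕ} (ht : TbA nets tb) {S : Subgroup (Equiv.Perm ℕ)} [Finite S]
    {W : List (List ℕ)} (B : List ℕ) (h : ∀ u ∈ W, ev (gp nets) u ∈ S)
    (hn : (W.map fun u => B.map (wap tb u)).Nodup) (hc : Nat.card S ≤ W.length) {g : Equiv.Perm ℕ} (hg : g ∈ S) :
    ∃ u ∈ W, ev (gp nets) u = g := by
  classical
  have b2 : (W.map (ev (gp nets))).Nodup := List.Nodup.of_map (fun g : Equiv.Perm ℕ => B.map ⇑g⁻¹) (by
    rw [List.map_map]
    convert hn using 1
    exact List.map_congr_left fun w _ => List.map_congr_left fun b _ => (wap_eq ht w b).symm)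
  have := Set.eq_of_subset_of_ncard_le (s := ((W.map (ev (gp nets))).toFinset : Set _)) (t := (S : Set (Equiv.Perm ℕ)))
    (fun a ha => by
      obtain ⟨u, hu, rfl⟩ := List.mem_map.1 (List.mem_toFinset.1 ha)
      exact h u hu)
    (by rw [Set.ncard_coe_finset, List.toFinset_card_of_nodup b2, List.length_map]; exact hc) (Set.toFinite _)
  exact List.mem_map.1 (List.mem_toFinset.1 (this.ge hg))

/-- The common fixed points below `n` of the words `W` lie in `F`. -/
noncomputable def fixWB (tb : ℕ → ℕ → ℕ) (n : ℕ) (W : List (List ℕ)) (F : List ℕ) : Bool :=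
  allN n fun p => cnd (allL W fun w => Nat.beq (wap tb w p) p) (decide (p ∈ F)) true

theorem mem_of_fixWB {nets : List Net} {tb : ℕ → ℕ → ℕ} (ht : TbA nets tb) {n : ℕ} {W : List (List ℕ)} {F : List ℕ}
    (h : fixWB tb n W F = true) {p : ℕ} (hp : p < n) (hf : ∀ w ∈ W, ev (gp nets) w p = p) : p ∈ F := by
  have := allN_iff.1 h p hp
  rw [allL_iff.2 fun w hw => beq_tt.2 ((wap_eq ht w p).trans (Equiv.Perm.inv_eq_iff_eq.2 (hf w hw).symm))] at this
  simpa [cnd_true] using this

/-- A centreless group with a subgroup of index two is the automorphism group of that subgroup. -/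
theorem aut_iso {T X : Type*} [Group T] [Group X] [Finite X] {f : T →* X} (hf : Function.Injective f)
    (hi : f.range.index = 2) (hT : center T = ⊥) (hX : center X = ⊥) (ho : Finite (Out T) ∧ Nat.card (Out T) ≤ 2) :
    Nonempty (X ≃* MulAut T) := by
  have : Finite T := Finite.of_injective f hf
  have : f.range.Normal := normal_of_index_eq_two hi
  let c : X →* MulAut T := (MulAut.congr (MonoidHom.ofInjective hf).symm).toMonoidHom.comp MulAut.conjNormal
  have hc : ∀ x t, f (c x t) = x * f t * x⁻¹ := fun x t => MonoidHom.apply_ofInjective_symm hf _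
  have h1 : Function.Injective c := (injective_iff_map_eq_one c).2 fun x hx => by
    have k : ∀ t, x * f t = f t * x := fun t => by
      rw [← mul_inv_eq_iff_eq_mul, ← hc, hx]; rfl
    by_cases h : x ∈ f.range
    · obtain ⟨t, rfl⟩ := h
      rw [mem_bot.1 (hT ▸ mem_center_iff.2 fun u => hf (by rw [map_mul, map_mul, k]) : t ∈ (⊥ : Subgroup T)), map_one]
    · refine mem_bot.1 (hX ▸ mem_center_iff.2 fun y => ?_)
      by_cases h' : y ∈ f.range
      · obtain ⟨t, rfl⟩ := h'
        exact (k t).symm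
      · obtain ⟨t, ht⟩ := (mul_mem_iff_of_index_two hi (a := y) (b := x)).2 (by simp [h, h'])
        have := k t
        rw [ht, ← mul_assoc] at this
        exact (mul_right_cancel this).symm
  have : Finite (MulAut T) := Finite.of_injective (fun σ : MulAut T => (σ : T → T)) DFunLike.coe_injective
  refine ⟨MulEquiv.ofBijective c (h1.bijective_of_nat_card_le ?_)⟩
  rw [← f.range.card_mul_index, hi, ← (Inn T).card_mul_index, ← Nat.card_congr (MonoidHom.ofInjective hf).toEquiv]
  exact Nat.mul_le_mul (Nat.le_of_dvd Nat.card_pos (card_range_dvd _)) ho.2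

end Cfsg.Lib.Comp
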