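import Cfsg.Agent.Lib.Comp.Big2
import Cfsg.Agent.Lib.Comp.PermGrp

/-!
# Double coset enumeration over a known permutation group

A permutation group `G` (given by networks) acts on a set `X`, and `τ : X → X` is a map with
`τ (y·h) = (τ y)·α(h)` for the letters `h` of `L0`.  Facts `x_i = x_k·n` and `τ (x_i·s) = x_k·n` are
derived from earlier facts by tracing relators.
-/

namespace Cfsg.Lib.Comp

universe u

/-- A fact `(i, k, b, s, n)`. -/
abbrev SF := ℕ × ℕ × ℕ × List ℕ × List ℕ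

/-- The control group. -/
structure Ctl (nets : List Net) (tb : ℕ → ℕ → ℕ) (B L : List ℕ) (iv : ℕ → ℕ) (G : Subgroup (Equiv.Perm ℕ)) : Prop where
  ht : TbA nets tb
  hB : IsBase G B
  hL : ∀ a ∈ L, gp nets a ∈ G
  hiv : ∀ a ∈ L, iv a ∈ L ∧ gp nets (iv a) = (gp nets a)⁻¹

/-- Equality of two words on the base. -/
noncomputable def eqW (tb : ℕ → ℕ → ℕ) (B L u v : List ℕ) : Bool :=
  cnd (subB u L) (cnd (subB v L) (allL B fun b => Nat.beq (wap tb u b) (wap tb v b)) false) false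

/-- `List.map` by recursor. -/
noncomputable def mapL {α β : Type} (f : α → β) (l : List α) : List β :=
  List.rec (motive := fun _ => List β) [] (fun a _ ih => f a :: ih) l

theorem mapL_eq {α β : Type} (f : α → β) (l : List α) : mapL f l = l.map f := by
  induction l with
  | nil => rfl
  | cons a t ih => exact congrArg _ ih

/-- Two-level lookup. -/
noncomputable def nth2 {α : Type} (d : α) (l : List (List α)) (j : ℕ) : α :=
  nth d (nth [] l (Nat.div j 32)) (Nat.mod j 32)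

section
variable {nets : List Net} {tb : ℕ → ℕ → ℕ} {B L : List ℕ} {iv : ℕ → ℕ} {G : Subgroup (Equiv.Perm ℕ)}

theorem eqW_perm (ht : TbA nets tb) (hB : IsBase G B) (hL : ∀ a ∈ L, gp nets a ∈ G) {u v : List ℕ}
    (h : eqW tb B L u v = true) :
    (∀ a ∈ u, a ∈ L) ∧ (∀ a ∈ v, a ∈ L) ∧ ev (gp nets) u = ev (gp nets) v := by
  unfold eqW at h
  rw [cnd_tt, cnd_tt] at h
  have h1 := sub_of_subB h.1
  have h2 := sub_of_subB h.2.1
  refine ⟨h1, h2, ?_⟩
  rw [← mul_inv_eq_one]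
  refine hB _ (G.mul_mem (ev_mem fun x hx => hL x (h1 x hx)) (G.inv_mem (ev_mem fun x hx => hL x (h2 x hx))))
    fun b hb' => ?_
  have := beq_tt.1 (allL_iff.1 h.2.2 b hb')
  rw [wap_eq ht, wap_eq ht] at this
  rw [Equiv.Perm.mul_apply, ← this, app_inv]

theorem ctl_of (ht : TbA nets tb) (hB : IsBase G B) (hL : ∀ a ∈ L, gp nets a ∈ G)
    (h : allL L (fun a => eqW tb B L [iv a, a] []) = true) : Ctl nets tb B L iv G := by
  refine ⟨ht, hB, hL, fun a ha => ?_⟩
  obtain ⟨h1, -, h2⟩ := eqW_perm ht hB hL (allL_iff.1 h a ha)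
  rw [ev_cons, ev_single, ev_nil] at h2
  exact ⟨h1 _ (by simp), eq_inv_of_mul_eq_one_left h2⟩

/-- The value of a word in the control group. -/
noncomputable def evG (nets : List Net) (G : Subgroup (Equiv.Perm ℕ)) (u : List ℕ) : G := ev (sval G (gp nets)) u

theorem evG_apd (u v : List ℕ) : evG nets G (apd u v) = evG nets G u * evG nets G v := by
  rw [apd_eq]; exact ev_append _ _ _

theorem evG_nil : evG nets G [] = 1 := rfl

theorem Ctl.coe (C : Ctl nets tb B L iv G) {u : List ℕ} (h : ∀ a ∈ u, a ∈ L) :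
    (evG nets G u : Equiv.Perm ℕ) = ev (gp nets) u := coe_ev_sval fun a ha => C.hL a (h a ha)

theorem Ctl.eq (C : Ctl nets tb B L iv G) {u v : List ℕ} (h : eqW tb B L u v = true) :
    evG nets G u = evG nets G v := by
  obtain ⟨h1, h2, h3⟩ := eqW_perm C.ht C.hB C.hL h
  exact Subtype.ext (by rw [C.coe h1, C.coe h2, h3])

theorem Ctl.sub (C : Ctl nets tb B L iv G) {u v : List ℕ} (h : eqW tb B L u v = true) :
    (∀ a ∈ u, a ∈ L) ∧ ∀ a ∈ v, a ∈ L :=
  ⟨(eqW_perm C.ht C.hB C.hL h).1, (eqW_perm C.ht C.hB C.hL h).2.1⟩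

theorem Ctl.inv (C : Ctl nets tb B L iv G) {u : List ℕ} (h : ∀ a ∈ u, a ∈ L) (v : List ℕ) :
    evG nets G (invA iv u v) = (evG nets G u)⁻¹ * evG nets G v := by
  induction u generalizing v with
  | nil => simp [invA, evG_nil]
  | cons x t ih =>
    have e : invA iv (x :: t) v = invA iv t (iv x :: v) := rfl
    have hx := C.hiv x (h x (by simp))
    have e2 : sval G (gp nets) (iv x) = (sval G (gp nets) x)⁻¹ :=
      Subtype.ext (by rw [coe_sval (C.hL _ hx.1), Subgroup.coe_inv, coe_sval (C.hL _ (h x (by simp))), hx.2])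
    rw [e, ih fun a ha => h a (by simp [ha])]
    unfold evG
    rw [ev_cons, ev_cons, e2, mul_inv_rev, mul_assoc]

variable {X : Type*} [MulAction G X]

/-- Right action of a word. -/
noncomputable def ra (nets : List Net) (G : Subgroup (Equiv.Perm ℕ)) {X : Type*} [MulAction G X] (y : X) (u : List ℕ) :
    X := (evG nets G u)⁻¹ • y

theorem ra_apd (y : X) (u v : List ℕ) : ra nets G y (apd u v) = ra nets G (ra nets G y u) v := by
  unfold ra; rw [evG_apd, mul_inv_rev, mul_smul]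

theorem ra_nil (y : X) : ra nets G y [] = y := by unfold ra; rw [evG_nil, inv_one, one_smul]

theorem Ctl.ra_eq (C : Ctl nets tb B L iv G) {u v : List ℕ} (h : eqW tb B L u v = true) (y : X) :
    ra nets G y u = ra nets G y v := by unfold ra; rw [C.eq h]

theorem ra_inj {y z : X} {u : List ℕ} (h : ra nets G y u = ra nets G z u) : y = z := by
  unfold ra at h; exact (smul_left_cancel_iff _).1 h

/-- Meaning of a fact. -/
def SF.ok (nets : List Net) (G : Subgroup (Equiv.Perm ℕ)) {X : Type*} [MulAction G X] (L : List ℕ) (x : ℕ → X)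
    (τ : X → X) (f : SF) : Prop :=
  (∀ a ∈ f.2.2.2.2, a ∈ L) ∧
    (if f.2.2.1 = 0 then x f.1 else τ (ra nets G (x f.1) f.2.2.2.1)) = ra nets G (x f.2.1) f.2.2.2.2

/-- Apply a list of equalities `x_i = x_k·n` to the state `(v, g)`. -/
noncomputable def epsU (iv : ℕ → ℕ) (F : ℕ → SF) (lim : ℕ) (E : List ℕ) :
    ℕ → List ℕ → (ℕ → List ℕ → Bool) → Bool :=
  List.rec (motive := fun _ => ℕ → List ℕ → (ℕ → List ℕ → Bool) → Bool) (fun v g K => K v g)
    (fun e _ ih v g K => force (Nat.div e 2) fun j => cnd (Nat.ble (Nat.succ j) lim)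
      (cnd (Nat.beq (F j).2.2.1 0) (cnd (Nat.beq (Nat.mod e 2) 0)
        (cnd (Nat.beq v (F j).1) (ih (F j).2.1 (apd (F j).2.2.2.2 g) K) false)
        (cnd (Nat.beq v (F j).2.1) (ih (F j).1 (invA iv (F j).2.2.2.2 g) K) false)) false) false) E

variable {x : ℕ → X} {τ : X → X} {F : ℕ → SF} {lim : ℕ}

theorem epsU_sound (C : Ctl nets tb B L iv G) (hF : ∀ j < lim, (F j).2.2.1 = 0 → (F j).ok nets G L x τ) {E : List ℕ}
    {v : ℕ} {g : List ℕ} {K : ℕ → List ℕ → Bool} (h : epsU iv F lim E v g K = true) :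
    ∃ v' g', K v' g' = true ∧ ra nets G (x v) g = ra nets G (x v') g' := by
  induction E generalizing v g with
  | nil => exact ⟨v, g, h, rfl⟩
  | cons e t ih =>
    replace h := (force_eq _ _).symm.trans h
    rw [cnd_tt, cnd_tt, ble_tt, beq_tt, cnd_eq] at h
    obtain ⟨h1, h2, h3⟩ := h
    obtain ⟨a1, a2⟩ := hF _ h1 h2
    rw [if_pos h2] at a2
    split_ifs at h3 with h4
    · rw [cnd_tt, beq_tt] at h3
      obtain ⟨v', g', k1, k2⟩ := ih h3.2
      exact ⟨v', g', k1, by rw [← k2, ra_apd, ← a2, h3.1]⟩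
    · rw [cnd_tt, beq_tt] at h3
      obtain ⟨v', g', k1, k2⟩ := ih h3.2
      refine ⟨v', g', k1, ?_⟩
      rw [← k2, a2, h3.1]
      unfold ra
      rw [C.inv a1, mul_inv_rev, inv_inv, mul_smul, smul_inv_smul]

/-- The program `t g₁ t g₂ …`. -/
noncomputable def srun (nets : List Net) (G : Subgroup (Equiv.Perm ℕ)) {X : Type*} [MulAction G X] (τ : X → X)
    (S : List (List ℕ)) (y : X) : X := S.foldl (fun y s => ra nets G (τ y) s) y

/-- `τ` is semilinear over the letters `L0`. -/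
def Semi (nets : List Net) (G : Subgroup (Equiv.Perm ℕ)) {X : Type*} [MulAction G X] (τ : X → X) (L0 : List ℕ)
    (al : ℕ → ℕ) : Prop := ∀ a ∈ L0, ∀ y : X, τ (ra nets G y [a]) = ra nets G (τ y) [al a]

theorem Semi.word {L0 : List ℕ} {al : ℕ → ℕ} (h : Semi nets G τ L0 al) {w : List ℕ} (hw : ∀ a ∈ w, a ∈ L0) (y : X) :
    τ (ra nets G y w) = ra nets G (τ y) (mapL al w) := by
  induction w generalizing y with
  | nil => rw [ra_nil]; exact (ra_nil _).symm
  | cons a t ih =>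
    have e1 : ra nets G y (a :: t) = ra nets G (ra nets G y [a]) t := ra_apd y [a] t
    have e2 : ra nets G (τ y) (mapL al (a :: t)) = ra nets G (ra nets G (τ y) [al a]) (mapL al t) :=
      ra_apd _ [al a] _
    rw [e1, e2, ih (fun b hb => hw b (by simp [hb])), h a (hw a (by simp))]

/-- Trace a program, using one certificate `(E, f, h)` for every letter `t`. -/
noncomputable def trc (tb : ℕ → ℕ → ℕ) (B L : List ℕ) (iv : ℕ → ℕ) (L0 : List ℕ) (al : ℕ → ℕ) (F : ℕ → SF) (lim : ℕ)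
    (S : List (List ℕ)) : List (List ℕ × ℕ × List ℕ) → ℕ → List ℕ → (ℕ → List ℕ → Bool) → Bool :=
  List.rec (motive := fun _ => List (List ℕ × ℕ × List ℕ) → ℕ → List ℕ → (ℕ → List ℕ → Bool) → Bool)
    (fun _ v g K => K v g)
    (fun s _ ih c v g K => List.rec (motive := fun _ => Bool) false (fun d c' _ =>
      epsU iv F lim d.1 v g fun v' g' => cnd (Nat.ble (Nat.succ d.2.1) lim) (cnd (Nat.beq (F d.2.1).2.2.1 1)
        (cnd (Nat.beq v' (F d.2.1).1) (cnd (subB d.2.2 L0) (cnd (eqW tb B L g' (apd (F d.2.1).2.2.2.1 d.2.2))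
          (ih c' (F d.2.1).2.1 (apd (F d.2.1).2.2.2.2 (apd (mapL al d.2.2) s)) K) false) false) false) false) false) c) S

theorem trc_sound (C : Ctl nets tb B L iv G) {L0 : List ℕ} {al : ℕ → ℕ} (hS : Semi nets G τ L0 al)
    (hF : ∀ j < lim, (F j).ok nets G L x τ) {S : List (List ℕ)} {c : List (List ℕ × ℕ × List ℕ)}
    {v : ℕ} {g : List ℕ} {K : ℕ → List ℕ → Bool} (h : trc tb B L iv L0 al F lim S c v g K = true) :
    ∃ v' g', K v' g' = true ∧ srun nets G τ S (ra nets G (x v) g) = ra nets G (x v') g' := by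
  induction S generalizing c v g with
  | nil => exact ⟨v, g, h, rfl⟩
  | cons s t ih =>
    cases c with
    | nil => exact absurd h (by change false ≠ true; simp)
    | cons d c' =>
      obtain ⟨v1, g1, h1, e1⟩ := epsU_sound (x := x) (τ := τ) C (fun j hj _ => hF j hj) h
      rw [cnd_tt, cnd_tt, cnd_tt, cnd_tt, cnd_tt, ble_tt, beq_tt, beq_tt] at h1
      obtain ⟨a1, a2, a3, a4, a5, a6⟩ := h1
      obtain ⟨v', g', k1, k2⟩ := ih a6
      refine ⟨v', g', k1, ?_⟩
      have a7 := (hF _ a1).2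
      rw [if_neg (by omega)] at a7
      rw [← k2, e1, C.ra_eq a5, ra_apd, ra_apd, ra_apd, ← a7, a3, ← hS.word (sub_of_subB a4)]
      rfl

/-- A derivation `(kind, program, certificates, final equalities)`. -/
abbrev SD := ℕ × ℕ × List (List ℕ × ℕ × List ℕ) × List ℕ

/-- Check of the derivation of fact `j`; programs `(b, g₀, S)` evaluate to `t^b`. -/
noncomputable def der (tb : ℕ → ℕ → ℕ) (B L : List ℕ) (iv : ℕ → ℕ) (L0 : List ℕ) (al : ℕ → ℕ) (j1 j2 : List ℕ)
    (PR : List (ℕ × List ℕ × List (List ℕ))) (F : ℕ → SF) (d : SD) (j : ℕ) : Bool :=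
  cnd (Nat.beq d.1 0)
    (cnd (Nat.beq (nth (0, [], []) PR d.2.1).1 (F j).2.2.1)
      (trc tb B L iv L0 al F j (nth (0, [], []) PR d.2.1).2.2 d.2.2.1 (F j).1
        (apd (F j).2.2.2.1 (nth (0, [], []) PR d.2.1).2.1) fun v g => epsU iv F j d.2.2.2 v g fun v' g' =>
          cnd (Nat.beq v' (F j).2.1) (eqW tb B L g' (apd (F j).2.2.2.2 (cnd (Nat.beq (F j).2.2.1 0) (F j).2.2.2.1 [])))
            false) false)
    (cnd (Nat.ble (Nat.succ d.2.1) j) (cnd (Nat.beq (F d.2.1).2.2.1 1) (cnd (Nat.beq (F j).2.2.1 1)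
      (cnd (Nat.beq (F j).1 (F d.2.1).2.1) (cnd (Nat.beq (F j).2.1 (F d.2.1).1)
        (cnd (eqW tb B L (F j).2.2.2.1 (apd (F d.2.1).2.2.2.2 j1))
          (eqW tb B L (apd (F j).2.2.2.2 j2) (F d.2.1).2.2.2.1) false) false) false) false) false) false)

/-- The programs are valid. -/
def ProgOK (nets : List Net) (G : Subgroup (Equiv.Perm ℕ)) {X : Type*} [MulAction G X] (τ : X → X)
    (PR : List (ℕ × List ℕ × List (List ℕ))) : Prop :=
  ∀ p ∈ PR, ∀ y : X, srun nets G τ p.2.2 (ra nets G y p.2.1) = if p.1 = 0 then y else τ y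

theorem der_sound (C : Ctl nets tb B L iv G) {L0 : List ℕ} {al : ℕ → ℕ} (hS : Semi nets G τ L0 al)
    {j1 j2 : List ℕ} {PR : List (ℕ × List ℕ × List (List ℕ))} {d : SD} {j : ℕ}
    (hJ : d.1 ≠ 0 → ∀ y : X, srun nets G τ [j1, j2] y = y) (hP : ProgOK nets G τ PR)
    (hF : ∀ i < j, (F i).ok nets G L x τ) (h : der tb B L iv L0 al j1 j2 PR F d j = true) :
    (F j).ok nets G L x τ := by
  unfold der at h
  rw [cnd_eq] at h
  split_ifs at h with h0
  · rw [cnd_tt, beq_tt] at h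
    obtain ⟨v, g, k1, k2⟩ := trc_sound C hS hF h.2
    obtain ⟨v', g', k3, k4⟩ := epsU_sound (x := x) (τ := τ) C (fun j hj _ => hF j hj) k1
    rw [cnd_tt, beq_tt] at k3
    have hp : ∀ y : X, srun nets G τ (nth (0, [], []) PR d.2.1).2.2 (ra nets G y (nth (0, [], []) PR d.2.1).2.1) =
        if (nth (0, [], []) PR d.2.1).1 = 0 then y else τ y := by
      rcases nth_mem ((0, [], []) : ℕ × List ℕ × List (List ℕ)) PR d.2.1 with e | e
      · rw [e]; intro y; exact ra_nil y
      · exact hP _ e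
    rw [ra_apd, hp, k4, C.ra_eq k3.2, ra_apd, k3.1, h.1, cnd_eq] at k2
    simp only [beq_tt] at k2
    refine ⟨fun a ha => (C.sub k3.2).2 a (by rw [apd_eq]; simp [ha]), ?_⟩
    split_ifs at k2 ⊢ with h1
    · exact ra_inj k2
    · rwa [ra_nil] at k2
  · simp only [cnd_tt, beq_tt, ble_tt] at h h0
    obtain ⟨a1, a2, a3, a4, a5, a6, a7⟩ := h
    have b1 := (hF _ a1).2
    rw [if_neg (by omega)] at b1
    refine ⟨fun a ha => (C.sub a7).1 a (by rw [apd_eq]; simp [ha]), ?_⟩
    rw [if_neg (by omega), C.ra_eq a6, ra_apd, a4, ← b1, a5]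
    apply ra_inj (nets := nets) (G := G) (u := j2)
    rw [← ra_apd (x _), C.ra_eq a7]
    exact hJ h0 _

theorem facts_ok (C : Ctl nets tb B L iv G) {L0 : List ℕ} {al : ℕ → ℕ} (hS : Semi nets G τ L0 al)
    {j1 j2 : List ℕ} {PR : List (ℕ × List ℕ × List (List ℕ))} {D : ℕ → SD} {na nf : ℕ}
    (hJ : ∀ y : X, srun nets G τ [j1, j2] y = y) (hP : ProgOK nets G τ PR)
    (hA : ∀ j < na, (F j).ok nets G L x τ)
    (h : ∀ j, na ≤ j → j < nf → der tb B L iv L0 al j1 j2 PR F (D j) j = true) :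
    ∀ j < nf, (F j).ok nets G L x τ := by
  intro j
  induction j using Nat.strong_induction_on with
  | _ j ih =>
    intro hj
    by_cases h1 : j < na
    · exact hA j h1
    · exact der_sound C hS (fun _ => hJ) hP (fun i hi => ih i hi (by omega)) (h j (by omega) hj)

end

end Cfsg.Lib.Comp
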