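import Cfsg.Agent.Lib.Comp.Out

/-! Self-centralising Sylow subgroups of prime order. -/

set_option autoImplicit false

namespace Cfsg.Lib.Comp

open Subgroup

theorem order_eq_of_cent {Γ : Type*} [Group Γ] [Finite Γ] {φ : Γ →* Equiv.Perm ℕ} (hφ : Function.Injective φ)
    {σ : ℕ → Equiv.Perm ℕ} {L : List ℕ} (hr : φ.range = cl σ L) {z p m : ℕ} (hz : z ∈ L) (hp : p.Prime)
    (hc : ∀ c ∈ cl σ L, Commute c (σ z) → c ∈ cl σ [z]) (h1 : ev σ [z] ^ p = ev σ []) (h2 : ev σ [z] ≠ ev σ [])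
    (hG : Nat.card Γ = p * m) (hm : ¬ p ∣ m) {g : Γ} (hg : p ∣ orderOf g) : orderOf g = p := by
  have : Fact p.Prime := ⟨hp⟩
  obtain ⟨x, hx⟩ := hr.ge (mem_cl hz)
  rw [ev_single, ev_nil, ← hx] at h1 h2
  have ho : orderOf x = p := (orderOf_injective φ hφ x).symm.trans (orderOf_eq_prime h1 h2)
  have hP : Nat.card (zpowers x) = p ^ 1 := by rw [Nat.card_zpowers, ho, pow_one]
  have hi : ¬ p ∣ (zpowers x).index := by
    have := (zpowers x).card_mul_index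
    rw [hP, hG, pow_one, Nat.mul_right_inj hp.ne_zero] at this
    rwa [this]
  have hy : orderOf (g ^ (orderOf g / p)) = p := orderOf_pow_orderOf_div (orderOf_pos g).ne' hg
  obtain ⟨Q, hQ⟩ := (IsPGroup.of_card (G := zpowers (g ^ (orderOf g / p))) (n := 1)
    (by rw [Nat.card_zpowers, hy, pow_one])).exists_le_sylow
  obtain ⟨h, hh⟩ := MulAction.exists_smul_eq Γ ((IsPGroup.of_card hP).toSylow hi) Q
  obtain ⟨y, hy', e⟩ := (hh ▸ hQ) (mem_zpowers _)
  replace e : h * y * h⁻¹ = g ^ (orderOf g / p) := e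
  have e2 : y = (h⁻¹ * g * h⁻¹⁻¹) ^ (orderOf g / p) := by rw [conj_pow, ← e]; group
  have e3 : zpowers y = zpowers x := eq_of_le_of_card_ge (zpowers_le.2 hy') (by
    rw [Nat.card_zpowers, Nat.card_zpowers, ho, ← hy, ← e]
    exact (orderOf_injective (MulAut.conj h).toMonoidHom (MulAut.conj h).injective y).le)
  obtain ⟨k, hk⟩ := e3.ge (mem_zpowers x)
  have e4 := hc (φ (h⁻¹ * g * h⁻¹⁻¹)) (hr.le ⟨_, rfl⟩) (by
    rw [← hx, ← show y ^ k = x from hk, e2]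
    exact (((Commute.refl _).pow_right _).zpow_right k).map φ)
  obtain ⟨w, hw, e5⟩ := (cl_le (H := (zpowers x).map φ)).2 (fun y hy => by rw [List.mem_singleton.1 hy]; exact ⟨x, mem_zpowers x, hx⟩) e4
  refine Nat.dvd_antisymm ?_ hg
  rw [← orderOf_injective (MulAut.conj h⁻¹).toMonoidHom (MulAut.conj h⁻¹).injective g, ← ho]
  exact orderOf_dvd_of_mem_zpowers (show h⁻¹ * g * h⁻¹⁻¹ ∈ zpowers x from hφ e5 ▸ hw)

end Cfsg.Lib.Comp
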