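import Cfsg.Agent.Lib.Comp.Out

/-! Self-centralising elements of prime order. -/

namespace Cfsg.Lib.Comp

open Subgroup

theorem sc_of_cent {Γ : Type*} [Group Γ] {φ : Γ →* Equiv.Perm ℕ} (h1 : Function.Injective φ) {g : ℕ → Equiv.Perm ℕ}
    {L : List ℕ} (h2 : φ.range = cl g L) {p : ℕ} (hm : g 1 ∈ cl g L) (ho : orderOf (g 1) = p)
    (h : ∀ c ∈ cl g L, Commute c (g 1) → c ∈ cl g [1]) : ∃ x : Γ, orderOf x = p ∧ ∀ c, Commute c x → c ∈ zpowers x := by
  obtain ⟨x, hx⟩ : g 1 ∈ φ.range := h2 ▸ hm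
  refine ⟨x, by rw [← orderOf_injective φ h1, hx, ho], fun c hc => ?_⟩
  obtain ⟨k, hk⟩ : φ c ∈ zpowers (φ x) :=
    hx ▸ cl_le.2 (by simp) (h _ (h2 ▸ ⟨c, rfl⟩) (hx ▸ hc.map φ))
  exact ⟨k, h1 ((map_zpow φ x k).trans hk)⟩

theorem sylow_sc1 {G : Type*} [Group G] [Finite G] {p : ℕ} [hp : Fact p.Prime] {X : Subgroup G} (hX : Nat.card X = p)
    (c1 : centralizer (X : Set G) = X) :
    ∃ f : normalizer (X : Set G) ⧸ X.subgroupOf (normalizer (X : Set G)) →* (ZMod p)ˣ, Function.Injective f := by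
  have k := normalizerMonoidHom_ker X
  rw [c1] at k
  have : IsCyclic X := isCyclic_of_prime_card hX
  subst hX
  exact ⟨(IsCyclic.mulAutMulEquiv X).toMonoidHom.comp ((QuotientGroup.kerLift (normalizerMonoidHom X)).comp
      (QuotientGroup.quotientMulEquivOfEq k.symm).toMonoidHom),
    (IsCyclic.mulAutMulEquiv X).injective.comp ((QuotientGroup.kerLift_injective (normalizerMonoidHom X)).comp
      (QuotientGroup.quotientMulEquivOfEq k.symm).injective)⟩

/-- A self-centralising Sylow subgroup of prime order. -/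
theorem sylow_sc {G : Type*} [Group G] [Finite G] {p m : ℕ} [hp : Fact p.Prime] (hc : Nat.card G = p * m) (hm : ¬ p ∣ m)
    (h : ∃ x : G, orderOf x = p ∧ ∀ c, Commute c x → c ∈ zpowers x) (X : Sylow p G) :
    centralizer ((X : Subgroup G) : Set G) = X ∧ ∃ _ : ((X : Subgroup G).subgroupOf (normalizer ((X : Subgroup G) : Set G))).Normal,
      IsCyclic (normalizer ((X : Subgroup G) : Set G) ⧸ (X : Subgroup G).subgroupOf _) ∧
      Nat.card (normalizer ((X : Subgroup G) : Set G) ⧸ (X : Subgroup G).subgroupOf _) = m % p := by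
  obtain ⟨x, hx, hC⟩ := h
  have h0 : m ≠ 0 := fun h => hm (h ▸ dvd_zero p)
  have hX : ∀ Y : Sylow p G, Nat.card Y = p := fun Y => by
    rw [Y.card_eq_multiplicity, hc, Nat.factorization_mul hp.out.ne_zero h0]
    simp [hp.out.factorization_self, Nat.factorization_eq_zero_of_not_dvd hm]
  obtain ⟨Y, hY⟩ := (IsPGroup.of_card (G := zpowers x) (n := 1) (by rw [Nat.card_zpowers, hx, pow_one])).exists_le_sylow
  obtain ⟨g, hg⟩ := MulAction.exists_smul_eq G Y X
  have e : zpowers x = Y := eq_of_le_of_card_ge hY (by rw [hX, Nat.card_zpowers, hx])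
  have e2 : (X : Subgroup G) = zpowers (g * x * g⁻¹) := by
    rw [← hg, Sylow.coe_subgroup_smul, ← e]; exact MonoidHom.map_zpowers (MulAut.conj g).toMonoidHom x
  have c1 : centralizer ((X : Subgroup G) : Set G) = X := by
    rw [e2]
    refine le_antisymm (fun c hc => ?_) (le_centralizer _)
    obtain ⟨k, hk⟩ := hC (g⁻¹ * c * g) (by
      have := hc _ (mem_zpowers _)
      rw [Commute, SemiconjBy, ← mul_left_inj g⁻¹, ← mul_right_inj g]
      simpa [mul_assoc] using this.symm)
    exact ⟨k, by dsimp only at hk ⊢; rw [conj_zpow, hk]; group⟩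
  obtain ⟨f, hf⟩ := sylow_sc1 (hX X) c1
  refine ⟨c1, inferInstance, isCyclic_of_injective _ hf, ?_⟩
  have a := Nat.card_le_card_of_injective _ hf
  rw [Nat.card_eq_fintype_card (α := (ZMod p)ˣ), ZMod.card_units] at a
  have b := card_mul_index ((X : Subgroup G).subgroupOf (normalizer ((X : Subgroup G) : Set G)))
  rw [Nat.card_congr (subgroupOfEquivOfLe le_normalizer).toEquiv, hX] at b
  have d := card_mul_index (normalizer ((X : Subgroup G) : Set G))
  rw [← b, hc, mul_assoc, Nat.mul_right_inj hp.out.ne_zero] at d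
  have d2 : (normalizer ((X : Subgroup G) : Set G)).index ≡ 1 [MOD p] :=
    X.card_eq_index_normalizer ▸ card_sylow_modEq_one p G
  rw [← d]
  rw [show _ % p = _ % p from d2.mul_left _, mul_one]
  exact (Nat.mod_eq_of_lt (a.trans_lt (Nat.sub_lt hp.out.pos one_pos))).symm

end Cfsg.Lib.Comp
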