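/-
Invariant bit sets: unions of orbits, orbits of sets, and small group theoretic helpers.
-/
import Cfsg.Agent.Lib.Ru.Refine2
import Cfsg.Agent.Lib.Comp.Sc
import Cfsg.Agent.Lib.Rank3.Gen

set_option autoImplicit false

namespace Cfsg.Lib.Rfn

open Subgroup MulAction Cfsg.Lib.Comp Pointwise

/-- all unions of the listed orbits pass the test. -/
noncomputable def allSub (nets : List Net) (k : ℕ → Bool) (L : List (ℕ × List ℕ)) : ℕ → Bool :=
  List.rec (motive := fun _ => ℕ → Bool) k (fun e _ ih A =>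
    cnd (ih A) (force (Nat.lor A (orb nets e.2 (Nat.shiftLeft 1 e.1))) ih) false) L

/-- the union of the listed orbits. -/
noncomputable def uni (nets : List Net) (L : List (ℕ × List ℕ)) : ℕ :=
  List.rec (motive := fun _ => ℕ) 0 (fun e _ ih => Nat.lor (orb nets e.2 (Nat.shiftLeft 1 e.1)) ih) L

theorem allSub_sound {N : ℕ} {nets : List Net} (hN : NetsOK N nets) {J : Subgroup (Equiv.Perm ℕ)} {k : ℕ → Bool}
    {L : List (ℕ × List ℕ)} (hL : ∀ e ∈ L, ∀ x ∈ e.2, gp nets x ∈ J) {S : ℕ → Prop} (hS : ∀ g ∈ J, ∀ p, S p → S (g p))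
    {A : ℕ} (h : allSub nets k L A = true) : ∃ E, k E = true ∧
      ∀ p, E.testBit p = true ↔ A.testBit p = true ∨ (S p ∧ (uni nets L).testBit p = true) := by
  induction L generalizing A with
  | nil => exact ⟨A, h, fun p => by simp [uni]⟩
  | cons e t ih =>
    rw [List.forall_mem_cons] at hL
    have h : cnd (allSub nets k t A) (allSub nets k t (A ||| orb nets e.2 (1 <<< e.1))) false = true := h
    have u : uni nets (e :: t) = orb nets e.2 (1 <<< e.1) ||| uni nets t := rfl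
    have o : ∀ p, (orb nets e.2 (1 <<< e.1)).testBit p = true → (S p ↔ S e.1) := fun p hp => by
      obtain ⟨a, ha, q, hq, rfl⟩ := orb_sound hN hL.1 _ p hp
      rw [Nat.one_shiftLeft, Nat.testBit_two_pow, decide_eq_true_eq] at hq
      exact hq ▸ ⟨fun h => by simpa using hS _ (inv_mem ha) _ h, hS a ha _⟩
    rw [cnd_tt] at h
    by_cases s : S e.1
    · obtain ⟨E, a, b⟩ := ih hL.2 h.2
      refine ⟨E, a, fun p => ?_⟩
      have := o p
      rw [b, u, Nat.testBit_or, Nat.testBit_or, Bool.or_eq_true, Bool.or_eq_true]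
      tauto
    · obtain ⟨E, a, b⟩ := ih hL.2 h.1
      refine ⟨E, a, fun p => ?_⟩
      have := o p
      rw [b, u, Nat.testBit_or, Bool.or_eq_true]
      tauto

theorem pop_le (m E : ℕ) : pop (spr 12 m) E ≤ {p | p < 12 * m ∧ E.testBit p = true}.ncard ∧
    pop (spr 12 m) E = {p | p < 12 * m ∧ E.testBit p = true}.ncard % 4095 := by
  have : ∑ j ∈ Finset.range (12 * m), (E.testBit j).toNat = {p | p < 12 * m ∧ E.testBit p = true}.ncard := by
    rw [show {p | p < 12 * m ∧ E.testBit p = true} = ((Finset.range (12 * m)).filter (E.testBit · = true) : Finset ℕ) by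
      ext; simp, Set.ncard_coe_finset, Finset.card_filter]
    exact Finset.sum_congr rfl fun j _ => by cases E.testBit j <;> rfl
  rw [pop_eq, this]
  exact ⟨Nat.mod_le _ _, rfl⟩

/-- hashes of the images of a set along a walk. -/
noncomputable def hwalk (nets : List Net) (w : List ℕ) : ℕ → ℕ :=
  List.rec (motive := fun _ => ℕ → ℕ) (fun _ => 0) (fun x _ ih D =>
    force (force (img nets x D) ih) fun T => Nat.lor T (Nat.shiftLeft 1 (Nat.mod D 4091))) w

theorem hwalk_sound {N : ℕ} {nets : List Net} (hN : NetsOK N nets) {G : Subgroup (Equiv.Perm ℕ)} {w : List ℕ}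
    (hw : ∀ x ∈ w, gp nets x ∈ G) {D j : ℕ} (h : (hwalk nets w D).testBit j = true) :
    ∃ g ∈ G, ∃ E, g • {p | D.testBit p = true} = {p | E.testBit p = true} ∧ E % 4091 = j := by
  induction w generalizing D with
  | nil => simp [hwalk] at h
  | cons x t ih =>
    rw [List.forall_mem_cons] at hw
    rw [show hwalk nets (x :: t) D = hwalk nets t (img nets x D) ||| 1 <<< (D % 4091) from rfl, Nat.testBit_or,
      Bool.or_eq_true, Nat.one_shiftLeft, Nat.testBit_two_pow, decide_eq_true_eq] at h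
    rcases h with h | h
    · obtain ⟨g, hg, E, a, b⟩ := ih hw.2 h
      refine ⟨g * gp nets x, mul_mem hg hw.1, E, ?_, b⟩
      rw [mul_smul, ← a]
      congr 1
      ext p
      rw [Set.mem_smul_set_iff_inv_smul_mem]
      exact (congrArg (· = true) (testBit_img hN x D p)).symm.to_iff
    · exact ⟨1, one_mem _, D, one_smul _ _, h⟩

theorem hwalk_le {N : ℕ} {nets : List Net} (hN : NetsOK N nets) {G H : Subgroup (Equiv.Perm ℕ)} [Finite G] (hle : H ≤ G)
    {w : List ℕ} (hw : ∀ x ∈ w, gp nets x ∈ G) {D : ℕ} (hD : ∀ h ∈ H, ∀ p, D.testBit p = true → D.testBit (h p) = true) :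
    pop (spr 12 341) (hwalk nets w D) * Nat.card H ≤ Nat.card G := by
  classical
  rw [← (stabilizer G {p | D.testBit p = true}).card_mul_index, mul_comm, index_stabilizer]
  refine Nat.mul_le_mul ?_ ((pop_le _ _).1.trans ?_)
  · rw [← Nat.card_congr (subgroupOfEquivOfLe hle).toEquiv]
    refine card_le_of_le fun h hh => Set.ext fun p => Set.mem_smul_set_iff_inv_smul_mem.trans
      ⟨fun k => ?_, hD _ (inv_mem hh) p⟩
    exact (congrArg D.testBit (app_inv h.1 p)).symm.trans (hD _ hh _ k)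
  · refine le_trans (Set.ncard_le_ncard (fun j hj => ?_) ((Set.finite_range _).image fun s : Set ℕ =>
      if h : ∃ E : ℕ, s = {p | E.testBit p = true} then h.choose % 4091 else 0)) (Set.ncard_image_le (Set.finite_range _))
    obtain ⟨g, hg, E, a, rfl⟩ := hwalk_sound hN hw hj.2
    have e : ∃ F : ℕ, {p | E.testBit p = true} = {p | F.testBit p = true} := ⟨E, rfl⟩
    refine ⟨_, ⟨⟨g, hg⟩, a⟩, ?_⟩
    simp only [dif_pos e]
    congr 1
    exact Nat.eq_of_testBit_eq fun p => Bool.eq_iff_iff.2 (Set.ext_iff.1 e.choose_spec p).symm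

theorem levelM {D : Dat} {C m : ℕ} {adj : ℕ → ℕ → Prop} (h : D.OK (C * m) adj) (hr : allR 0 C m (reach D 12) = true)
    {σ : Equiv.Perm ℕ} (hσ : Aut (C * m) adj σ) {B : List ℕ} (hB : ∀ b ∈ B, σ b = b) {ops : List (ℕ × ℕ × ℕ × ℕ)}
    {b O : ℕ} (e : run2 D C m (within b O) ops (regs (C * m) B) = true) : O.testBit (σ b) = true := by
  obtain ⟨R, hR, e⟩ := run2_sound h hr hσ (regs_inv hσ hB) e
  have h0 : Inv σ (nth 0 R 0) := (nth_mem 0 R 0).elim (fun e p => by simp [e]) (hR _)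
  rw [within, cnd_tt, beq_bit, beq_tt, ← h0] at e
  have := e.1
  rw [← e.2, land_eq', Nat.testBit_and, Bool.and_eq_true] at this
  exact this.2

theorem pgroup_cons {Γ : Type*} [Group Γ] {γ : ℕ → Γ} {x p : ℕ} {L : List ℕ} [Finite (cl γ L)] (hL : IsPGroup p (cl γ L))
    (hx : γ x ^ p = 1) (h : ∀ y ∈ L, ∃ w, (∀ z ∈ w, z ∈ L) ∧ ev γ [x, y] ^ 1 = ev γ (w ++ [x])) :
    IsPGroup p (cl γ (x :: L)) := by
  have a : IsPGroup p (zpowers (γ x)) := by
    rintro ⟨_, k, rfl⟩
    exact ⟨1, Subtype.ext (by simp only [pow_one, coe_pow, coe_one]; rw [← zpow_natCast, ← zpow_mul, mul_comm, zpow_mul,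
      zpow_natCast, hx, one_zpow])⟩
  have b : cl γ L ≤ (cl γ L).comap (MulAut.conj (γ x)).toMonoidHom := cl_le.2 fun y hy => by
    obtain ⟨w, hw, e⟩ := h y hy
    rw [pow_one, ev_append, ev_cons, ev_single, ev_single, ← mul_inv_eq_iff_eq_mul] at e
    exact (e ▸ ev_mem fun z hz => mem_cl (hw z hz) : γ x * γ y * (γ x)⁻¹ ∈ cl γ L)
  exact (a.to_sup_of_normal_right' hL (zpowers_le.2 (mem_normalizer_fintype b))).to_le
    (cl_le.2 (List.forall_mem_cons.2 ⟨mem_sup_left (mem_zpowers _), fun y hy => mem_sup_right (mem_cl hy)⟩))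

theorem card_norm {G : Type*} [Group G] [Finite G] {p m : ℕ} [Fact p.Prime] (hc : Nat.card G = p * m) (hm : ¬ p ∣ m)
    (h : ∃ x : G, orderOf x = p ∧ ∀ c, Commute c x → c ∈ zpowers x) {X : Subgroup G} (hX : Nat.card X = p) :
    centralizer (X : Set G) = X ∧ Nat.card (normalizer (X : Set G)) = p * (m % p) := by
  have i := X.card_mul_index
  rw [hX, hc, Nat.mul_right_inj (Fact.out : p.Prime).ne_zero] at i
  obtain ⟨a, _, -, b⟩ := sylow_sc hc hm h ((IsPGroup.of_card (n := 1) (hX.trans (pow_one p).symm)).toSylow (i ▸ hm))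
  refine ⟨a, ?_⟩
  rw [← (X.subgroupOf (normalizer (X : Set G))).card_mul_index,
    Nat.card_congr (subgroupOfEquivOfLe le_normalizer).toEquiv, hX]
  exact congrArg _ b

theorem norm_le {G : Type*} [Group G] [Finite G] {K : Subgroup G} {p m l : ℕ} [Fact p.Prime] (hc : Nat.card G = p * m)
    (hm : ¬ p ∣ m) (h : ∃ x : G, orderOf x = p ∧ ∀ c, Commute c x → c ∈ zpowers x) (hK : Nat.card K = p * l)
    (hl : ¬ p ∣ l) (e : m % p = l % p) {x : G} (hx : orderOf x = p) (hxK : x ∈ K) :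
    normalizer (zpowers x : Set G) ≤ K := by
  have c := (Nat.card_zpowers x).trans hx
  have le := zpowers_le.2 hxK
  obtain ⟨a, b⟩ := card_norm hc hm h c
  obtain ⟨-, d⟩ := card_norm hK hl ⟨⟨x, hxK⟩, (orderOf_mk ..).trans hx, fun z hz => by
    obtain ⟨k, hk⟩ := a.le (show z.1 ∈ centralizer (zpowers x : Set G) by
      rintro _ ⟨k, rfl⟩; exact (Commute.zpow_right (congrArg Subtype.val hz) k).eq.symm)
    exact ⟨k, Subtype.ext hk⟩⟩ (X := (zpowers x).subgroupOf K)
    ((Nat.card_congr (subgroupOfEquivOfLe le).toEquiv).trans c)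
  rw [← subgroupOf_normalizer_eq le, Golay.card_subgroupOf, ← e, ← b] at d
  exact (eq_of_le_of_card_ge inf_le_right d.ge).ge.trans inf_le_left

theorem hom_of_rel {A B : Type*} [Group A] [Group B] (R : Subgroup (A × B)) (h1 : ∀ b, (1, b) ∈ R → b = 1)
    (h2 : ∀ a, (a, 1) ∈ R → a = 1) (h3 : ∀ a, ∃ b, (a, b) ∈ R) :
    ∃ f : A →* B, Function.Injective f ∧ ∀ a, (a, f a) ∈ R := by
  choose f hf using h3
  have u : ∀ a b, (a, b) ∈ R → f a = b := fun a b h => mul_inv_eq_one.1 (h1 _ (by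
    simpa using mul_mem (hf a) (inv_mem h)))
  exact ⟨MonoidHom.mk' f fun a b => u _ _ (mul_mem (hf a) (hf b)), (injective_iff_map_eq_one _).2 fun a ha =>
    h2 a ((show f a = 1 from ha) ▸ hf a), hf⟩

theorem conj_fix {H : Subgroup (Equiv.Perm ℕ)} [Finite H] {K : Subgroup H} {b a n : ℕ}
    (h1 : ∀ g ∈ H, a ≤ g b ∧ g b < a + n) (h2 : ∀ p, a ≤ p → p < a + n → ∃ g ∈ H, g b = p) (hK : K.index = n)
    (hp : ∀ k ∈ K, k.1 b = b) (h : H) : h ∈ K ↔ h.1 b = b := by
  have e : orbit H b = Set.Ico a (a + n) := Set.ext fun q => ⟨by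
    rintro ⟨k, rfl⟩; exact h1 _ k.2, fun hq => by
    obtain ⟨k, hk, rfl⟩ := h2 q hq.1 hq.2
    exact ⟨⟨k, hk⟩, rfl⟩⟩
  have l : K ≤ stabilizer H b := hp
  have i := relIndex_mul_index l
  rw [index_stabilizer, e, Set.ncard_Ico_nat, Nat.add_sub_cancel_left, hK] at i
  have n0 : 0 < n := by have := h1 1 (one_mem _); omega
  rw [← le_antisymm (relIndex_eq_one.1 (Nat.eq_of_mul_eq_mul_right n0 (i.trans (one_mul n).symm))) l]
  rfl

theorem exists_orb' {H : Subgroup (Equiv.Perm ℕ)} {G Ω : Type*} [Group G] [MulAction G Ω] (φ : H →* G) {y : Ω} {b : ℕ}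
    (hy : ∀ h : H, h.1 b = b → φ h • y = y) : ∃ r : ℕ → Ω, ∀ h : H, r (h.1 b) = φ h • y := by
  classical
  refine ⟨fun p => if h : ∃ g : H, g.1 b = p then φ h.choose • y else y, fun h => ?_⟩
  have e : ∃ g : H, g.1 b = h.1 b := ⟨h, rfl⟩
  simp only [dif_pos e]
  rw [← inv_smul_eq_iff, ← mul_smul, ← map_inv, ← map_mul]
  exact hy _ (Equiv.Perm.inv_eq_iff_eq.2 e.choose_spec)

end Cfsg.Lib.Rfn
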