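import Cfsg.Agent.Lib.Comp.Sym

/-!
# Double coset enumeration: closing the enumeration
-/

namespace Cfsg.Lib.Comp

universe u

/-- Number of bits below `2 ^ k`. -/
noncomputable def pcT (k : ℕ) : ℕ → ℕ :=
  Nat.rec (motive := fun _ => ℕ → ℕ) (fun D => Nat.land D 1) (fun k ih D => cnd (Nat.beq D 0) 0
    (force (Nat.shiftLeft 1 k) fun h => force (Nat.land D (ones h)) fun a => force (Nat.shiftRight D h) fun b =>
      force (ih a) fun c => force (ih b) fun d => Nat.add c d)) k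

theorem pcT_le (k D : ℕ) : pcT k D ≤ ((Finset.range (2 ^ k)).filter fun i => D.testBit i = true).card := by
  induction k generalizing D with
  | zero =>
    change D &&& 1 ≤ _
    rw [Nat.and_one_is_mod, pow_zero, Finset.range_one, Finset.filter_singleton, Nat.testBit_zero]
    split_ifs with h
    · simp; omega
    · simp at h ⊢; omega
  | succ k ih =>
    have e : pcT (k + 1) D = cnd (Nat.beq D 0) 0 (force (Nat.shiftLeft 1 k) fun h => force (Nat.land D (ones h))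
      fun a => force (Nat.shiftRight D h) fun b => force (pcT k a) fun c => force (pcT k b) fun d => Nat.add c d) := rfl
    rw [e, cnd_eq]
    split_ifs
    · exact Nat.zero_le _
    · simp only [force_eq, shl_eq, Nat.one_shiftLeft]
      rw [pow_succ, mul_two, Finset.range_add, Finset.filter_union, Finset.card_union_of_disjoint]
      · refine Nat.add_le_add ((ih _).trans (Finset.card_le_card fun i hi => ?_)) ((ih _).trans ?_)
        · simp only [Finset.mem_filter, land_eq', Nat.testBit_and, Bool.and_eq_true] at hi ⊢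
          exact ⟨hi.1, hi.2.1⟩
        · rw [Finset.filter_map, Finset.card_map]
          refine Finset.card_le_card fun i hi => ?_
          simpa [shr_eq, Nat.testBit_shiftRight] using hi
      · refine Finset.disjoint_filter_filter (Finset.disjoint_left.2 fun a h1 h2 => ?_)
        simp only [Finset.mem_range, Finset.mem_map, addLeftEmbedding_apply] at h1 h2
        omega

/-- Orbit closure under words. -/
noncomputable def orbW (nets : List Net) (W : ℕ → List ℕ) (ops : List ℕ) : ℕ → ℕ :=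
  List.rec (motive := fun _ => ℕ → ℕ) (fun D => D) (fun j _ ih D => force (Nat.lor D (wimg nets (W j) D)) ih) ops

theorem orbW_sound {N : ℕ} {nets : List Net} (hN : NetsOK N nets) {H : Subgroup (Equiv.Perm ℕ)} {W : ℕ → List ℕ}
    {ops : List ℕ} (h : ∀ j ∈ ops, ev (gp nets) (W j) ∈ H) (D p : ℕ) (hp : (orbW nets W ops D).testBit p = true) :
    ∃ a ∈ H, ∃ q, D.testBit q = true ∧ a q = p := by
  induction ops generalizing D with
  | nil => exact ⟨1, H.one_mem, p, hp, rfl⟩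
  | cons j t ih =>
    replace hp : (orbW nets W t (Nat.lor D (wimg nets (W j) D))).testBit p = true := by
      rw [← hp]; congr 1
    obtain ⟨a, ha, q, hq, e⟩ := ih (fun i hi => h i (by simp [hi])) _ hp
    rw [lor_eq', Nat.testBit_or, Bool.or_eq_true, testBit_wimg hN] at hq
    rcases hq with hq | hq
    · exact ⟨a, ha, q, hq, e⟩
    · exact ⟨a * ev (gp nets) (W j), H.mul_mem ha (h j (by simp)), _, hq, by rw [Equiv.Perm.mul_apply, app_inv, e]⟩

theorem card_stepS {G H : Subgroup (Equiv.Perm ℕ)} [Finite G] (hle : H ≤ G) {b : ℕ} (S : Finset ℕ)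
    (hfix : ∀ s ∈ H, s b = b) (horb : ∀ p ∈ S, ∃ s ∈ G, s b = p) : S.card * Nat.card H ≤ Nat.card G := by
  choose! t ht using horb
  let F : S × H → G := fun z => ⟨t z.1 * z.2, G.mul_mem (ht _ z.1.2).1 (hle z.2.2)⟩
  have hF : Function.Injective F := by
    rintro ⟨i, x⟩ ⟨j, y⟩ hab
    have e : t i * x.1 = t j * y.1 := congrArg Subtype.val hab
    have e1 := congrArg (fun s : Equiv.Perm ℕ => s b) e
    simp only [Equiv.Perm.mul_apply, hfix _ x.2, hfix _ y.2, (ht _ i.2).2, (ht _ j.2).2] at e1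
    have e2 : i = j := Subtype.ext e1
    subst e2
    rw [Subtype.ext (mul_left_cancel e)]
  simpa using Nat.card_le_card_of_injective F hF

theorem orbW_pt {N : ℕ} {nets : List Net} (hN : NetsOK N nets) {H : Subgroup (Equiv.Perm ℕ)} {W : ℕ → List ℕ}
    {ops : List ℕ} (h : ∀ j ∈ ops, ev (gp nets) (W j) ∈ H) {b p : ℕ}
    (hp : (orbW nets W ops (Nat.shiftLeft 1 b)).testBit p = true) : ∃ a ∈ H, a b = p := by
  obtain ⟨a, ha, q, hq, e⟩ := orbW_sound hN h _ _ hp
  rw [shl_eq, Nat.one_shiftLeft, Nat.testBit_two_pow, decide_eq_true_eq] at hq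
  exact ⟨a, ha, hq ▸ e⟩

/-- A stabiliser chain of subgroups generated by words; levels `(I', ops, b, cnt)`. -/
noncomputable def chainW (nets : List Net) (tb : ℕ → ℕ → ℕ) (W : ℕ → List ℕ) (k : ℕ)
    (C : List (List ℕ × List ℕ × ℕ × ℕ)) : List ℕ → ℕ :=
  List.rec (motive := fun _ => List ℕ → ℕ) (fun _ => 1) (fun v _ ih I =>
    cnd (subB v.1 I) (cnd (subB v.2.1 I) (cnd (allL v.1 fun j => Nat.beq (wap tb (W j) v.2.2.1) v.2.2.1)
      (cnd (Nat.ble v.2.2.2 (pcT k (orbW nets W v.2.1 (Nat.shiftLeft 1 v.2.2.1)))) (Nat.mul v.2.2.2 (ih v.1)) 0) 0) 0) 0) C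

theorem fix_of_words {nets : List Net} {tb : ℕ → ℕ → ℕ} (ht : TbA nets tb) {W : ℕ → List ℕ} {I : List ℕ} {b : ℕ}
    (h : allL I (fun j => Nat.beq (wap tb (W j) b) b) = true) :
    ∀ s ∈ cl (fun j => ev (gp nets) (W j)) I, s b = b := by
  have : cl (fun j => ev (gp nets) (W j)) I ≤ MulAction.stabilizer (Equiv.Perm ℕ) b := cl_le.2 fun j hj => by
    have := beq_tt.1 (allL_iff.1 h j hj)
    rw [wap_eq ht] at this
    exact (Subgroup.inv_mem_iff _).1 this
  exact fun s hs => this hs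

theorem chainW_le {N : ℕ} {nets : List Net} (hN : NetsOK N nets) {tb : ℕ → ℕ → ℕ} (ht : TbA nets tb)
    (W : ℕ → List ℕ) (k : ℕ) (C : List (List ℕ × List ℕ × ℕ × ℕ)) (I : List ℕ) :
    chainW nets tb W k C I ≤ Nat.card (cl (fun j => ev (gp nets) (W j)) I) := by
  have hf : ∀ I, Finite (cl (fun j => ev (gp nets) (W j)) I) := fun I =>
    finite_of_fx (N := N) fun a ha => fx_of_mem_cl (fun j => fx_ev hN.fx _) ha
  induction C generalizing I with
  | nil => have := hf I; exact Nat.card_pos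
  | cons v t ih =>
    have e : chainW nets tb W k (v :: t) I = cnd (subB v.1 I) (cnd (subB v.2.1 I)
      (cnd (allL v.1 fun j => Nat.beq (wap tb (W j) v.2.2.1) v.2.2.1)
      (cnd (Nat.ble v.2.2.2 (pcT k (orbW nets W v.2.1 (Nat.shiftLeft 1 v.2.2.1))))
        (Nat.mul v.2.2.2 (chainW nets tb W k t v.1)) 0) 0) 0) 0 := rfl
    rw [e]
    simp only [cnd_eq]
    split_ifs with h1 h2 h3 h4
    any_goals exact Nat.zero_le _
    have := hf I
    refine (Nat.mul_le_mul ((ble_tt.1 h4).trans (pcT_le _ _)) (ih _)).trans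
      (card_stepS (cl_mono (sub_of_subB h1)) _ (fix_of_words ht h3) fun p hp => ?_)
    exact orbW_pt hN (fun j hj => mem_cl (γ := fun j => ev (gp nets) (W j)) (sub_of_subB h2 j hj))
      (Finset.mem_filter.1 hp).2

section
variable {N : ℕ} {nets : List Net} {tb : ℕ → ℕ → ℕ} {B L : List ℕ} {iv : ℕ → ℕ} {G : Subgroup (Equiv.Perm ℕ)}
  {X : Type*} [MulAction G X] {x : ℕ → X} {τ : X → X} {F : ℕ → SF} {nf : ℕ} {L0 : List ℕ} {al : ℕ → ℕ}

theorem Semi.elt (C : Ctl nets tb B L iv G) (hS : Semi nets G τ L0 al) (hL0 : ∀ a ∈ L0, a ∈ L) {h : G}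
    (hh : (h : Equiv.Perm ℕ) ∈ cl (gp nets) L0) : ∃ h' : G, ∀ y : X, τ (h⁻¹ • y) = h'⁻¹ • τ y := by
  rw [← map_cl_sval fun a ha => C.hL a (hL0 a ha)] at hh
  obtain ⟨h1, h2, e⟩ := hh
  obtain rfl : h1 = h := Subtype.ext e
  clear e
  induction h2 using Subgroup.closure_induction with
  | mem y hy =>
    obtain ⟨a, ha, rfl⟩ := hy
    refine ⟨evG nets G [al a], fun y => ?_⟩
    have := hS a ha y
    unfold ra evG at this
    rwa [ev_single] at this
  | one => exact ⟨1, by simp⟩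
  | mul a b _ _ h1 h2 =>
    obtain ⟨a', h1⟩ := h1
    obtain ⟨b', h2⟩ := h2
    exact ⟨a' * b', fun y => by rw [mul_inv_rev, mul_smul, h2, h1, mul_inv_rev, mul_smul]⟩
  | inv a _ h1 =>
    obtain ⟨a', h1⟩ := h1
    exact ⟨a'⁻¹, fun y => by rw [inv_inv, inv_inv, ← smul_inv_smul a' (τ (a • y)), ← h1, inv_smul_smul]⟩

/-- The facts `I` are stabiliser facts of the node `k`. -/
noncomputable def genB (F : ℕ → SF) (nf k : ℕ) (I : List ℕ) : Bool :=
  allL I fun j => cnd (Nat.ble (Nat.succ j) nf) (cnd (Nat.beq (F j).1 k) (cnd (Nat.beq (F j).2.1 k)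
    (Nat.beq (F j).2.2.1 0) false) false) false

theorem gen_le (C : Ctl nets tb B L iv G) (hF : ∀ j < nf, (F j).ok nets G L x τ) {k : ℕ} {I : List ℕ}
    (h : genB F nf k I = true) :
    cl (fun j => ev (gp nets) (F j).2.2.2.2) I ≤ (MulAction.stabilizer G (x k)).map G.subtype := by
  refine cl_le.2 fun j hj => ?_
  have h1 := allL_iff.1 h j hj
  simp only [cnd_tt, ble_tt, beq_tt] at h1
  obtain ⟨a1, a2⟩ := hF j h1.1
  rw [if_pos h1.2.2.2, h1.2.1, h1.2.2.1] at a2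
  exact ⟨evG nets G (F j).2.2.2.2, (Subgroup.inv_mem_iff _).1 a2.symm, C.coe a1⟩

/-- Data of a node: `(k, I, ops, edges (f, p), chain, m)`. -/
abbrev SN := ℕ × List ℕ × List ℕ × List (ℕ × ℕ) × List (List ℕ × List ℕ × ℕ × ℕ) × ℕ

/-- The edges `(f, p)` start at the node `k`, end in `K`, and belong to the point `p`. -/
noncomputable def edgB (tb : ℕ → ℕ → ℕ) (L : List ℕ) (F : ℕ → SF) (nf k : ℕ) (K : List ℕ) (E : List (ℕ × ℕ)) : Bool :=
  allL E fun e => cnd (Nat.ble (Nat.succ e.1) nf) (cnd (Nat.beq (F e.1).1 k) (cnd (Nat.beq (F e.1).2.2.1 1)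
    (cnd (subB [(F e.1).2.1] K) (cnd (subB (F e.1).2.2.2.1 L) (Nat.beq (wap tb (F e.1).2.2.2.1 e.2) 0)
      false) false) false) false) false

noncomputable def nodeB (nets : List Net) (tb : ℕ → ℕ → ℕ) (L : List ℕ) (F : ℕ → SF) (nf n kk o : ℕ) (K : List ℕ)
    (v : SN) : Bool :=
  cnd (genB F nf v.1 v.2.1) (cnd (subB v.2.2.1 v.2.1) (cnd (edgB tb L F nf v.1 K v.2.2.2.1)
    (cnd (Nat.beq (Nat.land (orbW nets (fun j => (F j).2.2.2.2) v.2.2.1 (msk (mapL (·.2) v.2.2.2.1))) (itv 0 n)) (itv 0 n))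
      (Nat.ble o (Nat.mul v.2.2.2.2.2 (chainW nets tb (fun j => (F j).2.2.2.2) kk v.2.2.2.2.1 v.2.1))) false) false) false)
    false

theorem node_closed (hN : NetsOK N nets) (C : Ctl nets tb B L iv G) (hS : Semi nets G τ L0 al)
    (hL0 : ∀ a ∈ L0, a ∈ L) {n : ℕ} (hn : ∀ g ∈ G, g 0 < n) (h0 : ∀ g ∈ G, g 0 = 0 → g ∈ cl (gp nets) L0)
    (hF : ∀ j < nf, (F j).ok nets G L x τ) {kk o : ℕ} {K : List ℕ} {v : SN}
    (h : nodeB nets tb L F nf n kk o K v = true) (g : G) : ∃ k ∈ K, ∃ g' : G, τ (g • x v.1) = g' • x k := by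
  unfold nodeB at h
  simp only [cnd_tt] at h
  obtain ⟨h1, h2, h3, h4, -⟩ := h
  have h5 := congrArg (fun a => Nat.testBit a ((g⁻¹ : G) • 0)) (beq_tt.1 h4)
  have h6 : (g⁻¹ : G) • 0 < n := hn _ (g⁻¹).2
  simp only [land_eq', Nat.testBit_and, testBit_itv, Nat.zero_le, zero_add, h6, and_self, decide_true,
    Bool.and_true] at h5
  obtain ⟨m, hm, p, hp, e⟩ := orbW_sound hN (H := (MulAction.stabilizer G (x v.1)).map G.subtype)
    (fun j hj => gen_le C hF h1 (mem_cl (γ := fun j => ev (gp nets) (F j).2.2.2.2) (sub_of_subB h2 j hj))) _ _ h5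
  obtain ⟨m, hm, rfl⟩ := hm
  rw [testBit_msk, mapL_eq] at hp
  obtain ⟨e1, he, rfl⟩ := List.mem_map.1 hp
  have h7 := allL_iff.1 h3 e1 he
  simp only [cnd_tt, ble_tt, beq_tt] at h7
  obtain ⟨a1, a2, a3, a4, a5, a6⟩ := h7
  have a7 := (hF _ a1).2
  rw [if_neg (by omega), a2] at a7
  rw [wap_eq C.ht, ← C.coe (sub_of_subB a5)] at a6
  obtain ⟨h', hh⟩ := hS.elt C hL0 (h := (evG nets G (F e1.1).2.2.2.1)⁻¹ * m⁻¹ * g⁻¹) (h0 _ (Subtype.prop _) (by
    have e2 : ((g⁻¹ : G) : Equiv.Perm ℕ) 0 = (m : Equiv.Perm ℕ) e1.2 := e.symm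
    simp only [Subgroup.coe_mul, Equiv.Perm.mul_apply, e2]
    rw [Subgroup.coe_inv, Subgroup.coe_inv, inv_app, a6]))
  refine ⟨_, sub_of_subB a4 _ (List.mem_singleton_self _), h'⁻¹ * (evG nets G (F e1.1).2.2.2.2)⁻¹, ?_⟩
  rw [mul_smul]
  change _ = h'⁻¹ • ra nets G _ _
  rw [← a7, ← hh]
  unfold ra
  rw [← mul_smul]
  have e3 : ((evG nets G (F e1.1).2.2.2.1)⁻¹ * m⁻¹ * g⁻¹)⁻¹ * (evG nets G (F e1.1).2.2.2.1)⁻¹ = g * m := by group
  rw [e3, mul_smul, MulAction.mem_stabilizer_iff.1 hm]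

theorem node_card (hN : NetsOK N nets) (C : Ctl nets tb B L iv G) [Finite G]
    (hF : ∀ j < nf, (F j).ok nets G L x τ) {n kk o : ℕ} (ho : Nat.card G ≤ o) {K : List ℕ} {v : SN}
    (h : nodeB nets tb L F nf n kk o K v = true) : (MulAction.orbit G (x v.1)).ncard ≤ v.2.2.2.2.2 := by
  unfold nodeB at h
  simp only [cnd_tt] at h
  obtain ⟨h1, -, -, -, h4⟩ := h
  have : Finite ((MulAction.stabilizer G (x v.1)).map G.subtype) :=
    Finite.of_equiv _ ((MulAction.stabilizer G (x v.1)).equivMapOfInjective _ G.subtype_injective).toEquiv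
  have h2 := (chainW_le hN C.ht (fun j => (F j).2.2.2.2) kk v.2.2.2.2.1 v.2.1).trans
    (Subgroup.card_le_of_le (gen_le C hF h1))
  rw [Subgroup.card_map_of_injective G.subtype_injective] at h2
  have h3 := (MulAction.stabilizer G (x v.1)).index_mul_card
  rw [MulAction.index_stabilizer] at h3
  have h5 : 0 < Nat.card (MulAction.stabilizer G (x v.1)) := Nat.card_pos
  refine Nat.le_of_mul_le_mul_right ?_ h5
  rw [h3]
  exact ho.trans ((ble_tt.1 h4).trans (Nat.mul_le_mul_left _ h2))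

/-- The union of the orbits of the nodes. -/
def uni (G : Subgroup (Equiv.Perm ℕ)) {X : Type*} [MulAction G X] (x : ℕ → X) (K : List ℕ) : Set X :=
  {y | ∃ k ∈ K, y ∈ MulAction.orbit G (x k)}

theorem uni_card [Finite G] {V : List SN} (h : ∀ v ∈ V, (MulAction.orbit G (x v.1)).ncard ≤ v.2.2.2.2.2) :
    (uni G x (V.map (·.1))).Finite ∧ (uni G x (V.map (·.1))).ncard ≤ (V.map (·.2.2.2.2.2)).sum := by
  induction V with
  | nil => simp [uni]
  | cons v t ih =>
    have e : uni G x ((v :: t).map (·.1)) = MulAction.orbit G (x v.1) ∪ uni G x (t.map (·.1)) := by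
      ext y; simp [uni]
    obtain ⟨h1, h2⟩ := ih fun w hw => h w (by simp [hw])
    rw [e]
    exact ⟨(Set.finite_range _).union h1, (Set.ncard_union_le _ _).trans (by
      rw [List.map_cons, List.sum_cons]; exact Nat.add_le_add (h v (by simp)) h2)⟩

/-- Semilinearity from programs `(1, w, [u])` and from products of earlier letters. -/
noncomputable def semiB (tb : ℕ → ℕ → ℕ) (B L : List ℕ) (al : ℕ → ℕ) (PR : List (ℕ × List ℕ × List (List ℕ)))
    (D : List (ℕ × ℕ × List ℕ)) : Bool :=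
  List.rec (motive := fun _ => Bool) true (fun d t ih => cnd ih (cnd (Nat.beq d.2.1 0)
    (cnd (subB d.2.2 (mapL (·.1) t)) (cnd (eqW tb B L [d.1] d.2.2) (eqW tb B L [al d.1] (mapL al d.2.2)) false) false)
    (cnd (decide (nth (0, [], []) PR d.2.1 = (1, (nth (0, [], []) PR d.2.1).2.1, [d.2.2])))
      (cnd (eqW tb B L [d.1] (nth (0, [], []) PR d.2.1).2.1) (eqW tb B L (apd d.2.2 [al d.1]) []) false) false)) false) D

theorem semi_of_semiB (C : Ctl nets tb B L iv G) {PR : List (ℕ × List ℕ × List (List ℕ))} (hP : ProgOK nets G τ PR)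
    {D : List (ℕ × ℕ × List ℕ)} (h : semiB tb B L al PR D = true) :
    Semi nets G τ (mapL (·.1) D) al ∧ ∀ a ∈ mapL (·.1) D, a ∈ L := by
  induction D with
  | nil => exact ⟨fun a ha => by simp [mapL_eq] at ha, fun a ha => by simp [mapL_eq] at ha⟩
  | cons d t ih =>
    change cnd _ _ _ = true at h
    rw [cnd_tt, cnd_eq] at h
    obtain ⟨h1, h2⟩ := ih h.1
    have h3 : (∀ y : X, τ (ra nets G y [d.1]) = ra nets G (τ y) [al d.1]) ∧ d.1 ∈ L := by
      have h4 := h.2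
      split_ifs at h4
      · simp only [cnd_tt] at h4
        exact ⟨fun y => by rw [C.ra_eq h4.2.1, C.ra_eq h4.2.2, h1.word (sub_of_subB h4.1)],
          (C.sub h4.2.1).1 _ (by simp)⟩
      · simp only [cnd_tt, decide_eq_true_eq] at h4
        refine ⟨fun y => ?_, (C.sub h4.2.1).1 _ (by simp)⟩
        rcases nth_mem ((0, [], []) : ℕ × List ℕ × List (List ℕ)) PR d.2.1 with e | e
        · rw [e] at h4; simp at h4
        · have h5 := hP _ e y
          rw [h4.1] at h5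
          rw [C.ra_eq h4.2.1, ← ra_nil (nets := nets) (G := G) (τ _), ← C.ra_eq h4.2.2, ra_apd]
          exact congrArg (fun z => ra nets G z [al d.1]) h5
    constructor <;> intro a ha <;> rcases List.mem_cons.1 ha with rfl | ha
    exacts [h3.1, h1 a ha, h3.2, h2 a ha]

end

/-- Elements mapping a finite set into itself. -/
def setStab (Γ : Type*) [Group Γ] {X : Type*} [MulAction Γ X] (U : Set X) (hU : U.Finite) : Subgroup Γ where
  carrier := {a | ∀ y ∈ U, a • y ∈ U}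
  one_mem' := by simp
  mul_mem' := fun ha hb y hy => by rw [mul_smul]; exact ha _ (hb y hy)
  inv_mem' := fun {a} ha y hy => by
    have := (hU.injOn_iff_bijOn_of_mapsTo (f := fun y => a • y) ha).1 (MulAction.injective a).injOn
    obtain ⟨z, hz, e⟩ := this.surjOn hy
    rw [← e]; simpa using hz

theorem enum_of_ncard {X : Type*} {U : Set X} (hU : U.Finite) {n : ℕ} (h : U.ncard ≤ n) (x0 : X) :
    ∃ c : ℕ → X, ∀ y ∈ U, ∃ q < n, y = c q := by
  refine ⟨fun q => hU.toFinset.toList.getD q x0, fun y hy => ?_⟩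
  obtain ⟨q, hq, e⟩ := List.getElem_of_mem (Finset.mem_toList.2 (hU.mem_toFinset.2 hy))
  refine ⟨q, ?_, ((List.getD_eq_getElem _ _ hq).trans e).symm⟩
  rw [Finset.length_toList, ← Set.ncard_eq_toFinset_card U hU] at hq
  omega

/-- The word of a program. -/
def progW (t ti : ℕ) (p : ℕ × List ℕ × List (List ℕ)) : List ℕ :=
  p.2.1 ++ p.2.2.flatMap (t :: ·) ++ if p.1 = 0 then [] else [ti]

/-- Axioms: generators of the subgroup and definitions of the nodes. -/
def AxOK (W : List (List ℕ)) (PA : List (List (List ℕ))) (F : ℕ → SF) (LN L : List ℕ) (na : ℕ) : Prop :=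
  nth [] PA 0 = [] ∧ ∀ j < na, if (F j).2.2.1 = 0 then (F j).1 = 0 ∧ (F j).2.1 = 0 ∧ (F j).2.2.2.2 ∈ W ∧
      ∀ a ∈ (F j).2.2.2.2, a ∈ LN ∧ a ∈ L
    else (F j).2.2.2.2 = [] ∧ nth [] PA (F j).2.1 = nth [] PA (F j).1 ++ [(F j).2.2.2.1]

noncomputable instance (W : List (List ℕ)) (PA : List (List (List ℕ))) (F : ℕ → SF) (LN L : List ℕ) (na : ℕ) :
    Decidable (AxOK W PA F LN L na) := by unfold AxOK; infer_instance

/-- Static conditions on the programs and letters. -/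
def PrOK (iv' : ℕ → ℕ) (t : ℕ) (LN LΓ j1 j2 : List ℕ) (PR : List (ℕ × List ℕ × List (List ℕ))) (GW : List (List ℕ)) :
    Prop :=
  t < 64 ∧ (0, [], [j1, j2]) ∈ PR ∧ (∀ a ∈ LΓ, a ∈ LN ∨ a = t ∨ a = iv' t) ∧
    ∀ p ∈ PR, progW t (iv' t) p ∈ GW ∧ (∀ a ∈ p.2.1, a ∈ LN) ∧ ∀ s ∈ p.2.2, ∀ a ∈ s, a ∈ LN

instance (iv' : ℕ → ℕ) (t : ℕ) (LN LΓ j1 j2 : List ℕ) (PR : List (ℕ × List ℕ × List (List ℕ))) (GW : List (List ℕ)) :
    Decidable (PrOK iv' t LN LΓ j1 j2 PR GW) := by unfold PrOK; infer_instance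

/-- The index bound from a closed double coset enumeration. -/
theorem sym_idx {N : ℕ} {nets : List Net} (hN : NetsOK N nets) {tb : ℕ → ℕ → ℕ} {B L LN : List ℕ} {iv iv' : ℕ → ℕ}
    (C : Ctl nets tb B L iv (cl (gp nets) LN)) {R RN : List (List ℕ × ℕ)} {o : ℕ} (hO : Ord.{u} iv' RN LN o)
    (hc : Cons.{u} iv' R RN) (h1 : IvOK (gp nets) iv') (h2 : Rels (gp nets) RN) (ho : Nat.card (cl (gp nets) LN) = o)
    {t : ℕ} {LΓ j1 j2 : List ℕ} {PR : List (ℕ × List ℕ × List (List ℕ))} {GW : List (List ℕ)}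
    (hM : Mem.{u} iv' R [] GW) (hP : PrOK iv' t LN LΓ j1 j2 PR GW) {al : ℕ → ℕ} {D0 : List (ℕ × ℕ × List ℕ)}
    (hS : semiB tb B L al PR D0 = true) {n : ℕ} (hn : ∀ g ∈ cl (gp nets) LN, g 0 < n)
    (h0 : ∀ g ∈ cl (gp nets) LN, g 0 = 0 → g ∈ cl (gp nets) (mapL (·.1) D0))
    {W : List (List ℕ)} {PA : List (List (List ℕ))} {F : ℕ → SF} {na nf : ℕ} (hA : AxOK W PA F LN L na) {D : ℕ → SD}
    (hD : ∀ j, na ≤ j → j < nf → der tb B L iv (mapL (·.1) D0) al j1 j2 PR F (D j) j = true)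
    {kk : ℕ} {V : List SN} (hV : allL V (nodeB nets tb L F nf n kk o (mapL (·.1) V)) = true)
    (hV0 : 0 ∈ mapL (·.1) V) : Idx.{u} iv' R W LΓ (V.map (·.2.2.2.2.2)).sum := by
  intro Γ _ γ H g1 g2 hW
  obtain ⟨φ, hφ⟩ := hom_of_ord.{0, u} hO h1 h2 g1 (hc Γ γ g1 g2) ho.ge
  have := hN.finite LN
  letI : MulAction (cl (gp nets) LN) (Γ ⧸ H) := MulAction.compHom _ φ
  have hs : ∀ (g : cl (gp nets) LN) (y : Γ ⧸ H), g • y = φ g • y := fun _ _ => rfl
  have hr : ∀ w : List ℕ, (∀ a ∈ w, a ∈ LN) → ∀ y : Γ ⧸ H, ra nets (cl (gp nets) LN) y w = (ev γ w)⁻¹ • y := by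
    intro w hw y
    rw [← hφ w hw, ← map_inv]
    exact congrArg (fun g => φ g⁻¹ • y) (Subtype.ext (coe_ev_sval fun a ha => mem_cl (hw a ha)))
  set τ : Γ ⧸ H → Γ ⧸ H := fun y => (γ t)⁻¹ • y with hτ
  have hrun : ∀ S : List (List ℕ), (∀ s ∈ S, ∀ a ∈ s, a ∈ LN) → ∀ y,
      srun nets (cl (gp nets) LN) τ S y = (ev γ (S.flatMap (t :: ·)))⁻¹ • y := by
    intro S hS
    induction S with
    | nil => intro y; simp [srun, ev_nil]
    | cons s S ih =>
      intro y
      change srun nets _ τ S (ra nets _ (τ y) s) = _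
      rw [ih fun s hs => hS s (by simp [hs]), hr s (hS s (by simp)), List.flatMap_cons, ev_append, ev_cons]
      simp [hτ, mul_smul]
  have hPO : ProgOK nets (cl (gp nets) LN) τ PR := by
    intro p hp y
    obtain ⟨a1, a2, a3⟩ := hP.2.2.2 p hp
    have a4 := Subgroup.mem_bot.1 (hM Γ γ ⊥ g1 g2 (by simp) _ a1)
    rw [hrun _ a3, hr _ a2, ← mul_smul, ← mul_inv_rev, ← ev_append]
    unfold progW at a4
    split_ifs at a4 ⊢
    · rw [List.append_nil] at a4; rw [a4, inv_one, one_smul]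
    · rw [ev_append, ev_single, (g1.2 t hP.1).2, mul_inv_eq_one] at a4; rw [a4]
  obtain ⟨s1, s2⟩ := semi_of_semiB C hPO hS
  set x : ℕ → Γ ⧸ H := fun k => (nth [] PA k).foldl (fun y s => τ (ra nets (cl (gp nets) LN) y s)) ((1 : Γ) : Γ ⧸ H)
    with hx
  have x0 : x 0 = ((1 : Γ) : Γ ⧸ H) := by simp only [hx, hA.1, List.foldl_nil]
  have hF : ∀ j < nf, (F j).ok nets (cl (gp nets) LN) L x τ := by
    refine facts_ok C s1 (fun y => ?_) hPO (fun j hj => ?_) hD
    · have := hPO _ hP.2.1 y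
      rwa [ra_nil] at this
    · have a1 := hA.2 j hj
      unfold SF.ok
      split_ifs at a1 ⊢
      · obtain ⟨b1, b2, b3, b4⟩ := a1
        refine ⟨fun a ha => (b4 a ha).2, ?_⟩
        rw [b1, b2, x0, hr _ fun a ha => (b4 a ha).1]
        exact (smul_one_of_mem.2 (H.inv_mem (hW _ b3))).symm
      · rw [a1.1, ra_nil]
        exact ⟨by simp, by simp only [hx, a1.2, List.foldl_append, List.foldl_cons, List.foldl_nil]⟩
  rw [mapL_eq] at hV hV0
  obtain ⟨u1, u2⟩ := uni_card (x := x) fun v hv => node_card hN C hF ho.le (allL_iff.1 hV v hv)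
  obtain ⟨c, hc⟩ := enum_of_ncard u1 u2 (x 0)
  refine ⟨c, fun a ha => hc _ ?_⟩
  have h3 : (γ t)⁻¹ ∈ setStab Γ _ u1 := by
    rintro y ⟨k, hk, g, rfl⟩
    obtain ⟨v, hv, rfl⟩ := List.mem_map.1 hk
    obtain ⟨k', hk', g', e⟩ := node_closed hN C s1 s2 hn h0 hF (allL_iff.1 hV v hv) g
    exact ⟨k', hk', g', e.symm⟩
  have h4 : cl γ LΓ ≤ setStab Γ _ u1 := cl_le.2 fun b hb => by
    rcases hP.2.2.1 b hb with h | h | h
    · rintro y ⟨k, hk, g, rfl⟩
      refine ⟨k, hk, ⟨gp nets b, mem_cl h⟩ * g, ?_⟩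
      have := hφ [b] (by simpa using h)
      simp only [ev_single] at this
      simp only [hs, map_mul, mul_smul, this]
    · rw [h]; exact (Subgroup.inv_mem_iff _).1 h3
    · rw [h, (g1.2 t hP.1).2]; exact h3
  have h5 := h4 ha (x 0) ⟨0, hV0, MulAction.mem_orbit_self _⟩
  rw [x0] at h5
  simpa using h5

end Cfsg.Lib.Comp
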