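import Cfsg.Agent.Lib.Comp.Sym2
import Mathlib.Algebra.Group.Action.Sigma

/-!
# Double coset data define a permutation
-/

namespace Cfsg.Lib.Comp

universe u

/-- An edge `(f, p, ops, ω, stabiliser generators (j, h, E), chain)`. -/
abbrev XE := ℕ × ℕ × List ℕ × ℕ × List (ℕ × List ℕ × List ℕ) × List (List ℕ × List ℕ × ℕ × ℕ)

/-- A node `(I, edges, μ, parent, parent edge, transversal, table)`. -/
abbrev XN := List ℕ × List XE × ℕ × ℕ × ℕ × List (List ℕ) × List (List (ℕ × List ℕ))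

/-- `x_k·u = x_k·w`. -/
noncomputable def memB (tb : ℕ → ℕ → ℕ) (B L : List ℕ) (iv : ℕ → ℕ) (F : ℕ → SF) (lim k : ℕ) (u w E : List ℕ) : Bool :=
  epsU iv F lim E k u fun v g => cnd (Nat.beq v k) (eqW tb B L g w) false

noncomputable def xedge (nets : List Net) (tb : ℕ → ℕ → ℕ) (B L : List ℕ) (iv : ℕ → ℕ) (L0 : List ℕ) (al : ℕ → ℕ)
    (F : ℕ → SF) (nf kk r i : ℕ) (I : List ℕ) (μ roots : ℕ) (e : XE) (D : ℕ) : Bool :=
  cnd (Nat.beq (F e.1).1 i) (cnd (Nat.ble (Nat.succ (F e.1).2.1) r) (cnd (subB (F e.1).2.2.2.1 L)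
  (cnd (subB (F e.1).2.2.2.2 L) (cnd (Nat.beq (wap tb (F e.1).2.2.2.1 e.2.1) 0) (cnd (genB F nf i e.2.2.1)
  (cnd (genB F nf i (mapL (·.1) e.2.2.2.2.1)) (cnd (Nat.ble e.2.2.2.1 (pcT kk D))
  (cnd (allL I fun j => Nat.beq (wimg nets (F j).2.2.2.2 D) D) (cnd (Nat.beq (Nat.land D roots) (Nat.shiftLeft 1 e.2.1))
  (cnd (Nat.ble μ (Nat.mul e.2.2.2.1 (chainW nets tb (fun j => (F j).2.2.2.2) kk e.2.2.2.2.2 (mapL (·.1) e.2.2.2.2.1))))
    (allL e.2.2.2.2.1 fun z => cnd (subB z.2.1 L0)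
      (cnd (eqW tb B L (apd (F z.1).2.2.2.2 (F e.1).2.2.2.1) (apd (F e.1).2.2.2.1 z.2.1))
        (memB tb B L iv F nf (F e.1).2.1 (F e.1).2.2.2.2 (apd (F e.1).2.2.2.2 (mapL al z.2.1)) z.2.2) false) false)
    false) false) false) false) false) false) false) false) false) false) false

/-- The orbit mask of an edge. -/
noncomputable def xD (nets : List Net) (F : ℕ → SF) (e : XE) : ℕ :=
  orbW nets (fun j => (F j).2.2.2.2) e.2.2.1 (Nat.shiftLeft 1 e.2.1)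

noncomputable def xedges (nets : List Net) (F : ℕ → SF) (n : ℕ) (chk : XE → ℕ → Bool) (Es : List XE) : ℕ → Bool :=
  List.rec (motive := fun _ => ℕ → Bool) (fun acc => Nat.beq (Nat.land acc (itv 0 n)) (itv 0 n))
    (fun e _ ih acc => force (xD nets F e) fun D => cnd (chk e D) (force (Nat.lor acc D) ih) false) Es

theorem xedges_sound {nets : List Net} {F : ℕ → SF} {n : ℕ} {chk : XE → ℕ → Bool} {Es : List XE} {acc : ℕ}
    (h : xedges nets F n chk Es acc = true) : (∀ e ∈ Es, chk e (xD nets F e) = true) ∧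
      ∀ q < n, acc.testBit q = true ∨ ∃ e ∈ Es, (xD nets F e).testBit q = true := by
  induction Es generalizing acc with
  | nil =>
    refine ⟨by simp, fun q hq => Or.inl ?_⟩
    have h5 := congrArg (fun a => Nat.testBit a q) (beq_tt.1 h)
    simpa [land_eq', Nat.testBit_and, testBit_itv, hq] using h5
  | cons e t ih =>
    replace h := (force_eq _ _).symm.trans h
    rw [cnd_tt, force_eq] at h
    obtain ⟨h1, h2⟩ := ih h.2
    refine ⟨fun e' he => by rcases List.mem_cons.1 he with rfl | he; exacts [h.1, h1 _ he], fun q hq => ?_⟩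
    rcases h2 q hq with h3 | ⟨e', he, h3⟩
    · rw [lor_eq', Nat.testBit_or, Bool.or_eq_true] at h3
      rcases h3 with h3 | h3
      exacts [Or.inl h3, Or.inr ⟨e, by simp, h3⟩]
    · exact Or.inr ⟨e', by simp [he], h3⟩

/-- Concatenation of the words with the given indices. -/
noncomputable def catW (Z : List (ℕ × List ℕ × List ℕ)) (v : List ℕ) : List ℕ :=
  List.rec (motive := fun _ => List ℕ) [] (fun t _ ih => apd (nth (0, [], []) Z t).2.1 ih) v

/-- Upper bound for the order of the stabiliser of a node. -/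
noncomputable def xpar (tb : ℕ → ℕ → ℕ) (B L : List ℕ) (al : ℕ → ℕ) (F : ℕ → SF) (Nd : ℕ → XN) (k : ℕ) (e : XE) : Bool :=
  cnd (Nat.ble (Nat.succ (Nd k).2.2.2.1) k) (cnd (Nat.ble (Nat.succ (Nd k).2.2.2.2.1) (Nd (Nd k).2.2.2.1).2.1.length)
  (cnd (Nat.beq (F e.1).2.1 k) (cnd (eqW tb B L (apd (F e.1).2.2.2.2 (nth [] (Nd k).2.2.2.2.2.1 0)) [])
  (cnd (Nat.ble 1 (Nd k).2.2.2.2.2.1.length)
  (cnd (Nat.ble (Nat.mul (Nd k).2.2.2.2.2.1.length (Nat.div (Nd (Nd k).2.2.2.1).2.2.1 e.2.2.2.1)) (Nd k).2.2.1)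
    (allN (Nd k).2.2.2.2.2.1.length fun p => allN (Nd k).1.length fun t =>
      cnd (Nat.ble (Nat.succ (nth (0, []) (nth [] (Nd k).2.2.2.2.2.2 p) t).1) (Nd k).2.2.2.2.2.1.length)
        (eqW tb B L (apd (nth [] (Nd k).2.2.2.2.2.1 p) (F (nth 0 (Nd k).1 t)).2.2.2.2)
          (apd (mapL al (catW e.2.2.2.2.1 (nth (0, []) (nth [] (Nd k).2.2.2.2.2.2 p) t).2))
            (nth [] (Nd k).2.2.2.2.2.1 (nth (0, []) (nth [] (Nd k).2.2.2.2.2.2 p) t).1))) false)
    false) false) false) false) false) false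

noncomputable def xnode (nets : List Net) (tb : ℕ → ℕ → ℕ) (B L : List ℕ) (iv : ℕ → ℕ) (L0 : List ℕ) (al : ℕ → ℕ)
    (F : ℕ → SF) (nf kk r n o : ℕ) (Nd : ℕ → XN) (k : ℕ) : Bool :=
  cnd (xedges nets F n (xedge nets tb B L iv L0 al F nf kk r k (Nd k).1 (Nd k).2.2.1 (msk (mapL (·.2.1) (Nd k).2.1)))
      (Nd k).2.1 0) (cnd (decide (mapL (·.2.1) (Nd k).2.1).Nodup)
    (cnd (Nat.beq k 0) (Nat.ble o (Nd k).2.2.1)
      (xpar tb B L al F Nd k (nth (0, 0, [], 0, [], []) (Nd (Nd k).2.2.2.1).2.1 (Nd k).2.2.2.2.1))) false) false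

/-- Static conditions: the first facts are generators of the stabilisers, and the facts in `[nf, ne)` are edges. -/
def XAx (F : ℕ → SF) (L : List ℕ) (na nf ne r : ℕ) (Nd : ℕ → XN) : Prop :=
  (∀ j < na, (F j).1 = (F j).2.1 ∧ (F j).1 < r ∧ j ∈ (Nd (F j).1).1 ∧ j < nf) ∧ (∀ j < nf, (F j).2.2.1 = 0) ∧
  (∀ k < r, ∀ j ∈ (Nd k).1, ∀ a ∈ (F j).2.2.2.2, a ∈ L) ∧
  ∀ j < ne, nf ≤ j → (F j).2.2.1 = 1 ∧ (F j).1 < r ∧ j ∈ (Nd (F j).1).2.1.map (·.1)

instance (F : ℕ → SF) (L : List ℕ) (na nf ne r : ℕ) (Nd : ℕ → XN) : Decidable (XAx F L na nf ne r Nd) := by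
  unfold XAx; infer_instance

section
variable {N : ℕ} {nets : List Net} {tb : ℕ → ℕ → ℕ} {B L : List ℕ} {iv : ℕ → ℕ} {G : Subgroup (Equiv.Perm ℕ)}
  {F : ℕ → SF} {nf : ℕ} {L0 : List ℕ} {al : ℕ → ℕ}

/-- The stabilisers. -/
noncomputable def xM (nets : List Net) (G : Subgroup (Equiv.Perm ℕ)) (F : ℕ → SF) (Nd : ℕ → XN) (k : ℕ) : Subgroup G :=
  cl (fun j => evG nets G (F j).2.2.2.2) (Nd k).1

/-- The points. -/
abbrev xX (nets : List Net) (G : Subgroup (Equiv.Perm ℕ)) (F : ℕ → SF) (Nd : ℕ → XN) (r : ℕ) : Type :=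
  Σ k : Fin r, G ⧸ xM nets G F Nd k

noncomputable def xx (nets : List Net) (G : Subgroup (Equiv.Perm ℕ)) (F : ℕ → SF) (Nd : ℕ → XN) {r : ℕ} (hr : 0 < r)
    (k : ℕ) : xX nets G F Nd r := if h : k < r then ⟨⟨k, h⟩, ((1 : G) : G ⧸ _)⟩ else ⟨⟨0, hr⟩, ((1 : G) : G ⧸ _)⟩

variable {Nd : ℕ → XN} {r : ℕ} {hr : 0 < r}

theorem xx_stab {k : ℕ} (hk : k < r) : MulAction.stabilizer G (xx nets G F Nd hr k) = xM nets G F Nd k := by
  ext g
  unfold xx
  rw [dif_pos hk, MulAction.mem_stabilizer_iff, Sigma.smul_mk, Sigma.mk.inj_iff, heq_eq_eq, smul_one_of_mem]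
  simp

theorem xx_fst {k : ℕ} (hk : k < r) (g : G) : ((g • xx nets G F Nd hr k).1 : ℕ) = k := by
  unfold xx; rw [dif_pos hk, Sigma.smul_mk]

theorem xx_all (y : xX nets G F Nd r) : ∃ k < r, ∃ g : G, y = g • xx nets G F Nd hr k := by
  obtain ⟨⟨k, hk⟩, q⟩ := y
  obtain ⟨g, rfl⟩ := QuotientGroup.mk_surjective q
  refine ⟨k, hk, g, ?_⟩
  unfold xx
  rw [dif_pos hk, Sigma.smul_mk]
  simp

/-- What the check of an edge gives. -/
structure EOK (nets : List Net) (G : Subgroup (Equiv.Perm ℕ)) (L L0 : List ℕ) (F : ℕ → SF) (Nd : ℕ → XN) {r : ℕ}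
    (hr : 0 < r) (ψ : cl (gp nets) L0 →* G) (i : ℕ) (e : XE) : Prop where
  fi : (F e.1).1 = i
  fk : (F e.1).2.1 < r
  fn : ∀ a ∈ (F e.1).2.2.2.2, a ∈ L
  pt : (evG nets G (F e.1).2.2.2.1 : Equiv.Perm ℕ) 0 = e.2.1
  orb : ∀ q, (xD nets F e).testBit q = true → ∃ m ∈ xM nets G F Nd i, (m : Equiv.Perm ℕ) e.2.1 = q
  uniq : ∀ m ∈ xM nets G F Nd i, ∀ e' ∈ (Nd i).2.1, (m : Equiv.Perm ℕ) e.2.1 = e'.2.1 → e'.2.1 = e.2.1
  lb : (Nd i).2.2.1 ≤ Nat.card (xM nets G F Nd i)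
  ub : e.2.2.2.1 * Nat.card (cl (fun t => ev (gp nets) (nth (0, [], []) e.2.2.2.2.1 t).2.1)
    (List.range e.2.2.2.2.1.length)) ≤ Nat.card (xM nets G F Nd i)
  sub : ∀ z ∈ e.2.2.2.2.1, ∀ a ∈ z.2.1, a ∈ L0
  pos : 0 < (Nd i).2.2.1 → 0 < e.2.2.2.1
  wd : Nat.card (xM nets G F Nd i) ≤ (Nd i).2.2.1 → ∀ h : cl (gp nets) L0, ∀ m ∈ xM nets G F Nd i,
    (m : Equiv.Perm ℕ) * evG nets G (F e.1).2.2.2.1 = evG nets G (F e.1).2.2.2.1 * h →
      (ψ h)⁻¹ • ra nets G (xx nets G F Nd hr (F e.1).2.1) (F e.1).2.2.2.2 =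
        ra nets G (xx nets G F Nd hr (F e.1).2.1) (F e.1).2.2.2.2

theorem psi_ev {ψ : cl (gp nets) L0 →* G}
    (hψ : ∀ a (ha : a ∈ L0), ψ ⟨gp nets a, mem_cl ha⟩ = evG nets G [al a]) {w : List ℕ} (hw : ∀ a ∈ w, a ∈ L0) :
    ψ ⟨ev (gp nets) w, ev_mem fun a ha => mem_cl (hw a ha)⟩ = evG nets G (mapL al w) := by
  induction w with
  | nil => exact map_one ψ
  | cons a t ih =>
    have e : evG nets G (mapL al (a :: t)) = evG nets G [al a] * evG nets G (mapL al t) := evG_apd [al a] _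
    rw [e, ← ih fun b hb => hw b (by simp [hb]), ← hψ a (hw a (by simp)), ← map_mul]
    exact congrArg ψ (Subtype.ext (ev_cons _ _ _))

theorem eok (hN : NetsOK N nets) (C : Ctl nets tb B L iv G) [Finite G] (hf0 : ∀ g ∈ cl (gp nets) L0, g 0 = 0)
    (hL0 : ∀ a ∈ L0, a ∈ L) {ψ : cl (gp nets) L0 →* G}
    (hψ : ∀ a (ha : a ∈ L0), ψ ⟨gp nets a, mem_cl ha⟩ = evG nets G [al a])
    (hF : ∀ j < nf, (F j).ok nets G L (xx nets G F Nd hr) id) {kk i : ℕ} (hi : i < r)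
    (hI : ∀ j ∈ (Nd i).1, ∀ a ∈ (F j).2.2.2.2, a ∈ L) {e : XE}
    (h : xedge nets tb B L iv L0 al F nf kk r i (Nd i).1 (Nd i).2.2.1 (msk (mapL (·.2.1) (Nd i).2.1)) e
      (xD nets F e) = true) : EOK nets G L L0 F Nd hr ψ i e := by
  unfold xedge at h
  simp only [cnd_tt, ble_tt, beq_tt] at h
  obtain ⟨a1, a2, a3, a4, a5, a6, a7, a8, a9, a10, a11, a12⟩ := h
  set s := evG nets G (F e.1).2.2.2.1 with hs
  have b1 : (s : Equiv.Perm ℕ) 0 = e.2.1 := by
    rw [wap_eq C.ht, ← C.coe (sub_of_subB a3)] at a5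
    rw [← a5, app_inv]
  set M := (xM nets G F Nd i).map G.subtype with hM
  have cM : Nat.card M = Nat.card (xM nets G F Nd i) := Subgroup.card_map_of_injective G.subtype_injective
  have fM : Finite M := Finite.of_equiv _ ((xM nets G F Nd i).equivMapOfInjective _ G.subtype_injective).toEquiv
  have g1 := gen_le C hF a6
  have g2 := gen_le C hF a7
  rw [xx_stab hi, ← hM] at g1 g2
  have b2 : ∀ q, (xD nets F e).testBit q = true → ∃ m ∈ M, m e.2.1 = q := fun q hq =>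
    orbW_pt hN (fun j hj => g1 (mem_cl (γ := fun j => ev (gp nets) (F j).2.2.2.2) hj)) hq
  have b3 : ∀ z ∈ e.2.2.2.2.1, (∀ a ∈ z.2.1, a ∈ L0) ∧
      ev (gp nets) (F z.1).2.2.2.2 * s = s * ev (gp nets) z.2.1 ∧
      ra nets G (xx nets G F Nd hr (F e.1).2.1) (F e.1).2.2.2.2 =
        ra nets G (ra nets G (xx nets G F Nd hr (F e.1).2.1) (F e.1).2.2.2.2) (mapL al z.2.1) := by
    intro z hz
    have c1 := allL_iff.1 a12 z hz
    simp only [cnd_tt] at c1
    refine ⟨sub_of_subB c1.1, ?_, ?_⟩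
    · have := (eqW_perm C.ht C.hB C.hL c1.2.1).2.2
      rwa [apd_eq, apd_eq, ev_append, ev_append, ← C.coe (sub_of_subB a3)] at this
    · obtain ⟨v, g, c2, c3⟩ := epsU_sound (τ := id) C (fun j hj _ => hF j hj) c1.2.2
      rw [cnd_tt, beq_tt] at c2
      rw [c2.1, C.ra_eq c2.2, ra_apd] at c3
      exact c3
  set S := cl (fun j => ev (gp nets) (F j).2.2.2.2) (mapL (·.1) e.2.2.2.2.1) with hS
  have b4 : S ≤ M ⊓ MulAction.stabilizer _ e.2.1 := le_inf g2 (cl_le.2 fun j hj => by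
    rw [mapL_eq] at hj
    obtain ⟨z, hz, rfl⟩ := List.mem_map.1 hj
    obtain ⟨c1, c2, -⟩ := b3 z hz
    change ev (gp nets) (F z.1).2.2.2.2 e.2.1 = e.2.1
    rw [← b1, ← Equiv.Perm.mul_apply, c2, Equiv.Perm.mul_apply, hf0 _ (ev_mem fun a ha => mem_cl (c1 a ha))])
  have fA : Finite (M ⊓ MulAction.stabilizer (Equiv.Perm ℕ) e.2.1 : Subgroup _) :=
    Finite.of_injective _ (Subgroup.inclusion_injective inf_le_left)
  have b5 : e.2.2.2.1 * Nat.card (M ⊓ MulAction.stabilizer (Equiv.Perm ℕ) e.2.1 : Subgroup _) ≤ Nat.card M :=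
    (Nat.mul_le_mul_right _ (a8.trans (pcT_le _ _))).trans
      (card_stepS inf_le_left _ (fun s hs => hs.2) fun p hp => b2 p (Finset.mem_filter.1 hp).2)
  have b6 := a11.trans (Nat.mul_le_mul_left _ (chainW_le hN C.ht _ _ _ _))
  have b7 := Subgroup.card_le_of_le b4
  refine ⟨a1, a2, sub_of_subB a4, b1, fun q hq => ?_, fun m hm e' he' h1 => ?_, ?_, ?_, fun z hz => (b3 z hz).1,
    fun h0 => Nat.pos_of_ne_zero fun h => by rw [h] at b6; omega, fun hc h m hm h1 => ?_⟩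
  · obtain ⟨_, ⟨m, hm, rfl⟩, h1⟩ := b2 q hq
    exact ⟨m, hm, h1⟩
  · have c1 : ∀ m ∈ xM nets G F Nd i, ∀ p, (xD nets F e).testBit ((m : Equiv.Perm ℕ) p) = (xD nets F e).testBit p := by
      intro m hm
      unfold xM cl at hm
      induction hm using Subgroup.closure_induction with
      | mem y hy =>
        obtain ⟨j, hj, rfl⟩ := hy
        intro p
        have := congrArg (fun a => Nat.testBit a (ev (gp nets) (F j).2.2.2.2 p)) (beq_tt.1 (allL_iff.1 a9 j hj))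
        simp only [testBit_wimg hN, inv_app] at this
        rw [C.coe (hI j hj)]
        exact this.symm
      | one => intro p; rfl
      | mul a b _ _ h1 h2 => intro p; rw [Subgroup.coe_mul, Equiv.Perm.mul_apply, h1, h2]
      | inv a _ h1 => intro p; rw [← h1, Subgroup.coe_inv, app_inv]
    have c2 := fun q => congrArg (fun a => Nat.testBit a q) a10
    simp only [land_eq', Nat.testBit_and, shl_eq, Nat.one_shiftLeft, Nat.testBit_two_pow] at c2
    have c3 := c2 e.2.1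
    have c4 := c2 e'.2.1
    simp only [decide_true, Bool.and_eq_true] at c3
    rw [testBit_msk.2 (by rw [mapL_eq]; exact List.mem_map_of_mem he'), ← h1, c1 m hm, c3.1, h1] at c4
    simpa [eq_comm] using c4
  · rw [← cM]; exact b6.trans ((Nat.mul_le_mul_left _ b7).trans b5)
  · rw [← cM]
    refine (Nat.mul_le_mul_left _ (le_trans ?_ b7)).trans b5
    have fS : Finite S := Finite.of_injective _ (Subgroup.inclusion_injective b4)
    rw [← Subgroup.card_map_of_injective (f := (MulAut.conj (s : Equiv.Perm ℕ)).toMonoidHom)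
      (MulAut.conj (s : Equiv.Perm ℕ)).injective]
    refine Subgroup.card_le_of_le ?_
    rw [Subgroup.map_le_iff_le_comap]
    refine cl_le.2 fun t ht => ?_
    have hz : nth (0, [], []) e.2.2.2.2.1 t ∈ e.2.2.2.2.1 := by
      rw [nth_eq, List.getD_eq_getElem _ _ (List.mem_range.1 ht)]; exact List.getElem_mem _
    have c2 := (b3 _ hz).2.1
    change (s : Equiv.Perm ℕ) * _ * _ ∈ S
    rw [← c2, mul_inv_cancel_right]
    exact mem_cl (γ := fun j => ev (gp nets) (F j).2.2.2.2) (by rw [mapL_eq]; exact List.mem_map_of_mem hz)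
  · have c0 : 0 < Nat.card M := Nat.card_pos
    have c1 : S = M ⊓ MulAction.stabilizer _ e.2.1 := Subgroup.eq_of_le_of_card_ge b4 (by
      have : 0 < e.2.2.2.1 := Nat.pos_of_ne_zero fun h => by rw [h] at b6; omega
      exact Nat.le_of_mul_le_mul_left (b5.trans (cM.le.trans (hc.trans b6))) this)
    have c2 : (m : Equiv.Perm ℕ) ∈ S := by
      rw [c1]
      refine ⟨⟨m, hm, rfl⟩, ?_⟩
      change (m : Equiv.Perm ℕ) e.2.1 = e.2.1
      rw [← b1, ← Equiv.Perm.mul_apply, h1, Equiv.Perm.mul_apply, hf0 _ h.2]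
    have c3 : S ≤ (((MulAction.stabilizer G (ra nets G (xx nets G F Nd hr (F e.1).2.1) (F e.1).2.2.2.2)).comap ψ).map
        (cl (gp nets) L0).subtype).map (MulAut.conj (s : Equiv.Perm ℕ)).toMonoidHom := cl_le.2 fun j hj => by
      rw [mapL_eq] at hj
      obtain ⟨z, hz, rfl⟩ := List.mem_map.1 hj
      obtain ⟨d1, d2, d3⟩ := b3 z hz
      refine ⟨_, ⟨⟨ev (gp nets) z.2.1, ev_mem fun a ha => mem_cl (d1 a ha)⟩, ?_, rfl⟩, ?_⟩
      · rw [SetLike.mem_coe, Subgroup.mem_comap, psi_ev hψ d1]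
        exact (Subgroup.inv_mem_iff _).1 d3.symm
      · change (s : Equiv.Perm ℕ) * ev (gp nets) z.2.1 * _ = _
        rw [← d2, mul_inv_cancel_right]
    obtain ⟨_, ⟨h', d1, rfl⟩, d2⟩ := c3 c2
    have d3 : h' = h := Subtype.ext (by
      change (s : Equiv.Perm ℕ) * h' * _ = _ at d2
      rw [← d2, inv_mul_cancel_right] at h1
      exact mul_left_cancel h1)
    rw [← d3]
    exact (MulAction.stabilizer G _).inv_mem d1

theorem ev_catW {Z : List (ℕ × List ℕ × List ℕ)} (v : List ℕ) :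
    ev (gp nets) (catW Z v) ∈ cl (fun t => ev (gp nets) (nth (0, [], []) Z t).2.1) (List.range Z.length) ∧
      ((∀ z ∈ Z, ∀ a ∈ z.2.1, a ∈ L0) → ∀ a ∈ catW Z v, a ∈ L0) := by
  induction v with
  | nil => exact ⟨Subgroup.one_mem _, fun _ a ha => by simp [catW] at ha⟩
  | cons t v ih =>
    have e : catW Z (t :: v) = (nth (0, [], []) Z t).2.1 ++ catW Z v := apd_eq _ _
    rw [e, ev_append]
    refine ⟨Subgroup.mul_mem _ ?_ ih.1, fun h a ha => ?_⟩
    · by_cases ht : t < Z.length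
      · exact mem_cl (γ := fun t => ev (gp nets) (nth (0, [], []) Z t).2.1) (List.mem_range.2 ht)
      · rw [nth_eq, List.getD_eq_default _ _ (by omega)]; exact Subgroup.one_mem _
    · rcases List.mem_append.1 ha with ha | ha
      · rcases nth_mem ((0, [], []) : ℕ × List ℕ × List ℕ) Z t with e | e
        · rw [e] at ha; simp at ha
        · exact h _ e a ha
      · exact ih.2 h a ha

theorem par_le (C : Ctl nets tb B L iv G) [Finite G] [Finite (cl (gp nets) L0)] {ψ : cl (gp nets) L0 →* G}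
    (hψ : ∀ a (ha : a ∈ L0), ψ ⟨gp nets a, mem_cl ha⟩ = evG nets G [al a]) {i k : ℕ} {e : XE}
    (he : EOK nets G L L0 F Nd hr ψ i e) (hi : Nat.card (xM nets G F Nd i) ≤ (Nd i).2.2.1) (hk : (Nd k).2.2.2.1 = i)
    (h : xpar tb B L al F Nd k e = true) : Nat.card (xM nets G F Nd k) ≤ (Nd k).2.2.1 := by
  unfold xpar at h
  simp only [cnd_tt, ble_tt, beq_tt, hk] at h
  obtain ⟨-, -, -, a1, a2, a3, a4⟩ := h
  set S0 := cl (fun t => ev (gp nets) (nth (0, [], []) e.2.2.2.2.1 t).2.1) (List.range e.2.2.2.2.1.length) with hS0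
  set S1 := (S0.subgroupOf (cl (gp nets) L0)).map ψ with hS1
  set T := (Nd k).2.2.2.2.2.1 with hT
  have l0 : S0 ≤ cl (gp nets) L0 := cl_le.2 fun t ht => ev_mem fun a ha => mem_cl (he.sub _ (by
    rw [nth_eq, List.getD_eq_getElem _ _ (List.mem_range.1 ht)]; exact List.getElem_mem _) a ha)
  have c1 : Nat.card S1 ≤ (Nd i).2.2.1 / e.2.2.2.1 := by
    have c0 : 0 < Nat.card (xM nets G F Nd i) := Nat.card_pos
    refine (Nat.card_le_card_of_surjective _ (ψ.subgroupMap_surjective _)).trans ?_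
    rw [Nat.card_congr (Subgroup.subgroupOfEquivOfLe l0).toEquiv, Nat.le_div_iff_mul_le (he.pos (by omega)), mul_comm]
    exact he.ub.trans hi
  let U : Set (G ⧸ S1) := Set.range fun p : Fin T.length => (((evG nets G (nth [] T p))⁻¹ : G) : G ⧸ S1)
  have c2 : xM nets G F Nd k ≤ setStab G U (Set.finite_range _) := cl_le.2 fun j hj => by
    obtain ⟨t, ht, rfl⟩ := List.getElem_of_mem hj
    rw [← Subgroup.inv_mem_iff]
    rintro _ ⟨p, rfl⟩
    have b1 := allN_iff.1 (allN_iff.1 a4 p p.2) t ht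
    rw [cnd_tt, ble_tt] at b1
    have b2 := C.eq b1.2
    rw [evG_apd, evG_apd, nth_eq 0, List.getD_eq_getElem _ _ ht] at b2
    refine ⟨⟨_, b1.1⟩, ?_⟩
    obtain ⟨b3, b4⟩ := ev_catW (nets := nets) (L0 := L0) (Z := e.2.2.2.2.1)
      (nth (0, []) (nth [] (Nd k).2.2.2.2.2.2 p) t).2
    rw [← psi_ev hψ (b4 he.sub)] at b2
    change _ = ((_ * _ : G) : G ⧸ S1)
    rw [← mul_inv_rev, b2, QuotientGroup.eq, mul_inv_rev, inv_inv, mul_inv_cancel_left]
    exact S1.inv_mem ⟨_, b3, rfl⟩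
  have c3 := (card_le_of_cosets (G := (xM nets G F Nd k).map (MulAut.conj (evG nets G (nth [] T 0))).toMonoidHom)
    (H := S1) (n := T.length) (fun p => evG nets G (nth [] T 0) • (((evG nets G (nth [] T p))⁻¹ : G) : G ⧸ S1)) (by
      rintro _ ⟨m, hm, rfl⟩
      obtain ⟨q, hq⟩ := c2 hm _ ⟨⟨0, a2⟩, rfl⟩
      refine ⟨q, q.2, ?_⟩
      simp only at hq
      rw [hq]
      change ((_ * _ * _ : G) : G ⧸ S1) = ((_ * (_ * _) : G) : G ⧸ S1)
      rw [mul_assoc])).2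
  rw [Subgroup.card_map_of_injective (MulAut.conj _).injective] at c3
  exact c3.trans ((Nat.mul_le_mul_left _ c1).trans a3)

end

end Cfsg.Lib.Comp
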