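import Cfsg.Agent.Lib.Comp.Sym3

/-!
# Double coset data: the permutation and its relators
-/

namespace Cfsg.Lib.Comp

universe u

section
variable {N : ℕ} {nets : List Net} {tb : ℕ → ℕ → ℕ} {B L : List ℕ} {iv : ℕ → ℕ} {G : Subgroup (Equiv.Perm ℕ)}
  {F : ℕ → SF} {L0 : List ℕ} {al : ℕ → ℕ} {Nd : ℕ → XN} {r : ℕ}

theorem sym_tau (hr : 0 < r) (hN : NetsOK N nets) (C : Ctl nets tb B L iv G) [Finite G] {o n : ℕ}
    (ho : Nat.card G ≤ o) (hn : ∀ g ∈ G, g 0 < n) (h0 : ∀ g ∈ G, g 0 = 0 → g ∈ cl (gp nets) L0)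
    (hf0 : ∀ g ∈ cl (gp nets) L0, g 0 = 0) (hL0 : ∀ a ∈ L0, a ∈ L) {ψ : cl (gp nets) L0 →* G}
    (hψ : ∀ a (ha : a ∈ L0), ψ ⟨gp nets a, mem_cl ha⟩ = evG nets G [al a]) {na nf ne : ℕ}
    (hA : XAx F L na nf ne r Nd) {D : ℕ → SD}
    (hD : ∀ j, na ≤ j → j < nf → der tb B L iv [] al [] [] [] F (D j) j = true) {kk : ℕ}
    (hX : ∀ k < r, xnode nets tb B L iv L0 al F nf kk r n o Nd k = true) :
    ∃ τ : xX nets G F Nd r → xX nets G F Nd r, Semi nets G τ L0 al ∧
      (∀ j < ne, (F j).ok nets G L (xx nets G F Nd hr) τ) ∧ (∀ k < r, Nat.card (xM nets G F Nd k) = (Nd k).2.2.1) ∧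
      ∀ k < r, 0 < k → ∃ i < k, ∃ g g' : G, τ (g • xx nets G F Nd hr i) = g' • xx nets G F Nd hr k := by
  classical
  have l0 : cl (gp nets) L0 ≤ G := cl_le.2 fun a ha => C.hL a (hL0 a ha)
  have : Finite (cl (gp nets) L0) := Finite.of_injective _ (Subgroup.inclusion_injective l0)
  have hF : ∀ j < nf, (F j).ok nets G L (xx nets G F Nd hr) id := by
    refine facts_ok (L0 := []) C (fun a ha => by simp at ha) (fun y => ?_) (fun p hp => by simp at hp) (fun j hj => ?_) hD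
    · change ra nets G (ra nets G y []) [] = y
      rw [ra_nil, ra_nil]
    · obtain ⟨a1, a2, a3, a4⟩ := hA.1 j hj
      refine ⟨hA.2.2.1 _ a2 j a3, ?_⟩
      rw [if_pos (hA.2.1 j a4), ← a1]
      have : (evG nets G (F j).2.2.2.2)⁻¹ ∈ MulAction.stabilizer G (xx nets G F Nd hr (F j).1) := by
        rw [xx_stab a2]
        exact Subgroup.inv_mem _ (mem_cl (γ := fun j => evG nets G (F j).2.2.2.2) a3)
      exact this.symm
  have hE : ∀ k < r, (∀ e ∈ (Nd k).2.1, EOK nets G L L0 F Nd hr ψ k e) ∧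
      (∀ q < n, ∃ e ∈ (Nd k).2.1, (xD nets F e).testBit q = true) ∧ ((Nd k).2.1.map (·.2.1)).Nodup ∧
      (if k = 0 then o ≤ (Nd k).2.2.1 else
        xpar tb B L al F Nd k (nth (0, 0, [], 0, [], []) (Nd (Nd k).2.2.2.1).2.1 (Nd k).2.2.2.2.1) = true) := by
    intro k hk
    have h := hX k hk
    unfold xnode at h
    rw [cnd_tt, cnd_tt, decide_eq_true_eq, cnd_eq, mapL_eq] at h
    obtain ⟨h1, h2⟩ := xedges_sound h.1
    refine ⟨fun e he => eok hN C hf0 hL0 hψ hF hk (hA.2.2.1 k hk) (by rw [mapL_eq]; exact h1 e he),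
      fun q hq => (h2 q hq).resolve_left (by simp), h.2.1, ?_⟩
    have h3 := h.2.2
    simp only [beq_tt] at h3
    split_ifs at h3 ⊢
    exacts [ble_tt.1 h3, h3]
  have hP : ∀ k < r, 0 < k → (Nd k).2.2.2.1 < k ∧ ∃ e ∈ (Nd (Nd k).2.2.2.1).2.1, (F e.1).2.1 = k ∧
      xpar tb B L al F Nd k e = true := by
    intro k hk h
    have h1 := (hE k hk).2.2.2
    rw [if_neg h.ne'] at h1
    have h2 := h1
    unfold xpar at h2
    simp only [cnd_tt, ble_tt, beq_tt] at h2
    refine ⟨h2.1, _, ?_, h2.2.2.1, h1⟩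
    rw [nth_eq, List.getD_eq_getElem _ _ h2.2.1]
    exact List.getElem_mem _
  have hU : ∀ k < r, Nat.card (xM nets G F Nd k) ≤ (Nd k).2.2.1 := by
    intro k
    induction k using Nat.strong_induction_on with
    | _ k ih =>
      intro hk
      rcases Nat.eq_zero_or_pos k with h | h
      · have h1 := (hE k hk).2.2.2
        rw [if_pos h] at h1
        exact (Subgroup.card_le_card_group _).trans (ho.trans h1)
      · obtain ⟨a1, e, a2, -, a3⟩ := hP k hk h
        exact par_le C hψ ((hE _ (by omega)).1 e a2) (ih _ a1 (by omega)) rfl a3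
  set x := xx nets G F Nd hr with hx
  let Rel : xX nets G F Nd r → xX nets G F Nd r → Prop := fun y y' => ∃ i < r, ∃ e ∈ (Nd i).2.1,
    ∃ h : cl (gp nets) L0, y = (Subgroup.inclusion l0 h)⁻¹ • ra nets G (x i) (F e.1).2.2.2.1 ∧
      y' = (ψ h)⁻¹ • ra nets G (x (F e.1).2.1) (F e.1).2.2.2.2
  have tot : ∀ y, ∃ y', Rel y y' := by
    intro y
    obtain ⟨i, hi, g, rfl⟩ := xx_all (hr := hr) y
    obtain ⟨e, he, h1⟩ := (hE i hi).2.1 _ (hn _ (g⁻¹).2)
    obtain ⟨m, hm, h2⟩ := ((hE i hi).1 e he).orb _ h1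
    have h3 := ((hE i hi).1 e he).pt
    refine ⟨_, i, hi, e, he, ⟨((evG nets G (F e.1).2.2.2.1)⁻¹ * m⁻¹ * g⁻¹ : G), h0 _ (Subtype.prop _) ?_⟩, ?_, rfl⟩
    · simp only [Subgroup.coe_mul, Equiv.Perm.mul_apply]
      rw [← h2, Subgroup.coe_inv, Subgroup.coe_inv, inv_app, ← h3, inv_app]
    · change _ = ((evG nets G (F e.1).2.2.2.1)⁻¹ * m⁻¹ * g⁻¹)⁻¹ • _
      unfold ra
      rw [← mul_smul, ← xx_stab (hr := hr) hi] at *
      have e3 : ((evG nets G (F e.1).2.2.2.1)⁻¹ * m⁻¹ * g⁻¹)⁻¹ * (evG nets G (F e.1).2.2.2.1)⁻¹ = g * m := by group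
      rw [e3, mul_smul, MulAction.mem_stabilizer_iff.1 hm]
  have fn : ∀ y y1 y2, Rel y y1 → Rel y y2 → y1 = y2 := by
    rintro _ _ _ ⟨i, hi, e, he, h, rfl, rfl⟩ ⟨i', hi', e', he', h', h1, rfl⟩
    unfold ra at h1
    rw [← mul_smul, ← mul_smul] at h1
    obtain rfl : i = i' := by
      have := congrArg (fun y : xX nets G F Nd r => (y.1 : ℕ)) h1
      simpa only [hx, xx_fst hi, xx_fst hi'] using this
    rw [← inv_smul_eq_iff, ← mul_smul, ← MulAction.mem_stabilizer_iff, xx_stab hi] at h1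
    have a1 := (hE i hi).1 e' he'
    have a2 := (hE i hi).1 e he
    have a3 := a2.uniq _ h1 e' he' (by
      rw [← a1.pt, ← a2.pt]
      simp only [mul_inv_rev, inv_inv, Subgroup.coe_mul, Equiv.Perm.mul_apply, Subgroup.coe_inv, inv_app,
        Subgroup.coe_inclusion]
      rw [hf0 _ (Subgroup.inv_mem _ h.2), hf0 _ h'.2])
    obtain rfl : e = e' := List.inj_on_of_nodup_map (hE i hi).2.2.1 he he' a3.symm
    have a4 := a2.wd (hU i hi) (h' * h⁻¹) _ h1 (by simp [mul_assoc])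
    rw [map_mul, map_inv, mul_inv_rev, inv_inv, mul_smul, smul_eq_iff_eq_inv_smul] at a4
    exact a4.symm
  choose τ hτ using tot
  have hed : ∀ i < r, ∀ e ∈ (Nd i).2.1, τ (ra nets G (x i) (F e.1).2.2.2.1) = ra nets G (x (F e.1).2.1) (F e.1).2.2.2.2 :=
    fun i hi e he => fn _ _ _ (hτ _) ⟨i, hi, e, he, 1, by simp, by simp⟩
  refine ⟨τ, fun a ha y => ?_, fun j hj => ?_, fun k hk => le_antisymm (hU k hk) ?_, fun k hk h => ?_⟩
  · obtain ⟨i, hi, e, he, h, h1, h2⟩ := hτ y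
    refine fn _ _ _ (hτ _) ⟨i, hi, e, he, h * ⟨gp nets a, mem_cl ha⟩, ?_, ?_⟩
    · rw [map_mul, mul_inv_rev, mul_smul, ← h1]
      exact congrArg (fun g : G => g⁻¹ • y) (Subtype.ext ((C.coe (by simpa using hL0 a ha)).trans (ev_single _ _)))
    · rw [map_mul, mul_inv_rev, mul_smul, ← h2, hψ a ha]; rfl
  · by_cases h : j < nf
    · have h1 := hF j h
      unfold SF.ok at h1 ⊢
      rwa [if_pos (hA.2.1 j h)] at h1 ⊢
    · obtain ⟨a1, a2, a3⟩ := hA.2.2.2 j hj (by omega)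
      obtain ⟨e, he, rfl⟩ := List.mem_map.1 a3
      exact ⟨((hE _ a2).1 e he).fn, by rw [if_neg (by omega)]; exact hed _ a2 e he⟩
  · obtain ⟨e, he, -⟩ := (hE k hk).2.1 _ (hn 1 G.one_mem)
    exact ((hE k hk).1 e he).lb
  · obtain ⟨a1, e, a2, a3, -⟩ := hP k hk h
    exact ⟨_, a1, _, _, a3 ▸ hed _ (by omega) e a2⟩

end

/-- A tree of double coset representatives. -/
inductive CT : Type
  | leaf (s : List ℕ) (c : List (List ℕ × ℕ × List ℕ)) (E : List ℕ) : CT
  | br (s ops : List ℕ) (kids : CT) : CT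
  | nil : CT
  | cons (q : ℕ) (t rest : CT) : CT

noncomputable def ctM (T : CT) : ℕ :=
  CT.rec (motive := fun _ => ℕ) (fun _ _ _ => 0) (fun _ _ _ _ => 0) 0
    (fun q _ _ _ ih => Nat.lor (Nat.shiftLeft 1 q) ih) T

/-- Apply `f` to the first level. -/
noncomputable def hdL (Lv : List Lev) (f : Lev → List Lev → Bool) : Bool :=
  List.rec (motive := fun _ => Bool) false (fun v t _ => f v t) Lv

noncomputable def ctB (nets : List Net) (tb : ℕ → ℕ → ℕ) (B L : List ℕ) (iv : ℕ → ℕ) (L0 : List ℕ) (al : ℕ → ℕ)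
    (F : ℕ → SF) (nf : ℕ) (S : List (List ℕ)) (Ls : List ℕ) (i : ℕ) (T : CT) :
    Bool → List Lev → List ℕ → List (ℕ × ℕ) → Bool :=
  CT.rec (motive := fun _ => Bool → List Lev → List ℕ → List (ℕ × ℕ) → Bool)
    (fun s c E _ _ Lc P => cnd (subB Lc Ls) (cnd (allL P fun z => Nat.beq (wap tb s z.2) z.1)
      (trc tb B L iv L0 al F nf S c i s fun v g => epsU iv F nf E v g fun v' g' =>
        cnd (Nat.beq v' i) (eqW tb B L g' s) false) false) false)
    (fun s ops kids ih _ Lv Lc P => hdL Lv fun v _ => cnd (subB s L) (cnd (allL P fun z => Nat.beq (wap tb s z.2) z.1)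
      (cnd (genB F nf i ops) (cnd (allL ops fun j => allL P fun z => Nat.beq (wap tb (F j).2.2.2.2 z.2) z.2)
        (cnd (force (wimg nets s (itv v.2.2.2.1 v.2.2.2.2)) fun A =>
          Nat.beq (Nat.land (orbW nets (fun j => (F j).2.2.2.2) ops (ctM kids)) A) A) (ih false Lv Lc P)
          false) false) false) false) false)
    (fun m _ _ _ => cnd m false true)
    (fun q _ _ ih1 ih2 m Lv Lc P => cnd m false (hdL Lv fun v t =>
      cnd (ih1 true t v.1 ((v.2.2.1, q) :: P)) (ih2 false Lv Lc P) false)) T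

/-- The letter `c` commutes with the program. -/
noncomputable def syB (tb : ℕ → ℕ → ℕ) (B L L0 : List ℕ) (al : ℕ → ℕ) (c : ℕ) (S : List (List ℕ)) :
    List (List ℕ) → List ℕ → Bool :=
  List.rec (motive := fun _ => List (List ℕ) → List ℕ → Bool) (fun _ u => eqW tb B L u [c])
    (fun g _ ih hs u => List.rec (motive := fun _ => Bool) false (fun h hs' _ =>
      cnd (subB u L0) (cnd (eqW tb B L (apd (mapL al u) g) (apd g h)) (ih hs' h) false) false) hs) S

section
variable {N : ℕ} {nets : List Net} {tb : ℕ → ℕ → ℕ} {B L : List ℕ} {iv : ℕ → ℕ} {G : Subgroup (Equiv.Perm ℕ)}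
  {X : Type*} [MulAction G X] {x : ℕ → X} {τ : X → X} {F : ℕ → SF} {nf : ℕ} {L0 : List ℕ} {al : ℕ → ℕ}

theorem syB_sound (C : Ctl nets tb B L iv G) (hS : Semi nets G τ L0 al) {c : ℕ} {S hs : List (List ℕ)} {u : List ℕ}
    (h : syB tb B L L0 al c S hs u = true) (y : X) :
    srun nets G τ S (ra nets G y u) = ra nets G (srun nets G τ S y) [c] := by
  induction S generalizing hs u y with
  | nil => exact C.ra_eq h y
  | cons g t ih =>
    cases hs with
    | nil => exact absurd h (by change false ≠ true; simp)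
    | cons h' hs' =>
      change cnd _ _ _ = true at h
      rw [cnd_tt, cnd_tt] at h
      change srun nets G τ t (ra nets G (τ _) g) = ra nets G (srun nets G τ t (ra nets G (τ y) g)) [c]
      rw [← ih h.2.2, hS.word (sub_of_subB h.1), ← ra_apd, ← ra_apd, C.ra_eq h.2.1]

theorem sym_elt (C : Ctl nets tb B L iv G) (hS : Semi nets G τ L0 al) {S : List (List ℕ)}
    {Y : List (ℕ × List ℕ × List (List ℕ))}
    (h : allL Y (fun d => cnd (eqW tb B L [d.1] d.2.1) (syB tb B L L0 al d.1 S d.2.2 d.2.1) false) = true) {g : G}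
    (hg : (g : Equiv.Perm ℕ) ∈ cl (gp nets) (mapL (·.1) Y)) (y : X) :
    srun nets G τ S (g⁻¹ • y) = g⁻¹ • srun nets G τ S y := by
  have h1 : ∀ a ∈ mapL (·.1) Y, a ∈ L ∧ ∀ y : X, srun nets G τ S (ra nets G y [a]) = ra nets G (srun nets G τ S y) [a] := by
    intro a ha
    rw [mapL_eq] at ha
    obtain ⟨d, hd, rfl⟩ := List.mem_map.1 ha
    have h2 := allL_iff.1 h d hd
    rw [cnd_tt] at h2
    exact ⟨(C.sub h2.1).1 _ (by simp), fun y => by rw [C.ra_eq h2.1 y, syB_sound C hS h2.2]⟩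
  rw [← map_cl_sval fun a ha => C.hL a (h1 a ha).1] at hg
  obtain ⟨h2, h3, e⟩ := hg
  obtain rfl : h2 = g := Subtype.ext e
  clear e
  induction h3 using Subgroup.closure_induction generalizing y with
  | mem z hz =>
    obtain ⟨a, ha, rfl⟩ := hz
    have := (h1 a ha).2 y
    unfold ra evG at this
    rwa [ev_single] at this
  | one => simp
  | mul a b _ _ h1 h2 => rw [mul_inv_rev, mul_smul, h2, h1, mul_smul]
  | inv a _ h1 => rw [inv_inv, ← smul_inv_smul a (srun nets G τ S (a • y)), ← h1, inv_smul_smul]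

theorem ctB_sound (hN : NetsOK N nets) (C : Ctl nets tb B L iv G) (hS : Semi nets G τ L0 al)
    (hF : ∀ j < nf, (F j).ok nets G L x τ) {S : List (List ℕ)} {Ls : List ℕ}
    (hs : ∀ g : G, (g : Equiv.Perm ℕ) ∈ cl (gp nets) Ls → ∀ y, srun nets G τ S (g⁻¹ • y) = g⁻¹ • srun nets G τ S y)
    {i : ℕ} {T : CT} {m : Bool} {Lv : List Lev} {Lc : List ℕ} {P : List (ℕ × ℕ)}
    (h : ctB nets tb B L iv L0 al F nf S Ls i T m Lv Lc P = true) (hE : Exact nets Lv Lc)
    (hP : ∀ g ∈ G, (∀ z ∈ P, g z.1 = z.1) → g ∈ cl (gp nets) Lc) :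
    (m = true → ∀ g : G, (∀ z ∈ P, (g : Equiv.Perm ℕ) z.1 = z.2) → srun nets G τ S (g⁻¹ • x i) = g⁻¹ • x i) ∧
      ∀ v ∈ Lv.head?, ∀ g : G, (∀ z ∈ P, (g : Equiv.Perm ℕ) z.1 = z.2) →
        (ctM T).testBit ((g : Equiv.Perm ℕ) v.2.2.1) = true → srun nets G τ S (g⁻¹ • x i) = g⁻¹ • x i := by
  have key : ∀ {s : List ℕ} {P : List (ℕ × ℕ)} {Lc : List ℕ}, (∀ a ∈ s, a ∈ L) →
      allL P (fun z => Nat.beq (wap tb s z.2) z.1) = true → (∀ g ∈ G, (∀ z ∈ P, g z.1 = z.1) → g ∈ cl (gp nets) Lc) →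
      ∀ g : G, (∀ z ∈ P, (g : Equiv.Perm ℕ) z.1 = z.2) →
        (((evG nets G s)⁻¹ * g : G) : Equiv.Perm ℕ) ∈ cl (gp nets) Lc := by
    intro s P Lc h1 h2 h3 g h4
    refine h3 _ (Subtype.prop _) fun z hz => ?_
    have := beq_tt.1 (allL_iff.1 h2 z hz)
    rw [wap_eq C.ht, ← C.coe h1] at this
    rw [Subgroup.coe_mul, Equiv.Perm.mul_apply, h4 z hz, Subgroup.coe_inv, this]
  induction T generalizing m Lv Lc P with
  | leaf s c E =>
    refine ⟨fun _ g hg => ?_, fun v _ g _ h1 => by simp [ctM] at h1⟩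
    change cnd _ _ _ = true at h
    rw [cnd_tt, cnd_tt] at h
    obtain ⟨v, g1, k1, k2⟩ := trc_sound C hS hF h.2.2
    obtain ⟨v', g', k3, k4⟩ := epsU_sound (x := x) (τ := τ) C (fun j hj _ => hF j hj) k1
    rw [cnd_tt, beq_tt] at k3
    rw [k4, k3.1, C.ra_eq k3.2] at k2
    have := hs _ (cl_mono (sub_of_subB h.1) (key (C.sub k3.2).2 h.2.1 hP g hg)) (ra nets G (x i) s)
    rw [k2] at this
    unfold ra at this
    rwa [← mul_smul, ← mul_inv_rev, mul_inv_cancel_left] at this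
  | br s ops kids ih =>
    refine ⟨fun _ g hg => ?_, fun v _ g _ h1 => by simp [ctM] at h1⟩
    cases Lv with
    | nil => exact absurd h (by change false ≠ true; simp)
    | cons v t =>
      change cnd _ _ _ = true at h
      simp only [cnd_tt, force_eq, beq_tt] at h
      obtain ⟨a1, a2, a3, a4, a5, a6⟩ := h
      obtain ⟨L', o, b, a, n⟩ := v
      have b1 := (hE.cons hN).2.2.2.1 _ (key (sub_of_subB a1) a2 hP g hg)
      have b2 := congrArg (fun A => Nat.testBit A ((g : Equiv.Perm ℕ) b)) a5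
      rw [Subgroup.coe_mul, Equiv.Perm.mul_apply, Subgroup.coe_inv, C.coe (sub_of_subB a1)] at b1
      simp only [land_eq', Nat.testBit_and, testBit_wimg hN, testBit_itv, b1, and_self, decide_true,
        Bool.and_true] at b2
      let H : Subgroup (Equiv.Perm ℕ) := (MulAction.stabilizer G (x i)).map G.subtype ⊓
        ⨅ z ∈ P, MulAction.stabilizer _ z.2
      obtain ⟨m0, hm0, q, hq, e⟩ := orbW_sound hN (H := H) (fun j hj => Subgroup.mem_inf.2 ⟨gen_le C hF a3
        (mem_cl (γ := fun j => ev (gp nets) (F j).2.2.2.2) hj), by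
          simp only [Subgroup.mem_iInf]
          intro z hz
          have := beq_tt.1 (allL_iff.1 (allL_iff.1 a4 j hj) z hz)
          rw [wap_eq C.ht] at this
          exact (Subgroup.inv_mem_iff _).1 this⟩) _ _ b2
      obtain ⟨⟨m, hm, rfl⟩, hm'⟩ := Subgroup.mem_inf.1 hm0
      simp only [Subgroup.mem_iInf] at hm'
      have b3 := (ih a6 hE hP).2 _ rfl (m⁻¹ * g) (fun z hz => by
        rw [Subgroup.coe_mul, Equiv.Perm.mul_apply, hg z hz]
        exact (MulAction.stabilizer _ z.2).inv_mem (hm' z hz)) (by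
        rw [Subgroup.coe_mul, Equiv.Perm.mul_apply, ← e]
        simpa using hq)
      rwa [mul_inv_rev, inv_inv, mul_smul, MulAction.mem_stabilizer_iff.1 hm] at b3
  | nil =>
    refine ⟨fun h1 => ?_, fun v _ g _ h1 => by simp [ctM] at h1⟩
    subst h1
    exact absurd h (by change false ≠ true; simp)
  | cons q t rest ih1 ih2 =>
    cases m with
    | true => exact absurd h (by change false ≠ true; simp)
    | false =>
      refine ⟨fun h1 => by simp at h1, fun v hv g hg h1 => ?_⟩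
      cases Lv with
      | nil => simp at hv
      | cons w Lv =>
        obtain rfl : w = v := by simpa using hv
        change cnd _ _ _ = true at h
        rw [cnd_tt] at h
        change (Nat.lor _ (ctM rest)).testBit _ = true at h1
        rw [lor_eq', Nat.testBit_or, Bool.or_eq_true, shl_eq, Nat.one_shiftLeft, Nat.testBit_two_pow,
          decide_eq_true_eq] at h1
        rcases h1 with h1 | h1
        · obtain ⟨L', o, b, a, n⟩ := w
          refine (ih1 h.1 (hE.cons hN).1 fun g hg h2 => ?_).1 rfl g fun z hz => ?_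
          · have := hP g hg fun z hz => h2 z (by simp [hz])
            exact ((hE.cons hN).2.2.1 g this).1 (h2 (b, q) (by simp))
          · rcases List.mem_cons.1 hz with rfl | hz
            exacts [h1.symm, hg z hz]
        · exact (ih2 h.2 hE hP).2 _ rfl g hg h1

/-- A program that is the identity on all points. -/
theorem prog_id (hN : NetsOK N nets) (C : Ctl nets tb B L iv G) (hS : Semi nets G τ L0 al)
    (hF : ∀ j < nf, (F j).ok nets G L x τ) {r : ℕ} (hall : ∀ y : X, ∃ k < r, ∃ g : G, y = g • x k)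
    {Lv : List Lev} {Lc : List ℕ} (hE : Exact nets Lv Lc) (hc : G ≤ cl (gp nets) Lc) {S : List (List ℕ)}
    {Y : List (ℕ × List ℕ × List (List ℕ))}
    (h : allL Y (fun d => cnd (eqW tb B L [d.1] d.2.1) (syB tb B L L0 al d.1 S d.2.2 d.2.1) false) = true)
    {T : ℕ → CT} (hT : ∀ k < r, ctB nets tb B L iv L0 al F nf S (mapL (·.1) Y) k (T k) true Lv Lc [] = true) (y : X) :
    srun nets G τ S y = y := by
  obtain ⟨k, hk, g, rfl⟩ := hall y
  have := (ctB_sound hN C hS hF (fun g hg => sym_elt C hS h hg) (hT k hk) hE fun g hg _ => hc hg).1 rfl g⁻¹ (by simp)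
  rwa [inv_inv] at this

end

end Cfsg.Lib.Comp
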