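import Cfsg.Agent.Lib.Comp.Sym4
import Cfsg.Agent.Lib.Comp.Ext
import Mathlib.GroupTheory.GroupAction.Blocks

/-!
# Double coset data: the group generated by the control group and the new permutation
-/

namespace Cfsg.Lib.Comp

universe u

/-- The letters as permutations of the points. -/
noncomputable def sδ (nets : List Net) (G : Subgroup (Equiv.Perm ℕ)) {X : Type*} [MulAction G X] (σ : Equiv.Perm X)
    (t ti a : ℕ) : Equiv.Perm X :=
  if a = t then σ⁻¹ else if a = ti then σ else MulAction.toPermHom G X (sval G (gp nets) a)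

/-- A word as a program. -/
noncomputable def prg (t ti : ℕ) (j1 j2 w : List ℕ) : List ℕ × List (List ℕ) :=
  List.rec (motive := fun _ => List ℕ × List (List ℕ)) ([], []) (fun a _ ih =>
    Prod.rec (motive := fun _ => List ℕ × List (List ℕ)) (fun g S => cnd (Nat.beq a t) ([], g :: S)
      (cnd (Nat.beq a ti) (j1, apd j2 g :: S) (a :: g, S))) ih) w

/-- The orbit lengths. -/
def szs (f : ℕ → ℕ) (r : ℕ) : List ℕ := Nat.rec (motive := fun _ => List ℕ) [] (fun k ih => f k :: ih) r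

/-- The shape of the point set. -/
structure SymM (G : Subgroup (Equiv.Perm ℕ)) {X : Type*} [MulAction G X] (x : ℕ → X) (σ : Equiv.Perm X) (r : ℕ)
    (μ : ℕ → ℕ) : Prop where
  all : ∀ y, ∃ k < r, ∃ g : G, y = g • x k
  fst : ∀ k < r, ∀ i < r, ∀ g : G, g • x k = x i → k = i
  card : ∀ k < r, Nat.card (MulAction.stabilizer G (x k)) = μ k
  reach : ∀ k < r, 0 < k → ∃ i < k, ∃ g g' : G, σ (g • x i) = g' • x k

/-- Check that the word `w` fixes the points `x_k·u`. -/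
noncomputable def bpB (tb : ℕ → ℕ → ℕ) (B L : List ℕ) (iv : ℕ → ℕ) (L0 : List ℕ) (al : ℕ → ℕ) (F : ℕ → SF) (nf : ℕ)
    (p : List ℕ × List (List ℕ)) (P : List (ℕ × List ℕ)) : List (List (List ℕ × ℕ × List ℕ) × List ℕ) → Bool :=
  List.rec (motive := fun _ => List (List (List ℕ × ℕ × List ℕ) × List ℕ) → Bool) (fun _ => true)
    (fun z _ ih c => List.rec (motive := fun _ => Bool) false (fun d c' _ =>
      cnd (trc tb B L iv L0 al F nf p.2 d.1 z.1 (apd z.2 p.1) fun v g => epsU iv F nf d.2 v g fun v' g' =>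
        cnd (Nat.beq v' z.1) (eqW tb B L g' z.2) false) (ih c') false) c) P

/-- Relators `u t v t⁻¹`, given as `(u, h, v)`. -/
noncomputable def smB (tb : ℕ → ℕ → ℕ) (B L L0 : List ℕ) (al : ℕ → ℕ) (z : List ℕ × List ℕ × List ℕ) : Bool :=
  cnd (subB z.2.1 L0) (cnd (eqW tb B L z.1 z.2.1) (eqW tb B L (apd (mapL al z.2.1) z.2.2) []) false) false

section
variable {N : ℕ} {nets : List Net} {tb : ℕ → ℕ → ℕ} {B L : List ℕ} {iv : ℕ → ℕ} {G : Subgroup (Equiv.Perm ℕ)}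
  {X : Type*} [MulAction G X] {x : ℕ → X} {σ : Equiv.Perm X} {F : ℕ → SF} {nf : ℕ} {L0 : List ℕ} {al : ℕ → ℕ}
  {t ti : ℕ} {j1 j2 : List ℕ}

theorem exists_sperm {τ : X → X} (hJ : ∀ y : X, srun nets G τ [j1, j2] y = y) : ∃ σ : Equiv.Perm X, ⇑σ = τ := by
  refine ⟨Equiv.ofBijective τ ⟨fun a b h => by rw [← hJ a, ← hJ b]; simp only [srun, List.foldl, h], fun z => ?_⟩, rfl⟩
  exact ⟨_, ra_inj (hJ (ra nets G z j2))⟩

theorem ev_prg (hJ : ∀ y : X, srun nets G σ [j1, j2] y = y) (w : List ℕ) (y : X) :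
    (ev (sδ nets G σ t ti) w)⁻¹ y = srun nets G σ (prg t ti j1 j2 w).2 (ra nets G y (prg t ti j1 j2 w).1) := by
  induction w generalizing y with
  | nil => exact (ra_nil y).symm
  | cons a w ih =>
    have e : prg t ti j1 j2 (a :: w) = cnd (Nat.beq a t) ([], (prg t ti j1 j2 w).1 :: (prg t ti j1 j2 w).2)
      (cnd (Nat.beq a ti) (j1, apd j2 (prg t ti j1 j2 w).1 :: (prg t ti j1 j2 w).2)
        (a :: (prg t ti j1 j2 w).1, (prg t ti j1 j2 w).2)) := rfl
    rw [ev_cons, mul_inv_rev, Equiv.Perm.mul_apply, ih, e, cnd_eq, cnd_eq]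
    simp only [beq_tt, sδ]
    split_ifs
    · rw [ra_nil, inv_inv]; rfl
    · change _ = srun nets G σ _ (ra nets G (σ _) _)
      rw [ra_apd]
      congr 2
      have := hJ (σ⁻¹ y)
      simpa [srun] using this.symm
    · rw [← map_inv]
      exact congrArg _ ((ra_apd y [a] _).trans (by rw [ra.eq_def nets G y, evG, ev_single]; rfl)).symm

theorem ev_sδ {w : List ℕ} (h : ∀ a ∈ w, a ≠ t ∧ a ≠ ti) :
    ev (sδ nets G σ t ti) w = MulAction.toPermHom G X (evG nets G w) := by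
  rw [evG, ev_map]
  exact ev_congr _ fun a ha => by simp only [sδ, if_neg (h a ha).1, if_neg (h a ha).2]

/-- Static conditions on the letters. -/
def LetOK (iv' : ℕ → ℕ) (t ti : ℕ) (j1 j2 LN LΓ : List ℕ) (RN : List (List ℕ × ℕ)) : Prop :=
  0 ≠ t ∧ 0 ≠ ti ∧ iv' t = ti ∧ iv' ti = t ∧ (t = ti → j1 = [] ∧ j2 = []) ∧
    (∀ a < 64, a ≠ t → a ≠ ti → iv' a ≠ t ∧ iv' a ≠ ti) ∧ (∀ a ∈ LN, a ≠ t ∧ a ≠ ti ∧ a ∈ LΓ) ∧ t ∈ LΓ ∧
    (∀ a ∈ LΓ, a ∈ LN ∨ a = t ∨ a = ti) ∧ ∀ r ∈ RN, ∀ a ∈ r.1, a ∈ LN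

instance (iv' : ℕ → ℕ) (t ti : ℕ) (j1 j2 LN LΓ : List ℕ) (RN : List (List ℕ × ℕ)) :
    Decidable (LetOK iv' t ti j1 j2 LN LΓ RN) := by unfold LetOK; infer_instance

variable {iv' : ℕ → ℕ} {LN LΓ : List ℕ} {RN : List (List ℕ × ℕ)}

theorem sδ_iv (hJ : ∀ y : X, srun nets G σ [j1, j2] y = y) (h : LetOK iv' t ti j1 j2 LN LΓ RN)
    (h1 : IvOK (gp nets) iv') : IvOK (sδ nets G σ t ti) iv' := by
  obtain ⟨a1, a2, a3, a4, a5, a6, -⟩ := h
  have h2 := h1.sval G
  refine ⟨by simp only [sδ, if_neg a1, if_neg a2, h2.1, map_one], fun a ha => ⟨(h1.2 a ha).1, ?_⟩⟩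
  by_cases e1 : a = t
  · rw [e1, a3]
    by_cases e2 : ti = t
    · obtain ⟨rfl, rfl⟩ := a5 e2.symm
      simp only [sδ, e2, if_true, inv_inv]
      refine inv_eq_of_mul_eq_one_left (Equiv.ext fun y => ?_)
      simpa [srun, ra_nil] using hJ y
    · simp [sδ, e2]
  · by_cases e2 : a = ti
    · rw [e2, a4]; simp [sδ, e2 ▸ e1]
    · simp only [sδ, if_neg e1, if_neg e2, if_neg (a6 a ha e1 e2).1, if_neg (a6 a ha e1 e2).2, (h2.2 a ha).2, map_inv]

theorem sδ_rels (h : LetOK iv' t ti j1 j2 LN LΓ RN) (hG : ∀ a ∈ LN, gp nets a ∈ G) (h1 : Rels (gp nets) RN) :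
    Rels (sδ nets G σ t ti) RN := fun r hr => by
  have h2 := h.2.2.2.2.2.2.2.2.2 r hr
  rw [ev_sδ fun a ha => ⟨(h.2.2.2.2.2.2.1 a (h2 a ha)).1, (h.2.2.2.2.2.2.1 a (h2 a ha)).2.1⟩, ← map_pow, evG,
    h1.sval (fun r hr a ha => hG a (h.2.2.2.2.2.2.2.2.2 r hr a ha)) r hr, map_one]

theorem rel_of_prog (hJ : ∀ y : X, srun nets G σ [j1, j2] y = y) {w : List ℕ} {S : List (List ℕ)}
    (h : prg t ti j1 j2 w = ([], S)) (hS : ∀ y : X, srun nets G σ S y = y) : ev (sδ nets G σ t ti) w = 1 := by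
  rw [← inv_eq_one]
  ext y
  rw [ev_prg hJ, h, ra_nil, hS]; rfl

theorem rel_of_smB (C : Ctl nets tb B L iv G) (hS : Semi nets G σ L0 al) (ht : t = ti → σ⁻¹ = σ)
    (hL : ∀ a ∈ L, a ≠ t ∧ a ≠ ti) {Z : List (List ℕ × List ℕ × List ℕ)} (h : allL Z (smB tb B L L0 al) = true) :
    Rels (sδ nets G σ t ti) (Z.map fun z => (z.1 ++ t :: z.2.2 ++ [ti], 0)) := by
  intro r hr
  obtain ⟨z, hz, rfl⟩ := List.mem_map.1 hr
  have h1 := allL_iff.1 h z hz
  unfold smB at h1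
  simp only [cnd_tt] at h1
  have e1 : sδ nets G σ t ti t = σ⁻¹ := by simp [sδ]
  have e2 : sδ nets G σ t ti ti = σ := by
    unfold sδ; split_ifs with a b
    exacts [ht a.symm, rfl, absurd rfl b]
  rw [zero_add, pow_one, ev_append, ev_append, ev_cons, ev_single, e1, e2,
    ev_sδ fun a ha => hL a ((C.sub h1.2.1).1 a ha),
    ev_sδ fun a ha => hL a ((C.sub h1.2.2).1 a (by rw [apd_eq]; simp [ha])), ← inv_eq_one]
  ext y
  simp only [mul_inv_rev, inv_inv, ← map_inv, Equiv.Perm.mul_apply]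
  change σ⁻¹ (ra nets G (σ (ra nets G y z.1)) z.2.2) = y
  rw [C.ra_eq h1.2.1, hS.word (sub_of_subB h1.1), ← ra_apd, C.ra_eq h1.2.2, ra_nil]
  simp

theorem bpB_sound (C : Ctl nets tb B L iv G) (hS : Semi nets G σ L0 al) (hF : ∀ j < nf, (F j).ok nets G L x σ)
    (hJ : ∀ y : X, srun nets G σ [j1, j2] y = y) {w : List ℕ} {P : List (ℕ × List ℕ)}
    {c : List (List (List ℕ × ℕ × List ℕ) × List ℕ)} (h : bpB tb B L iv L0 al F nf (prg t ti j1 j2 w) P c = true) :
    ∀ z ∈ P, ev (sδ nets G σ t ti) w (ra nets G (x z.1) z.2) = ra nets G (x z.1) z.2 := by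
  induction P generalizing c with
  | nil => simp
  | cons z P ih =>
    cases c with
    | nil => exact absurd h (by change false ≠ true; simp)
    | cons d c =>
      change cnd _ _ _ = true at h
      rw [cnd_tt] at h
      obtain ⟨v, g1, k1, k2⟩ := trc_sound C hS hF h.1
      obtain ⟨v', g', k3, k4⟩ := epsU_sound (x := x) (τ := σ) C (fun j hj _ => hF j hj) k1
      rw [cnd_tt, beq_tt] at k3
      rw [k4, k3.1, C.ra_eq k3.2, ra_apd, ← ev_prg hJ, Equiv.Perm.inv_eq_iff_eq] at k2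
      intro z' hz
      rcases List.mem_cons.1 hz with rfl | hz
      exacts [k2.symm, ih h.2 z' hz]

theorem sym_faith (C : Ctl nets tb B L iv G) {k p : ℕ} (hfx : ∀ g : G, g • x k = x k → (g : Equiv.Perm ℕ) p = p)
    {U : List (List ℕ)} (hU : cnd (allL U fun u => subB u L) (subB B (mapL (fun u => wap tb u p) U)) false = true)
    {g : G} (h : ∀ u ∈ U, g • ra nets G (x k) u = ra nets G (x k) u) : g = 1 := by
  rw [cnd_tt] at hU
  refine Subtype.ext (C.hB _ g.2 fun b hb => ?_)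
  have h1 := sub_of_subB hU.2 b hb
  rw [mapL_eq] at h1
  obtain ⟨u, hu, rfl⟩ := List.mem_map.1 h1
  have h2 := hfx (evG nets G u * g * (evG nets G u)⁻¹) (by
    rw [mul_smul, mul_smul]
    exact smul_eq_iff_eq_inv_smul _ |>.2 (h u hu))
  rw [wap_eq C.ht, ← C.coe (sub_of_allL hU.1 u hu), eq_comm, Equiv.Perm.inv_eq_iff_eq]
  exact h2.symm

variable {r : ℕ} {μ : ℕ → ℕ}

theorem SymM.sums [Finite G] (h : SymM G x σ r μ) (Δ : Set X) (hΔ : ∀ g : G, ∀ y ∈ Δ, g • y ∈ Δ) :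
    Finite X ∧ Δ.ncard ∈ sums (szs (fun k => Nat.card G / μ k) r) ∧
      Nat.card X = (szs (fun k => Nat.card G / μ k) r).sum := by
  let U : ℕ → Set X := fun s => {y | ∃ k < s, y ∈ MulAction.orbit G (x k)}
  have key : ∀ s ≤ r, (U s).Finite ∧ (Δ ∩ U s).ncard ∈ Comp.sums (szs (fun k => Nat.card G / μ k) s) ∧
      (U s).ncard = (szs (fun k => Nat.card G / μ k) s).sum := by
    intro s
    induction s with
    | zero => intro _; simp [U, szs, Comp.sums]
    | succ s ih =>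
      intro hs
      obtain ⟨h1, h2, h3⟩ := ih (by omega)
      have e : U (s + 1) = MulAction.orbit G (x s) ∪ U s := by
        ext y
        simp only [U, Set.mem_union, Set.mem_setOf_eq, Nat.lt_succ_iff_lt_or_eq]
        exact ⟨fun ⟨k, a, b⟩ => a.elim (fun a => Or.inr ⟨k, a, b⟩) fun a => Or.inl (a ▸ b),
          fun a => a.elim (fun b => ⟨s, Or.inr rfl, b⟩) fun ⟨k, a, b⟩ => ⟨k, Or.inl a, b⟩⟩
      have d : Disjoint (MulAction.orbit G (x s)) (U s) := Set.disjoint_left.2 fun y ⟨g, a⟩ ⟨k, b, g', c⟩ => by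
        have := h.fst k (by omega) s (by omega) (g⁻¹ * g') (by rw [mul_smul, inv_smul_eq_iff]; exact c.trans a.symm)
        omega
      have f : (MulAction.orbit G (x s)).Finite := Set.finite_range _
      have c : (MulAction.orbit G (x s)).ncard = Nat.card G / μ s := by
        rw [← MulAction.index_stabilizer, ← (MulAction.stabilizer G (x s)).index_mul_card, ← h.card s (by omega),
          Nat.mul_div_cancel _ Nat.card_pos]
      have e2 : szs (fun k => Nat.card G / μ k) (s + 1) = Nat.card G / μ s :: szs (fun k => Nat.card G / μ k) s := rfl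
      have e3 : ∀ a l, Comp.sums (a :: l) = Comp.sums l ++ (Comp.sums l).map (a + ·) := fun _ _ => rfl
      rw [e, e2, e3, Set.ncard_union_eq d f h1, c, h3, List.sum_cons, Set.inter_union_distrib_left, List.mem_append]
      refine ⟨f.union h1, ?_, rfl⟩
      by_cases hx : x s ∈ Δ
      · rw [Set.inter_eq_right.2 (by rintro _ ⟨g, rfl⟩; exact hΔ g _ hx),
          Set.ncard_union_eq (d.mono_right Set.inter_subset_right) f (h1.subset Set.inter_subset_right), c]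
        exact Or.inr (List.mem_map.2 ⟨_, h2, rfl⟩)
      · have : Δ ∩ MulAction.orbit G (x s) = ∅ := Set.eq_empty_of_forall_notMem fun y ⟨a, g, b⟩ => hx (by
          have := hΔ g⁻¹ _ a
          rwa [← b, inv_smul_smul] at this)
        rw [this, Set.empty_union]
        exact Or.inl h2
  have e : U r = Set.univ := Set.eq_univ_of_forall fun y => by
    obtain ⟨k, hk, g, rfl⟩ := h.all y
    exact ⟨k, hk, g, rfl⟩
  have := key r le_rfl
  rw [e, Set.inter_univ, Set.ncard_univ] at this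
  exact ⟨Set.finite_univ_iff.1 this.1, this.2⟩

theorem sym_group {X : Type*} [MulAction (cl (gp nets) LN) X] {x : ℕ → X} {σ : Equiv.Perm X} (hN : NetsOK N nets)
    (hM : SymM (cl (gp nets) LN) x σ r μ) {n o : ℕ} (ho : Nat.card (cl (gp nets) LN) = o)
    (hr : 0 < r ∧ μ 0 = o ∧ (szs (fun k => o / μ k) r).sum = n) (hl : LetOK iv' t ti j1 j2 LN LΓ RN)
    (hfa : ∀ g : cl (gp nets) LN, (∀ y : X, g • y = y) → g = 1) {Γ : Type*} [Group Γ] {γ : ℕ → Γ}
    (htop : cl γ LΓ = ⊤) {f : Γ →* Equiv.Perm X} (hf : ∀ a ∈ LΓ, f (γ a) = sδ nets (cl (gp nets) LN) σ t ti a)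
    (hc : Finite (cl γ LΓ) ∧ Nat.card (cl γ LΓ) ≤ n * o) :
    Finite Γ ∧ Function.Injective f ∧ Nat.card Γ = n * o ∧ (cl γ LN).index = n ∧ (∀ g, f g (x 0) = x 0 ↔ g ∈ cl γ LN) ∧
      (∃ e : cl (gp nets) LN ≃* cl γ LN, ∀ g, f (e g) = MulAction.toPermHom (cl (gp nets) LN) X g) ∧
      ((∀ d ∈ Comp.sums (szs (fun k => o / μ k) r), d ∣ n → d = 1 ∨ d = n) →
        ∀ M : Subgroup Γ, M.Normal → M ≠ ⊥ → M ⊔ cl γ LN = ⊤) := by
  have := hN.finite LN
  rw [htop, Subgroup.card_top] at hc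
  have : Finite Γ := have := hc.1; Finite.of_equiv _ Subgroup.topEquiv.toEquiv
  letI : MulAction Γ X := MulAction.compHom X f
  have hs : ∀ (g : Γ) (y : X), g • y = f g y := fun _ _ => rfl
  obtain ⟨-, -, -, -, -, -, l1, l2, -⟩ := hl
  set φ := MulAction.toPermHom (cl (gp nets) LN) X with hφ
  have i1 : Function.Injective φ := (injective_iff_map_eq_one _).2 fun g hg => hfa g fun y =>
    congrArg (fun a : Equiv.Perm X => a y) hg
  have k1 : (cl γ LN).map f = φ.range := by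
    rw [MonoidHom.range_eq_map, ← cl_sval_top, cl_map, cl_map]
    exact cl_congr2 fun a ha => by rw [hf a (l1 a ha).2.2, sδ, if_neg (l1 a ha).1, if_neg (l1 a ha).2.1]
  have k2 : ∀ g : cl (gp nets) LN, ∃ a ∈ cl γ LN, ∀ y : X, a • y = g • y := fun g => by
    obtain ⟨a, ha, e⟩ : φ g ∈ (cl γ LN).map f := k1 ▸ ⟨g, rfl⟩
    exact ⟨a, ha, fun y => by rw [hs, e]; rfl⟩
  have k3 : ∀ k < r, x k ∈ MulAction.orbit Γ (x 0) := by
    intro k
    induction k using Nat.strong_induction_on with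
    | _ k ih =>
      intro hk
      rcases Nat.eq_zero_or_pos k with rfl | h
      · exact MulAction.mem_orbit_self _
      · obtain ⟨i, hi, g, g', e⟩ := hM.reach k hk h
        obtain ⟨a, -, ha⟩ := k2 g
        obtain ⟨b, -, hb⟩ := k2 g'⁻¹
        obtain ⟨c, hc⟩ := ih i hi (by omega)
        refine ⟨b * ((γ t)⁻¹ * (a * c)), ?_⟩
        simp only [mul_smul] at hc ⊢
        rw [hc, ha, hb, hs, map_inv, hf t l2, sδ, if_pos rfl, inv_inv, e, inv_smul_smul]
  have k4 : MulAction.orbit Γ (x 0) = Set.univ := Set.eq_univ_of_forall fun y => by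
    obtain ⟨k, hk, g, rfl⟩ := hM.all y
    obtain ⟨a, -, ha⟩ := k2 g
    rw [← ha]
    exact MulAction.mem_orbit_of_mem_orbit _ (k3 k hk)
  have : MulAction.IsPretransitive Γ X := (MulAction.isPretransitive_iff_orbit_eq_univ (x 0)).2 k4
  obtain ⟨fX, -, cX⟩ := hM.sums ∅ (by simp)
  rw [ho, hr.2.2] at cX
  have k5 : (MulAction.stabilizer Γ (x 0)).index = n := by rw [MulAction.index_stabilizer, k4, Set.ncard_univ, cX]
  have k6 : MulAction.stabilizer (cl (gp nets) LN) (x 0) = ⊤ :=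
    Subgroup.eq_top_of_card_eq _ (by rw [hM.card 0 hr.1, hr.2.1, ho])
  have k7 : cl γ LN ≤ MulAction.stabilizer Γ (x 0) := fun a ha => by
    obtain ⟨g, e⟩ : f a ∈ φ.range := k1 ▸ ⟨a, ha, rfl⟩
    rw [MulAction.mem_stabilizer_iff, hs, ← e]
    exact (k6 ▸ Subgroup.mem_top g : g ∈ MulAction.stabilizer _ (x 0))
  have c1 : Nat.card φ.range = o := by rw [← ho]; exact (Nat.card_congr (MonoidHom.ofInjective i1).toEquiv).symm
  have c2 : o ≤ Nat.card (cl γ LN) := by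
    rw [← c1, ← k1]; exact Nat.card_le_card_of_surjective _ (f.subgroupMap_surjective _)
  have c3 := (MulAction.stabilizer Γ (x 0)).index_mul_card
  have : Nonempty X := ⟨x 0⟩
  have c4 : 0 < n := cX ▸ Nat.card_pos
  have c5 : Nat.card (MulAction.stabilizer Γ (x 0)) ≤ o := Nat.le_of_mul_le_mul_left (by rw [← k5, c3, k5]; exact hc.2) c4
  have k8 : cl γ LN = MulAction.stabilizer Γ (x 0) := Subgroup.eq_of_le_of_card_ge k7 (c5.trans c2)
  have c6 : Nat.card (cl γ LN) = o := le_antisymm (k8 ▸ c5) c2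
  have b1 : Function.Bijective (f.subgroupMap (cl γ LN)) :=
    (Nat.bijective_iff_surjective_and_card _).2 ⟨f.subgroupMap_surjective _, by rw [c6, k1, c1]⟩
  have i2 : Function.Injective f := (injective_iff_map_eq_one _).2 fun a ha => by
    have h1 : a ∈ cl γ LN := by rw [k8, MulAction.mem_stabilizer_iff, hs, ha]; rfl
    exact congrArg Subtype.val (b1.1 (a₁ := ⟨a, h1⟩) (a₂ := 1) (Subtype.ext (ha.trans (map_one f).symm)))
  refine ⟨inferInstance, i2, by rw [← c3, k5, ← k8, c6], k8 ▸ k5, fun g => by rw [k8]; rfl, ?_, fun hp M hM' h1 => ?_⟩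
  · refine ⟨(MonoidHom.ofInjective i1).trans ((MulEquiv.subgroupCongr k1.symm).trans
      (MulEquiv.ofBijective _ b1).symm), fun g => ?_⟩
    exact congrArg Subtype.val ((MulEquiv.ofBijective _ b1).apply_symm_apply _)
  · have d1 := (MulAction.IsBlock.orbit_of_normal (G := Γ) (N := M) (x 0)).ncard_dvd_card ⟨_, MulAction.mem_orbit_self _⟩
    have d2 := (hM.sums (MulAction.orbit M (x 0)) (by
      rintro g _ ⟨m, rfl⟩
      obtain ⟨a, ha, e⟩ := k2 g
      refine ⟨⟨a * m * a⁻¹, hM'.conj_mem _ m.2 a⟩, ?_⟩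
      change (a * m * a⁻¹) • x 0 = g • (m : Γ) • x 0
      rw [mul_smul, mul_smul, MulAction.mem_stabilizer_iff.1 ((MulAction.stabilizer Γ (x 0)).inv_mem (k7 ha)), e])).2.1
    rw [ho] at d2
    rcases hp _ d2 (cX ▸ d1) with d | d
    · refine absurd (eq_bot_iff.2 fun m hm => i2 (Equiv.ext fun y => ?_)) h1
      obtain ⟨a, rfl⟩ := MulAction.exists_smul_eq Γ (x 0) y
      obtain ⟨z, hz⟩ := Set.ncard_eq_one.1 d
      have e1 : (a⁻¹ * m * a) • x 0 ∈ MulAction.orbit M (x 0) := ⟨⟨_, hM'.conj_mem' _ hm a⟩, rfl⟩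
      have e2 := MulAction.mem_orbit_self (M := M) (x 0)
      rw [hz, Set.mem_singleton_iff] at e1 e2
      rw [← e2, mul_smul, mul_smul, inv_smul_eq_iff] at e1
      rw [map_one]
      exact e1
    · have e : MulAction.orbit M (x 0) = Set.univ := Set.eq_of_subset_of_ncard_le (Set.subset_univ _)
        (by rw [Set.ncard_univ, cX, d])
      refine eq_top_iff.2 fun a _ => ?_
      obtain ⟨m, hm⟩ : a • x 0 ∈ MulAction.orbit M (x 0) := e ▸ Set.mem_univ _
      rw [← mul_inv_cancel_left (m : Γ) a]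
      refine Subgroup.mul_mem_sup m.2 ?_
      rw [k8, MulAction.mem_stabilizer_iff, mul_smul, inv_smul_eq_iff]
      exact hm.symm

/-- Words fixing the base points are trivial. -/
theorem one_of_bp {X : Type*} [MulAction (cl (gp nets) LN) X] {x : ℕ → X}
    (C : Ctl nets tb B L iv (cl (gp nets) LN)) {k p : ℕ}
    (hfx : ∀ g : cl (gp nets) LN, g • x k = x k → (g : Equiv.Perm ℕ) p = p) {U : List (List ℕ)}
    (hU : cnd (allL U fun u => subB u L) (subB B (mapL (fun u => wap tb u p) U)) false = true)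
    {Γ : Type*} [Group Γ] {γ : ℕ → Γ} {f : Γ →* Equiv.Perm X} (h0 : ∀ g, f g (x 0) = x 0 ↔ g ∈ cl γ LN)
    {e : cl (gp nets) LN ≃* cl γ LN} (he : ∀ g, f (e g) = MulAction.toPermHom (cl (gp nets) LN) X g) {a : Γ}
    (h : ∀ z ∈ (0, []) :: mapL (fun u => (k, u)) U,
      f a (ra nets (cl (gp nets) LN) (x z.1) z.2) = ra nets (cl (gp nets) LN) (x z.1) z.2) : a = 1 := by
  have h1 := h (0, []) (by simp)
  rw [ra_nil, h0] at h1
  obtain ⟨g, hg⟩ := e.surjective ⟨a, h1⟩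
  have h2 : g = 1 := sym_faith C hfx hU fun u hu => by
    have := h (k, u) (by rw [mapL_eq]; simp [hu])
    rwa [← show (e g : Γ) = a from congrArg Subtype.val hg, he] at this
  rw [h2, map_one] at hg
  exact (congrArg Subtype.val hg).symm

/-- The model given by checked double coset data. -/
theorem sym_model {Nd : ℕ → XN} (hr : 0 < r) (hN : NetsOK N nets) (C : Ctl nets tb B L iv G) [Finite G] {o n : ℕ}
    (ho : Nat.card G ≤ o) (hn : ∀ g ∈ G, g 0 < n) (h0 : ∀ g ∈ G, g 0 = 0 → g ∈ cl (gp nets) L0)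
    (hf0 : ∀ g ∈ cl (gp nets) L0, g 0 = 0) (hL0 : ∀ a ∈ L0, a ∈ L) {ψ : cl (gp nets) L0 →* G}
    (hψ : ∀ a (ha : a ∈ L0), ψ ⟨gp nets a, mem_cl ha⟩ = evG nets G [al a]) {na nf ne : ℕ}
    (hA : XAx F L na nf ne r Nd) {D : ℕ → SD}
    (hD : ∀ j, na ≤ j → j < nf → der tb B L iv [] al [] [] [] F (D j) j = true) {kk : ℕ}
    (hX : ∀ k < r, xnode nets tb B L iv L0 al F nf kk r n o Nd k = true)
    {Lv : List Lev} {Lc : List ℕ} (hE : Exact nets Lv Lc) (hc : G ≤ cl (gp nets) Lc)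
    {Y : List (ℕ × List ℕ × List (List ℕ))}
    (hY : allL Y (fun d => cnd (eqW tb B L [d.1] d.2.1) (syB tb B L L0 al d.1 [j1, j2] d.2.2 d.2.1) false) = true)
    {T : ℕ → CT} (hT : ∀ k < r, ctB nets tb B L iv L0 al F ne [j1, j2] (mapL (·.1) Y) k (T k) true Lv Lc [] = true) :
    ∃ σ : Equiv.Perm (xX nets G F Nd r), Semi nets G σ L0 al ∧ (∀ j < ne, (F j).ok nets G L (xx nets G F Nd hr) σ) ∧
      SymM G (xx nets G F Nd hr) σ r (fun k => (Nd k).2.2.1) ∧ ∀ y, srun nets G σ [j1, j2] y = y := by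
  obtain ⟨τ, h1, h2, h3, h4⟩ := sym_tau hr hN C ho hn h0 hf0 hL0 hψ hA hD hX
  have hJ := prog_id hN C h1 h2 xx_all hE hc hY hT
  obtain ⟨σ, rfl⟩ := exists_sperm hJ
  refine ⟨σ, h1, h2, ⟨xx_all, fun k hk i hi g e => ?_, fun k hk => by rw [xx_stab hk, h3 k hk], h4⟩, hJ⟩
  have := xx_fst (hr := hr) (nets := nets) (F := F) (Nd := Nd) hk g
  rw [e, ← one_smul G (xx _ _ _ _ _ _), xx_fst hi] at this
  exact this.symm

theorem xx_fix {Nd : ℕ → XN} {hr : 0 < r} (C : Ctl nets tb B L iv G) {na nf ne : ℕ} (hA : XAx F L na nf ne r Nd)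
    {k p : ℕ} (hk : k < r) (h : allL (Nd k).1 (fun j => Nat.beq (wap tb (F j).2.2.2.2 p) p) = true) (g : G)
    (hg : g • xx nets G F Nd hr k = xx nets G F Nd hr k) : (g : Equiv.Perm ℕ) p = p := by
  have h1 : xM nets G F Nd k ≤ (cl (fun j => ev (gp nets) (F j).2.2.2.2) (Nd k).1).comap G.subtype :=
    cl_le.2 fun j hj => by
      rw [Subgroup.mem_comap, Subgroup.coe_subtype, C.coe (hA.2.2.1 k hk j hj)]
      exact mem_cl (γ := fun j => ev (gp nets) (F j).2.2.2.2) hj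
  exact fix_of_words C.ht h _ (h1 (xx_stab (hr := hr) hk ▸ hg))

end

/-- Iwasawa's criterion. -/
theorem simple_of_iwa {Γ : Type*} [Group Γ] [Nontrivial Γ] {H : Subgroup Γ}
    (h : ∀ M : Subgroup Γ, M.Normal → M ≠ ⊥ → M ⊔ H = ⊤) {a : Γ} (ha : H ≤ Subgroup.centralizer {a})
    (hn : ∀ N : Subgroup Γ, N.Normal → a ∈ N → N = ⊤) (hp : commutator Γ = ⊤) : IsSimpleGroup Γ := by
  refine ⟨fun M hM => or_iff_not_imp_left.2 fun h1 => ?_⟩
  have c : QuotientGroup.mk' M a ∈ Subgroup.center (Γ ⧸ M) := by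
    have : M ⊔ H ≤ (Subgroup.centralizer {QuotientGroup.mk' M a}).comap (QuotientGroup.mk' M) := sup_le
      (fun m hm => by rw [Subgroup.mem_comap, QuotientGroup.mk'_apply M m, (QuotientGroup.eq_one_iff m).2 hm]; exact Subgroup.one_mem _)
      fun g hg => by
        have := ha hg
        rw [Subgroup.mem_comap, Subgroup.mem_centralizer_singleton_iff] at *
        rw [← map_mul, ← map_mul, this]
    rw [Subgroup.mem_center_iff]
    intro q
    obtain ⟨g, rfl⟩ := QuotientGroup.mk'_surjective M q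
    exact Subgroup.mem_centralizer_singleton_iff.1 (this (h M hM h1 ▸ Subgroup.mem_top g))
  have e := hn ((Subgroup.center (Γ ⧸ M)).comap (QuotientGroup.mk' M)) inferInstance c
  rw [eq_top_iff, ← hp, commutator_def, Subgroup.commutator_le]
  intro g _ g' _
  rw [← QuotientGroup.eq_one_iff, ← QuotientGroup.mk'_apply, map_commutatorElement, commutatorElement_eq_one_iff_mul_comm]
  exact Subgroup.mem_center_iff.1 (e ▸ Subgroup.mem_top g' : g' ∈ (Subgroup.center _).comap _) _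

end Cfsg.Lib.Comp
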